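import Cfsg.Agent.H906.Cover_m3
import Cfsg.Agent.H905.PCover
import Cfsg.Agent.H60.CrossA
import Cfsg.Agent.H875.FnIso_m3
import Cfsg.Agent.TwoFusion.SLTwoFacts
import Cfsg.Agent.H13.M22.Twelve
import Cfsg.Agent.FastGrp
import Cfsg.Agent.Prune
set_option linter.all false

section
prune_inst 0x7f00000000000000000000000000000000000000000000000000000000000000000000000000000000000000000000000000000000000000000000000000000000000000000000000000000000000000003fffffffffffffffffffffffffffbeffbdffffffff

-- part: H875/DefCov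
section
set_option linter.all false
open scoped Cfsg.Agent.FastGrp

/-!
# The linear cover of a core in the defining characteristic (helper875, block D1 of the low-dimensional hub)

* `exists_cover` : `P ≤ GL(ι, F)` a core, `P / scalars ≃* PSL_m(E)`, `char E = char F`, `SL_m(E)` perfect:
  there is a surjection `θ : SL_m(E) → P` over the isomorphism;
* `SD.of_psl2` : if `m = 2`, then `P` is self-dual.
-/

set_option autoImplicit false
set_option linter.unusedSectionVars false
set_option linter.unusedSimpArgs false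

namespace Cfsg.Agent.H875.DefCov

open Cfsg Cfsg.Geo Matrix Cfsg.Agent.H915.LD

universe u v

variable {ι : Type} [Fintype ι] [DecidableEq ι] {F : Type u} [Field F] {P : Subgroup (GL ι F)}

/-- the scalars of `P` have order prime to the characteristic -/
theorem card_scalars_coprime [Finite F] (p : ℕ) [hp : Fact p.Prime] [CharP F p] :
    (Nat.card ((scalars ι F).subgroupOf P)).Coprime p := by
  rw [Nat.coprime_comm, hp.out.coprime_iff_not_dvd]
  intro hd
  obtain ⟨z, hz⟩ := exists_prime_orderOf_dvd_card' p hd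
  have h1 : ((z : P) : GL ι F) ∈ scalars ι F := z.2
  rw [mem_scalars_iff] at h1
  obtain ⟨c, hc⟩ := h1
  have h2 : orderOf ((z : P) : GL ι F) = p := by rw [Subgroup.orderOf_coe, Subgroup.orderOf_coe, hz]
  have h3 : (((z : P) : GL ι F) ^ p : GL ι F) = 1 := by rw [← h2, pow_orderOf_eq_one]
  have h4 : ((c : F) ^ p) • (1 : Matrix ι ι F) = 1 := by
    have := congrArg (Units.val) h3
    rw [Units.val_pow_eq_pow_val, hc, smul_pow, one_pow, Units.val_one] at this
    exact this
  by_cases hι : Nonempty ι
  · obtain ⟨i⟩ := hι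
    have h5 : (c : F) ^ p = 1 := by
      have := congrFun (congrFun h4 i) i
      simpa using this
    have h6 : (c : F) = 1 := by
      have h7 : ((c : F) - 1) ^ p = 0 := by rw [sub_pow_char, h5, one_pow, sub_self]
      exact sub_eq_zero.1 (pow_eq_zero_iff hp.out.ne_zero |>.1 h7)
    have h8 : ((z : P) : GL ι F) = 1 := by
      apply Units.ext
      rw [hc, h6, one_smul, Units.val_one]
    rw [h8, orderOf_one] at h2
    exact hp.out.one_lt.ne h2
  · rw [not_nonempty_iff] at hι
    have h8 : ((z : P) : GL ι F) = 1 := Subsingleton.elim _ _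
    rw [h8, orderOf_one] at h2
    exact hp.out.one_lt.ne h2

/-- **The cover.** -/
theorem exists_cover [Finite F] (hC : Core P) (p : ℕ) [hp : Fact p.Prime] [CharP F p] {m : ℕ} {E : Type v} [Field E]
    [Finite E] [CharP E p] (hperf : commutator (SpecialLinearGroup (Fin (m + 1)) E) = ⊤)
    (e : Soc P ≃* ProjectiveSpecialLinearGroup (Fin (m + 1)) E) :
    ∃ θ : SpecialLinearGroup (Fin (m + 1)) E →* P, Function.Surjective θ ∧
      ∀ g, e (toSoc P (θ g)) = QuotientGroup.mk' _ g := by
  have hker := ker_comp e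
  obtain ⟨θ, h1, h2⟩ := H905.PCover.exists_hom_of_noPCov (G := SpecialLinearGroup (Fin (m + 1)) E) (p := p) hperf
    (fun r hr hne => H60.CrossA.noPCov_SL_cross m p hr hne)
    (πG := QuotientGroup.mk' (Subgroup.center (SpecialLinearGroup (Fin (m + 1)) E))) (QuotientGroup.mk'_surjective _)
    (by rw [QuotientGroup.ker_mk']) hC.commutator_top
    (f := e.toMonoidHom.comp (toSoc P)) (e.surjective.comp (toSoc_surjective P))
    (by rw [hker]; exact scalars_le_center) hp.out (by rw [hker]; exact card_scalars_coprime p)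
  exact ⟨θ, h1, fun g => DFunLike.congr_fun h2 g⟩

/-! ### real elements of `SL_2` -/

section real

open H911.SLTwo

variable {E : Type v} [Field E]

/-- the equation of `H911.SLTwo.real` -/
theorem exists_norm [Finite E] (t : E) (ht : (2 : E) = 0 ∨ t ^ 2 ≠ 4) :
    ∃ x y : E, -(x ^ 2 - t * x * y + y ^ 2) = 1 := by
  have := Fintype.ofFinite E
  by_cases h2 : (2 : E) = 0
  · refine ⟨1, 0, ?_⟩
    linear_combination -h2
  · have h4 := ht.resolve_left h2
    have h44 : (4 : E) ≠ 0 := by
      have : (4 : E) = 2 * 2 := by norm_num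
      rw [this]
      exact mul_ne_zero h2 h2
    have hd : 1 - t ^ 2 / 4 ≠ 0 := by
      intro h0
      apply h4
      field_simp at h0
      linear_combination -h0
    have hR : ringChar E ≠ 2 := by
      intro h
      apply h2
      have h3 : ((2 : ℕ) : E) = 0 := (ringChar.spec E 2).2 (by rw [h])
      exact_mod_cast h3
    obtain ⟨u, y, h⟩ := FiniteField.exists_root_sum_quadratic (R := E)
      (f := Polynomial.X ^ 2 + Polynomial.C 1) (g := Polynomial.C (1 - t ^ 2 / 4) * Polynomial.X ^ 2)
      (by
        have := Polynomial.degree_X_pow_add_C (R := E) (n := 2) (by norm_num) 1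
        exact_mod_cast this)
      (by
        rw [Polynomial.degree_C_mul_X_pow 2 hd]
        rfl)
      (FiniteField.odd_card_of_char_ne_two hR)
    refine ⟨u + t * y / 2, y, ?_⟩
    simp only [Polynomial.eval_add, Polynomial.eval_pow, Polynomial.eval_X, Polynomial.eval_C, Polynomial.eval_mul] at h
    field_simp at h ⊢
    linear_combination -h

/-- elements that are not `±` unipotent are real -/
theorem real_of_tr [Finite E] (M : SpecialLinearGroup (Fin 2) E) (ht : (2 : E) = 0 ∨ tr M ^ 2 ≠ 4) :
    ∃ w : SpecialLinearGroup (Fin 2) E, w * M * w⁻¹ = M⁻¹ := by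
  obtain ⟨x, y, hxy⟩ := exists_norm (H911.SLTwo.tr M) ht
  by_cases h : M.1 1 0 = 0
  · by_cases h' : M.1 0 1 = 0
    · -- diagonal
      refine ⟨ww, ?_⟩
      rw [mul_inv_eq_iff_eq_mul]
      apply ext' <;> simp only [m00, m01, m10, m11, i00, i01, i10, i11, ww00, ww01, ww10, ww11, h, h'] <;> ring
    · have h1 : (ww * M * ww⁻¹).1 1 0 ≠ 0 := by
        simp only [m00, m01, m10, m11, i00, i01, i10, i11, ww00, ww01, ww10, ww11]
        intro h2
        apply h'
        linear_combination -h2
      obtain ⟨w, hw⟩ := real (ww * M * ww⁻¹) (x := x) (y := y) (by rw [H911.SLTwo.tr_conj]; exact hxy) h1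
      refine ⟨ww⁻¹ * w * ww, ?_⟩
      calc ww⁻¹ * w * ww * M * (ww⁻¹ * w * ww)⁻¹ = ww⁻¹ * (w * (ww * M * ww⁻¹) * w⁻¹) * ww := by group
        _ = ww⁻¹ * (ww * M * ww⁻¹)⁻¹ * ww := by rw [hw]
        _ = M⁻¹ := by group
  · exact real M hxy h

/-- elements of order prime to the characteristic are real -/
theorem real_of_reg [Finite E] (p : ℕ) [hp : Fact p.Prime] [CharP E p] (M : SpecialLinearGroup (Fin 2) E)
    (hM : ¬ p ∣ orderOf M) : ∃ w : SpecialLinearGroup (Fin 2) E, w * M * w⁻¹ = M⁻¹ := by
  by_cases ht : (2 : E) = 0 ∨ H911.SLTwo.tr M ^ 2 ≠ 4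
  · exact real_of_tr M ht
  · push Not at ht
    obtain ⟨h2, h4⟩ := ht
    -- `M ^ 2 = ± ...`
    have hsq := sq_mat M
    set t := H911.SLTwo.tr M with ht'
    have ht2 : t = 2 ∨ t = -2 := by
      have : (t - 2) * (t + 2) = 0 := by linear_combination h4
      rcases mul_eq_zero.1 this with h | h
      · left; linear_combination h
      · right; linear_combination h
    -- `c = t / 2`, `(M - c) ^ 2 = 0`, `c ^ 2 = 1`
    obtain ⟨c, hc, hc2⟩ : ∃ c : E, t = 2 * c ∧ c * c = 1 := by
      rcases ht2 with h | h
      · exact ⟨1, by rw [h]; ring, by ring⟩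
      · exact ⟨-1, by rw [h]; ring, by ring⟩
    have hN : (M.1 - c • (1 : Matrix (Fin 2) (Fin 2) E)) ^ 2 = 0 := by
      rw [pow_two, sub_mul, mul_sub, mul_sub, hsq, hc, Matrix.smul_mul, Matrix.mul_smul, Matrix.smul_mul,
        Matrix.one_mul, Matrix.mul_one, Matrix.mul_smul, Matrix.mul_one, smul_smul, hc2, one_smul, mul_smul]
      rw [two_smul]
      abel
    have hpow : M.1 ^ p = c • (1 : Matrix (Fin 2) (Fin 2) E) := by
      have hcom : Commute M.1 (c • (1 : Matrix (Fin 2) (Fin 2) E)) := by
        rw [Commute, SemiconjBy, Matrix.mul_smul, Matrix.smul_mul, Matrix.mul_one, Matrix.one_mul]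
      have h5 := sub_pow_char_of_commute (p := p) (R := Matrix (Fin 2) (Fin 2) E) hcom
      have h6 : (M.1 - c • (1 : Matrix (Fin 2) (Fin 2) E)) ^ p = 0 := by
        obtain ⟨k, hk⟩ : ∃ k, p = 2 + k := ⟨p - 2, by have := hp.out.two_le; omega⟩
        rw [hk, pow_add, hN, zero_mul]
      rw [h6] at h5
      have h7 : (c • (1 : Matrix (Fin 2) (Fin 2) E)) ^ p = c • (1 : Matrix (Fin 2) (Fin 2) E) := by
        rw [smul_pow, one_pow]
        congr 1
        have hp2 : p ≠ 2 := by
          rintro rfl
          apply h2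
          exact_mod_cast CharP.cast_eq_zero E 2
        obtain ⟨k, hk⟩ : ∃ k, p = 2 * k + 1 := by
          obtain ⟨k, hk⟩ := hp.out.odd_of_ne_two hp2
          exact ⟨k, hk⟩
        rw [hk, pow_add, pow_mul, pow_two, hc2, one_pow, one_mul, pow_one]
      rw [← h7]
      exact (sub_eq_zero.1 h5.symm)
    -- `M ^ (2 p) = 1`, so `M ^ 2 = 1`
    have hM2 : M ^ 2 = 1 := by
      have h8 : M ^ (p * 2) = 1 := by
        apply Subtype.ext
        rw [pow_mul]
        change (M ^ p).1 ^ 2 = 1
        have : (M ^ p).1 = M.1 ^ p := rfl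
        rw [this, hpow, smul_pow, one_pow, pow_two, hc2, one_smul]
      have h9 := orderOf_dvd_of_pow_eq_one h8
      have hcop : (orderOf M).Coprime p := ((Nat.Prime.coprime_iff_not_dvd hp.out).2 hM).symm
      exact orderOf_dvd_iff_pow_eq_one.1 (hcop.dvd_of_dvd_mul_left h9)
    refine ⟨1, ?_⟩
    rw [one_mul, inv_one, mul_one, eq_comm, inv_eq_iff_mul_eq_one, ← pow_two]
    exact hM2

end real

/-- **`P` is self-dual if its socle is `PSL_2(E)`, `E` of the characteristic of `F`.** -/
theorem sd_of_psl2 [Finite F] (hC : Core P) (p : ℕ) [hp : Fact p.Prime] [CharP F p] {E : Type v} [Field E]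
    [Finite E] [CharP E p] (hE : 3 < Nat.card E) (e : Soc P ≃* ProjectiveSpecialLinearGroup (Fin 2) E) : SD P := by
  have := Fintype.ofFinite E
  have hperf : commutator (SpecialLinearGroup (Fin 2) E) = ⊤ :=
    TwoFusion.SLTwoFacts.commutator_eq_top (by rwa [← Nat.card_eq_fintype_card])
  obtain ⟨θ, hθ, -⟩ := exists_cover (m := 1) hC p hperf e
  intro g hg
  obtain ⟨x, hx⟩ := hθ ⟨g, hg⟩
  have key := H911.Base.trace_of_reg p ((Units.coeHom (Matrix ι ι F)).comp (P.subtype.comp θ)) (RingHom.id F)
    (fun x : SpecialLinearGroup (Fin 2) E => x⁻¹) (fun x k => by rw [inv_pow]) (fun y hy => by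
      obtain ⟨w, hw⟩ := real_of_reg p y hy
      change (((θ y : P) : GL ι F) : Matrix ι ι F).trace = (((θ y⁻¹ : P) : GL ι F) : Matrix ι ι F).trace
      rw [← hw, map_mul, map_mul, map_inv]
      exact (H915.LD.tr_conj ((θ w : P) : GL ι F) ((θ y : P) : GL ι F)).symm) x
  change (((θ x : P) : GL ι F) : Matrix ι ι F).trace = (((θ x⁻¹ : P) : GL ι F) : Matrix ι ι F).trace at key
  rw [map_inv, hx] at key
  exact key.symm

end Cfsg.Agent.H875.DefCov
end

-- part: H913/S6/M22
section
set_option linter.all false
open scoped Cfsg.Agent.FastGrp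

/-!
# `M22` in odd characteristic: dimension at least seven (helper913)

From helper13's `frob7` (`2³:7`).
-/

set_option autoImplicit false
set_option linter.unusedSectionVars false

namespace Cfsg.Agent.H913.S6

open Cfsg Cfsg.Geo Matrix Module
open H915.LD (Core Soc toSoc)

universe u

variable {ι : Type} [Fintype ι] [DecidableEq ι] {F : Type u} [Field F] {P : Subgroup (GL ι F)}

/-- the representation over the algebraic closure -/
noncomputable def rp (P : Subgroup (GL ι F)) : P →* Module.End (AlgebraicClosure F) (ι → AlgebraicClosure F) :=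
  ((Matrix.toLinAlgEquiv' : Matrix ι ι (AlgebraicClosure F) ≃ₐ[AlgebraicClosure F] _).toAlgHom.toRingHom.toMonoidHom.comp
    (RingHom.mapMatrix (algebraMap F (AlgebraicClosure F))).toMonoidHom).comp
      ((Units.coeHom (Matrix ι ι F)).comp P.subtype)

theorem rp_apply (g : P) : rp P g = Matrix.toLin' (((g : GL ι F) : Matrix ι ι F).map (algebraMap F (AlgebraicClosure F))) :=
  rfl

theorem rp_injective : Function.Injective (rp P) := by
  intro a b h
  rw [rp_apply, rp_apply] at h
  have h1 := Matrix.toLin'.injective h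
  apply Subtype.ext
  apply Units.ext
  ext i j
  have h2 := congrFun (congrFun h1 i) j
  rw [Matrix.map_apply, Matrix.map_apply] at h2
  exact (algebraMap F (AlgebraicClosure F)).injective h2

variable [Finite F]

/-- the covering data of a core -/
theorem cov_of_core {T : Type*} [Group T] (_hC : Core P) (e : Soc P ≃* T) :
    H13.M22.Cov (e.toMonoidHom.comp (toSoc P)) (rp P) where
  surj := e.surjective.comp (H915.LD.toSoc_surjective P)
  cen := by
    rw [H915.LD.ker_comp e]
    exact H915.LD.scalars_le_center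
  scal := by
    intro z hz
    rw [H915.LD.ker_comp e, Subgroup.mem_subgroupOf, mem_scalars_iff] at hz
    obtain ⟨c, hc⟩ := hz
    refine ⟨algebraMap F (AlgebraicClosure F) c, ?_⟩
    rw [rp_apply, hc]
    ext i j
    simp only [Matrix.one_apply, Pi.single_apply, Matrix.toLin'_apply, LinearMap.coe_comp, LinearMap.coe_single,
      Function.comp_apply, Matrix.mulVec_single, MulOpposite.op_one, one_smul, Matrix.col_apply, Matrix.map_apply,
      Matrix.smul_apply, smul_eq_mul, mul_ite, mul_one, mul_zero, LinearMap.smul_apply, Module.End.one_apply,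
      Pi.smul_apply]
    by_cases h : i = j
    · subst h; simp
    · simp [Ne.symm h]
  inj := rp_injective
  card := by
    obtain ⟨p, hp⟩ := CharP.exists F
    have hpp : Fact p.Prime := ⟨CharP.char_is_prime F p⟩
    rw [H915.LD.ker_comp e]
    intro h
    have h1 : CharP (AlgebraicClosure F) p := charP_of_injective_algebraMap (algebraMap F _).injective p
    rw [CharP.cast_eq_zero_iff (AlgebraicClosure F) p] at h
    have h2 := H875.DefCov.card_scalars_coprime (P := P) p
    exact hpp.out.one_lt.ne' (Nat.eq_one_of_dvd_coprimes h2 h (dvd_refl p))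

/-- **`M22`, odd characteristic.** -/
theorem m22_ge (hC : Core P) (e : Soc P ≃* Spor.M22) (h2 : (2 : F) ≠ 0) (hn : Fintype.card ι ≤ 13) :
    7 ≤ Fintype.card ι := by
  have hfin : Finite P := inferInstance
  have h := cov_of_core hC e
  obtain ⟨g, hg⟩ := h.surj (H13.M22.em H13.M22.x0P)
  obtain ⟨k, hk⟩ := h.surj (H13.M22.em H13.M22.sP)
  have h2' : (2 : AlgebraicClosure F) ≠ 0 := by
    intro h0
    apply h2
    apply (algebraMap F (AlgebraicClosure F)).injective
    rw [map_ofNat, h0, map_zero]
  have h3 := (H13.M22.frob7 h h2' H13.M22.fr7 hg hk (by rwa [Module.finrank_fintype_fun_eq_card])).1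
  rwa [Module.finrank_fintype_fun_eq_card] at h3

end Cfsg.Agent.H913.S6
end
end
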