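import Cfsg.Agent.H910.Six.Two_m3
import Cfsg.Agent.ClassicalGeometry.HermParabolic
import Cfsg.Agent.H937.T2Rep_m3
import Cfsg.Agent.H464.L2StageOne_m3
import Cfsg.Agent.H906.Cover_m3
import Cfsg.Agent.H910.Six.OmegaChk_m3
import Cfsg.Agent.H218.SdDC
import Cfsg.Agent.H913.S6.M22
import Cfsg.Agent.H887.DS.SixFive
import Cfsg.Agent.H925.U52Form
import Cfsg.Agent.H879.Nine.Ctx_m3
import Cfsg.Agent.H571.JGU
import Cfsg.Agent.H910.Six.Hex_m3
import Cfsg.Agent.H637.A7Main
import Cfsg.Agent.H913.GeoBasic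
import Cfsg.Agent.H882.Del.Dim
import Cfsg.Agent.CoThreeStd.MTwelveCent
import Cfsg.Agent.H48.M12Three
import Cfsg.Agent.H24.M12.Main
import Cfsg.Agent.H918.U43.Main
import Cfsg.Agent.H936.List12c
import Cfsg.Agent.H937.G24.Row
import Cfsg.Agent.H921.M22.Final_m3
import Cfsg.Agent.H175.BdSp_m3
import Cfsg.Agent.H921.SporSuz
import Cfsg.Agent.H614.AMod.Main
import Cfsg.Agent.H464.L2Num_m3
import Cfsg.Agent.H936.U33All
import Cfsg.Agent.H936.U33Two
import Cfsg.Agent.H916.SpSixK_mg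
import Cfsg.Agent.H6.M11.Main11
import Cfsg.Agent.H4.LDM.Stage24
import Cfsg.Agent.H1.TJ1
import Cfsg.Agent.H1.TJ2
import Cfsg.Agent.H878.Sz.MainThree
import Cfsg.Agent.H219.HerSmall
import Cfsg.Agent.H876.D3.Main5_m3
import Cfsg.Agent.FastGrp
import Cfsg.Agent.Prune
set_option linter.all false

section
prune_inst 0x7ff0adfbebf83fffdfff7e77a6decffdf9b93fffe6dff9cbffe061ff2bdf6b02c9c5238d8bea12fe1eb6421410e87b43ffffeeffe86fdc7ffffd5ff41ffbffcfedf7b508511c88b40fbc0ff703f0778e7f3fffffffffffffffffffffffffffbeffbfffffffff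

-- part: H910/Six/A6Main_mg
section
prune_inst 0x80002000000000000000040000000000000000000000000010000400800004000100000000000002000000001000020020000000a000000000000000000000800000000000080000000000000000000000000000000000000000000000000000
set_option linter.all false
open scoped Cfsg.Agent.FastGrp

-- part: H910/Six/A6Three
section
/-!
# `3.A₆` is not maximal in `SL₆(q)`, `SU₆(q)` (helper910)
-/

set_option autoImplicit false
set_option linter.unusedSectionVars false

open Matrix Equiv Cfsg Cfsg.Geo Cfsg.Agent.H915.LD Cfsg.Agent.H910.Aut Cfsg.Agent.LFourA.AltPsiAut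
open Cfsg.Agent.ClassicalGeometry.HermParabolic

namespace Cfsg.Agent.H910.Six

universe u

variable {F : Type u} [Field F]

section common

variable {P : Subgroup (GL (Fin 6) F)} {e : Soc P ≃* alternatingGroup (Fin 6)}

theorem core_irr (hC : Core P) (W : Submodule F (Fin 6 → F)) (h : ∀ g, ∀ v ∈ W, mrep P g *ᵥ v ∈ W) : W = ⊥ ∨ W = ⊤ := by
  apply hC.absIrred.1 W
  rintro _ ⟨g, hg, rfl⟩
  rintro _ ⟨v, hv, rfl⟩
  rw [Matrix.toLin'_apply]
  exact h ⟨g, hg⟩ v hv

theorem core_cent (hC : Core P) (X : M6 F) (h : ∀ g, mrep P g * X = X * mrep P g) : ∃ c : F, X = c • (1 : M6 F) := by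
  apply hC.absIrred.2 X
  rintro _ ⟨g, hg, rfl⟩
  exact (h ⟨g, hg⟩).symm

/-- the explicit form of a core of type `3.A₆` -/
theorem explicit_of_core (hC : Core P) {p : ℕ} [CharP F p] (hp : 5 ≤ p) (e : Soc P ≃* alternatingGroup (Fin 6))
    (h3 : Nat.card ((scalars (Fin 6) F).subgroupOf P) = 3) :
    Hex (mrep P) (phi e) ∧ ∃ (t1 t2 u r x a b : P) (B : GL (Fin 6) F) (w : F),
      Data (mrep P) (phi e) t1 t2 u r x a b ∧ Explicit B w (mrep P) t1 t2 u r x := by
  have h := hex_of_core hC e h3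
  obtain ⟨t1, t2, u, r, x, a, b, d⟩ := h.exists_data
  obtain ⟨B, w, ex⟩ := normal_form hp h d (h.trace_two hp (core_irr hC) (core_cent hC))
  exact ⟨h, t1, t2, u, r, x, a, b, B, w, d, ex⟩

theorem det_diag {B D : GL (Fin 6) F}
    (hD : (D : M6 F) * (B : M6 F) = (B : M6 F) * Matrix.diagonal ![-1, 1, 1, 1, 1, -1]) : D ∈ specialLinear (Fin 6) F := by
  have h1 := congrArg Matrix.det hD
  rw [Matrix.det_mul, Matrix.det_mul, Matrix.det_diagonal] at h1
  have h2 : (∏ i, (![-1, 1, 1, 1, 1, -1] : Fin 6 → F) i) = 1 := by simp [Fin.prod_univ_six]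
  rw [h2, mul_comm] at h1
  have h3 : (B : M6 F).det ≠ 0 := by
    have := (Matrix.GeneralLinearGroup.det B).ne_zero
    rwa [Matrix.GeneralLinearGroup.val_det_apply] at this
  have h4 := mul_left_cancel₀ h3 h1
  change Matrix.GeneralLinearGroup.det D = 1
  apply Units.ext
  rw [Matrix.GeneralLinearGroup.val_det_apply, h4, Units.val_one]

theorem det_conj' (hC : Core P) (y : GL (Fin 6) F) (t : P) : y * (t : GL (Fin 6) F) * y⁻¹ ∈ specialLinear (Fin 6) F := by
  change Matrix.GeneralLinearGroup.det (y * (t : GL (Fin 6) F) * y⁻¹) = 1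
  rw [map_mul, map_mul, map_inv, hC.det t.2, mul_one, mul_inv_cancel]

end common

/-- **Linear case, `|Z| = 3`.** -/
theorem no_a6_three_sl6 [Finite F] {p : ℕ} [CharP F p] (hp : 5 ≤ p) (hp' : p.Prime) {H P : Subgroup (GL (Fin 6) F)}
    (hmax : IsMaximalIn (specialLinear (Fin 6) F) H) (hres : IsResidualCore H P)
    (e : Soc P ≃* alternatingGroup (Fin 6)) (h3 : Nat.card ((scalars (Fin 6) F).subgroupOf P) = 3) : False := by
  have hC := core_of_residual hres
  obtain ⟨h, t1, t2, u, r, x, a, b, B, w, d, ex⟩ := explicit_of_core hC hp e h3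
  exact not_maximal hp hp' hmax hres h d ex (fun D hD => det_diag hD) (fun y _ => det_conj' hC y t1)

section unitary

variable [Fintype F] {q : ℕ} (hF : Fintype.card F = q ^ 2)

/-- the automorphism `x ↦ x^q` -/
abbrev tau (hF : Fintype.card F = q ^ 2) : F ≃+* F := Cfsg.Agent.LieClassical.HermBasic.conj hF

theorem tau_tau (M : M6 F) : (M.map (tau hF)).map (tau hF) = M := map_conj_conj hF M

theorem mono_unitary {σ : Perm (Fin 6)} {dd : Fin 6 → F} (h : ∀ j, dd j * tau hF (dd j) = 1) :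
    (mono σ dd)ᵀ * (mono σ dd).map (tau hF) = 1 := by
  ext i j
  rw [Matrix.mul_apply, Finset.sum_eq_single (σ i)]
  · rw [Matrix.transpose_apply, Matrix.map_apply, mono_apply, mono_apply, if_pos rfl, Matrix.one_apply]
    by_cases hij : i = j
    · subst hij
      rw [if_pos rfl, if_pos rfl, h]
    · rw [if_neg (fun h' => hij (σ.injective h')), if_neg hij, map_zero, mul_zero]
  · intro k _ hk
    rw [Matrix.transpose_apply, mono_apply, if_neg hk, zero_mul]
  · intro h; exact absurd (Finset.mem_univ _) h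

variable {P : Subgroup (GL (Fin 6) F)} {e : Soc P ≃* alternatingGroup (Fin 6)} {t1 t2 u r x a b : P} {w : F}
  {B : GL (Fin 6) F}

/-- the centre is unitary -/
theorem w_norm (h : Hex (mrep P) (phi e)) (hPU : P ≤ GU 6 F q) (hw : w * w + w + 1 = 0) : w * tau hF w = 1 := by
  obtain ⟨X, Y, hX, hY, hne⟩ := h.nc
  have hz : phi e (X * Y * X⁻¹ * Y⁻¹) = 1 := by
    rw [map_mul, map_mul, map_mul, map_inv, map_inv, hX, hY]; decide
  obtain ⟨c, hc, hc0, -, h1⟩ := h.smul_of_ker hz
  obtain ⟨c', hc', hm⟩ := h.ker _ hz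
  have hcc : c' ≠ 1 := by
    rintro rfl
    apply hne
    have : X * Y * X⁻¹ * Y⁻¹ = 1 := h.inj (by rw [hm, one_smul, map_one])
    calc X * Y = (X * Y * X⁻¹ * Y⁻¹) * (Y * X) := by group
      _ = Y * X := by rw [this, one_mul]
  have hU := (mem_GU_iff_matrix hF _).1 (hPU (X * Y * X⁻¹ * Y⁻¹ : P).2)
  rw [← mrep_apply, hm] at hU
  have e1 := congrFun (congrFun hU 0) 0
  rw [Matrix.mul_apply, Finset.sum_eq_single (0 : Fin 6)] at e1
  · rw [Matrix.transpose_apply, Matrix.map_apply, Matrix.smul_apply, Matrix.one_apply_eq, smul_eq_mul, mul_one] at e1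
    have e2 : c' * c' + c' + 1 = 0 := by
      have : (c' - 1) * (c' * c' + c' + 1) = 0 := by linear_combination hc'
      exact (mul_eq_zero.1 this).resolve_left (sub_ne_zero.2 hcc)
    have e3 : (c' - w) * (c' - w * w) = 0 := by
      have w3 : w * w * w = 1 := by linear_combination (w - 1) * hw
      linear_combination e2 - c' * hw + w3
    have w3 : w * w * w = 1 := by linear_combination (w - 1) * hw
    rcases mul_eq_zero.1 e3 with e4 | e4
    · rw [← sub_eq_zero.1 e4]; exact e1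
    · rw [sub_eq_zero.1 e4, map_mul] at e1
      have e5 : tau hF w * tau hF w * tau hF w = 1 := by rw [← map_mul, ← map_mul, w3, map_one]
      have e6 : (w * tau hF w) * (w * tau hF w) = 1 := by linear_combination e1
      have e7 : (w * tau hF w) * (w * tau hF w) * (w * tau hF w) = 1 := by
        linear_combination (tau hF w * tau hF w * tau hF w) * w3 + e5
      rw [e6, one_mul] at e7
      exact e7
  · intro i _ hi
    rw [Matrix.map_apply, Matrix.smul_apply, Matrix.one_apply_ne hi, smul_zero, map_zero, mul_zero]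
  · intro h; exact absurd (Finset.mem_univ _) h

/-- the Gram matrix of the basis is scalar -/
theorem gram (hC : Core P) (h : Hex (mrep P) (phi e)) (d : Data (mrep P) (phi e) t1 t2 u r x a b)
    (ex : Explicit B w (mrep P) t1 t2 u r x) (hPU : P ≤ GU 6 F q) :
    ∃ l : F, (B : M6 F)ᵀ * (B : M6 F).map (tau hF) = l • (1 : M6 F) := by
  have hw := ex.hw
  have wn := w_norm hF h hPU hw
  have w3 : w * w * w = 1 := by linear_combination (w - 1) * hw
  have wn2 : (w * w) * tau hF (w * w) = 1 := by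
    rw [map_mul]; linear_combination (w * tau hF w + 1) * wn
  obtain ⟨J, hJ⟩ : ∃ J : M6 F, J = (B : M6 F)ᵀ * (B : M6 F).map (tau hF) := ⟨_, rfl⟩
  have key : ∀ (g : P) (M : M6 F), mrep P g * (B : M6 F) = (B : M6 F) * M → Mᵀ * M.map (tau hF) = 1 →
      mrep P g * ((B : M6 F) * J.map (tau hF) * ((B⁻¹ : GL (Fin 6) F) : M6 F)) =
        ((B : M6 F) * J.map (tau hF) * ((B⁻¹ : GL (Fin 6) F) : M6 F)) * mrep P g := by
    intro g M hg hM
    have hU := (mem_GU_iff_matrix hF _).1 (hPU g.2)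
    rw [← mrep_apply] at hU
    have e1 : Mᵀ * J * M.map (tau hF) = J := by
      calc Mᵀ * J * M.map (tau hF) = ((B : M6 F) * M)ᵀ * ((B : M6 F) * M).map (tau hF) := by
            rw [hJ, Matrix.transpose_mul, Matrix.map_mul]; simp only [mul_assoc]
        _ = (B : M6 F)ᵀ * ((mrep P g)ᵀ * (mrep P g).map (tau hF)) * (B : M6 F).map (tau hF) := by
            rw [← hg, Matrix.transpose_mul, Matrix.map_mul]; simp only [mul_assoc]
        _ = J := by rw [hU, mul_one, hJ]
    have hM' : M.map (tau hF) * Mᵀ = 1 := mul_eq_one_comm.1 hM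
    have e2 : J * M.map (tau hF) = M.map (tau hF) * J := by
      calc J * M.map (tau hF) = (M.map (tau hF) * Mᵀ) * (J * M.map (tau hF)) := by rw [hM', one_mul]
        _ = M.map (tau hF) * (Mᵀ * J * M.map (tau hF)) := by simp only [mul_assoc]
        _ = M.map (tau hF) * J := by rw [e1]
    have e3 : J.map (tau hF) * M = M * J.map (tau hF) := by
      have := congrArg (fun Z : M6 F => Z.map (tau hF)) e2
      simp only [Matrix.map_mul, tau_tau] at this
      exact this
    have hg' : M * ((B⁻¹ : GL (Fin 6) F) : M6 F) = ((B⁻¹ : GL (Fin 6) F) : M6 F) * mrep P g := by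
      calc M * ((B⁻¹ : GL (Fin 6) F) : M6 F) = ((B⁻¹ : GL (Fin 6) F) : M6 F) * ((B : M6 F) * M) *
            ((B⁻¹ : GL (Fin 6) F) : M6 F) := by rw [← mul_assoc, Units.inv_mul, one_mul]
        _ = ((B⁻¹ : GL (Fin 6) F) : M6 F) * mrep P g := by
            rw [← hg, mul_assoc, mul_assoc, Units.mul_inv, mul_one]
    calc mrep P g * ((B : M6 F) * J.map (tau hF) * ((B⁻¹ : GL (Fin 6) F) : M6 F))
        = (mrep P g * (B : M6 F)) * J.map (tau hF) * ((B⁻¹ : GL (Fin 6) F) : M6 F) := by simp only [mul_assoc]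
      _ = (B : M6 F) * (M * J.map (tau hF)) * ((B⁻¹ : GL (Fin 6) F) : M6 F) := by rw [hg]; simp only [mul_assoc]
      _ = (B : M6 F) * J.map (tau hF) * (M * ((B⁻¹ : GL (Fin 6) F) : M6 F)) := by rw [← e3]; simp only [mul_assoc]
      _ = _ := by rw [hg']; simp only [mul_assoc]
  have one : (1 : F) * tau hF 1 = 1 := by rw [map_one, mul_one]
  obtain ⟨l, hl⟩ := core_cent hC _ (d.induct h (Q := fun g => mrep P g * ((B : M6 F) * J.map (tau hF) *
      ((B⁻¹ : GL (Fin 6) F) : M6 F)) = ((B : M6 F) * J.map (tau hF) * ((B⁻¹ : GL (Fin 6) F) : M6 F)) * mrep P g)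
    (fun k hk => by
      obtain ⟨z, -, hz⟩ := h.ker k hk
      rw [hz, smul_mul_assoc, mul_smul_comm, one_mul, mul_one]) (fun g g' hg hg' => by
      rw [map_mul, mul_assoc, hg', ← mul_assoc, hg, mul_assoc])
    (key _ _ ex.e1 (mono_unitary hF fun _ => one)) (key _ _ ex.e2 (mono_unitary hF fun _ => one))
    (key _ _ ex.eu (mono_unitary hF fun _ => one)) (key _ _ ex.er (mono_unitary hF fun _ => one))
    (key _ _ ex.ex (mono_unitary hF fun j => by
      fin_cases j
      · exact one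
      · exact one
      · exact one
      · exact one
      · exact wn2
      · exact wn)))
  refine ⟨tau hF l, ?_⟩
  have e1 : J.map (tau hF) = l • (1 : M6 F) := by
    calc J.map (tau hF) = ((B⁻¹ : GL (Fin 6) F) : M6 F) * ((B : M6 F) * J.map (tau hF) * ((B⁻¹ : GL (Fin 6) F) : M6 F)) *
          (B : M6 F) := by
          simp only [mul_assoc, Units.inv_mul, mul_one]
          rw [← mul_assoc, Units.inv_mul, one_mul]
      _ = l • (1 : M6 F) := by rw [hl, mul_smul_comm, smul_mul_assoc, mul_one, Units.inv_mul]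
  rw [← hJ, ← tau_tau hF J, e1]
  ext i j
  rw [Matrix.map_apply, Matrix.smul_apply, Matrix.smul_apply, smul_eq_mul, smul_eq_mul, map_mul, Matrix.one_apply]
  split_ifs <;> simp

theorem inv_tau (g : GL (Fin 6) F) : (g : M6 F).map (tau hF) * ((g⁻¹ : GL (Fin 6) F) : M6 F).map (tau hF) = 1 := by
  rw [← Matrix.map_mul, Units.mul_inv]
  exact Matrix.map_one _ (map_zero _) (map_one _)

theorem inv_tr (g : GL (Fin 6) F) : ((g⁻¹ : GL (Fin 6) F) : M6 F)ᵀ * (g : M6 F)ᵀ = 1 := by
  rw [← Matrix.transpose_mul, Units.mul_inv, Matrix.transpose_one]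

theorem sim_of {l c : F} (hl : (B : M6 F)ᵀ * (B : M6 F).map (tau hF) = l • (1 : M6 F)) {g : GL (Fin 6) F} {N : M6 F}
    (hg : (g : M6 F) * (B : M6 F) = (B : M6 F) * N) (hN : Nᵀ * N.map (tau hF) = c • (1 : M6 F)) :
    (g : M6 F)ᵀ * (g : M6 F).map (tau hF) = c • (1 : M6 F) := by
  have e1 : (B : M6 F)ᵀ * ((g : M6 F)ᵀ * (g : M6 F).map (tau hF)) * (B : M6 F).map (tau hF) =
      c • ((B : M6 F)ᵀ * (B : M6 F).map (tau hF)) := by
    calc (B : M6 F)ᵀ * ((g : M6 F)ᵀ * (g : M6 F).map (tau hF)) * (B : M6 F).map (tau hF)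
        = ((g : M6 F) * (B : M6 F))ᵀ * ((g : M6 F) * (B : M6 F)).map (tau hF) := by
          rw [Matrix.transpose_mul, Matrix.map_mul]; simp only [mul_assoc]
      _ = Nᵀ * ((B : M6 F)ᵀ * (B : M6 F).map (tau hF)) * N.map (tau hF) := by
          rw [hg, Matrix.transpose_mul, Matrix.map_mul]; simp only [mul_assoc]
      _ = c • ((B : M6 F)ᵀ * (B : M6 F).map (tau hF)) := by
          rw [hl, mul_smul_comm, mul_one, smul_mul_assoc, hN, smul_comm]
  calc (g : M6 F)ᵀ * (g : M6 F).map (tau hF) = (((B⁻¹ : GL (Fin 6) F) : M6 F)ᵀ * (B : M6 F)ᵀ) *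
        ((g : M6 F)ᵀ * (g : M6 F).map (tau hF)) *
        ((B : M6 F).map (tau hF) * ((B⁻¹ : GL (Fin 6) F) : M6 F).map (tau hF)) := by
        rw [inv_tr, inv_tau, one_mul, mul_one]
    _ = ((B⁻¹ : GL (Fin 6) F) : M6 F)ᵀ * ((B : M6 F)ᵀ * ((g : M6 F)ᵀ * (g : M6 F).map (tau hF)) *
        (B : M6 F).map (tau hF)) * ((B⁻¹ : GL (Fin 6) F) : M6 F).map (tau hF) := by simp only [mul_assoc]
    _ = c • ((((B⁻¹ : GL (Fin 6) F) : M6 F)ᵀ * (B : M6 F)ᵀ) *
        ((B : M6 F).map (tau hF) * ((B⁻¹ : GL (Fin 6) F) : M6 F).map (tau hF))) := by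
        rw [e1, mul_smul_comm, smul_mul_assoc]; simp only [mul_assoc]
    _ = c • (1 : M6 F) := by rw [inv_tr, inv_tau, one_mul]

theorem conj_unitary {c : F} {y t : GL (Fin 6) F} (hy : (y : M6 F)ᵀ * (y : M6 F).map (tau hF) = c • (1 : M6 F))
    (ht : t ∈ GU 6 F q) : y * t * y⁻¹ ∈ GU 6 F q := by
  rw [mem_GU_iff_matrix hF] at ht ⊢
  have ht' : (t : M6 F)ᵀ * (t : M6 F).map (tau hF) = 1 := ht
  change (((y * t * y⁻¹ : GL (Fin 6) F)) : M6 F)ᵀ * ((y * t * y⁻¹ : GL (Fin 6) F) : M6 F).map (tau hF) = 1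
  rw [Units.val_mul, Units.val_mul, Matrix.transpose_mul, Matrix.transpose_mul, Matrix.map_mul, Matrix.map_mul]
  calc ((y⁻¹ : GL (Fin 6) F) : M6 F)ᵀ * ((t : M6 F)ᵀ * (y : M6 F)ᵀ) * ((y : M6 F).map (tau hF) * (t : M6 F).map (tau hF) *
        ((y⁻¹ : GL (Fin 6) F) : M6 F).map (tau hF))
      = ((y⁻¹ : GL (Fin 6) F) : M6 F)ᵀ * ((t : M6 F)ᵀ * ((y : M6 F)ᵀ * (y : M6 F).map (tau hF)) * (t : M6 F).map (tau hF)) *
        ((y⁻¹ : GL (Fin 6) F) : M6 F).map (tau hF) := by simp only [mul_assoc]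
    _ = ((y⁻¹ : GL (Fin 6) F) : M6 F)ᵀ * (c • (1 : M6 F)) * ((y⁻¹ : GL (Fin 6) F) : M6 F).map (tau hF) := by
        rw [hy, mul_smul_comm, mul_one, smul_mul_assoc, ht']
    _ = (((y⁻¹ : GL (Fin 6) F) : M6 F)ᵀ * (y : M6 F)ᵀ) *
        ((y : M6 F).map (tau hF) * ((y⁻¹ : GL (Fin 6) F) : M6 F).map (tau hF)) := by rw [← hy]; simp only [mul_assoc]
    _ = 1 := by rw [inv_tr, inv_tau, one_mul]

/-- conjugate of an Eisenstein integer -/
def econj (x : E) : E := (x.1 - x.2, -x.2)

theorem tau_ev (hw : w * w + w + 1 = 0) (wn : w * tau hF w = 1) (x : E) : tau hF (ev w x) = ev w (econj x) := by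
  have w3 : w * w * w = 1 := by linear_combination (w - 1) * hw
  have e1 : tau hF w = w * w := by linear_combination (-tau hF w) * w3 + (w * w) * wn
  rw [ev, map_add, map_mul, map_intCast, map_intCast, e1]
  simp only [ev, econj]
  push_cast
  linear_combination (x.2 : F) * hw

theorem mat_star (hw : w * w + w + 1 = 0) (wn : w * tau hF w = 1) {M M' : List (List E)}
    (h : ∀ i j : Fin 6, ent M' i j = econj (ent M j i)) : mat w M' = ((mat w M).map (tau hF))ᵀ := by
  ext i j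
  rw [Matrix.transpose_apply, Matrix.map_apply, mat, mat, Matrix.of_apply, Matrix.of_apply, tau_ev hF hw wn]
  have := h i j
  rw [ent, ent] at this
  rw [this]

theorem my_sim (hw : w * w + w + 1 = 0) (wn : w * tau hF w = 1) : (mat w My)ᵀ * (mat w My).map (tau hF) = (3 : F) • (1 : M6 F) := by
  have e1 : mat w Mys * mat w My = (3 : F) • (1 : M6 F) := by
    rw [← mat_mul hw (by decide +kernel) (by decide +kernel), ys_y, sM_mat hw]
    simp [ev]
  rw [mat_star hF hw wn (M := My) (by decide +kernel)] at e1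
  have e2 := congrArg Matrix.transpose e1
  rw [Matrix.transpose_mul, Matrix.transpose_transpose, Matrix.transpose_smul, Matrix.transpose_one] at e2
  exact e2

end unitary

/-- **Unitary case, `|Z| = 3`.** -/
theorem no_a6_three_su6 [Fintype F] {q : ℕ} (hF : Fintype.card F = q ^ 2) {p : ℕ} [CharP F p] (hp : 5 ≤ p) (hp' : p.Prime)
    {H P : Subgroup (GL (Fin 6) F)} (hmax : IsMaximalIn (GU 6 F q ⊓ specialLinear (Fin 6) F) H) (hres : IsResidualCore H P)
    (e : Soc P ≃* alternatingGroup (Fin 6)) (h3 : Nat.card ((scalars (Fin 6) F).subgroupOf P) = 3) : False := by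
  have hC := core_of_residual hres
  have hPU : P ≤ GU 6 F q := fun g hg => (hmax.1.le (hres.le hg)).1
  obtain ⟨h, t1, t2, u, r, x, a, b, B, w, d, ex⟩ := explicit_of_core hC hp e h3
  obtain ⟨l, hl⟩ := gram hF hC h d ex hPU
  have wn := w_norm hF h hPU ex.hw
  refine not_maximal hp hp' hmax hres h d ex (fun D hD => ⟨?_, det_diag hD⟩) (fun y hy => ⟨?_, det_conj' hC y t1⟩)
  · change D ∈ GU 6 F q
    rw [mem_GU_iff_matrix hF]
    have := sim_of hF hl (c := 1) hD (by
      have e1 : (Matrix.diagonal ![-1, 1, 1, 1, 1, -1] : M6 F).map (tau hF) = Matrix.diagonal ![-1, 1, 1, 1, 1, -1] := by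
        rw [Matrix.diagonal_map (map_zero _)]
        congr 1
        ext i
        (revert i; simp only [_root_.Fin.forall_fin_succ, _root_.Nat.succ_eq_add_one, Nat.reduceAdd, Fin.isValue, _root_.Matrix.cons_val_zero, _root_.RingEquiv.map_neg_one, _root_.Matrix.cons_val_succ, _root_.map_one, _root_.Matrix.cons_val_fin_one, _root_.implies_true, _root_.and_self])
      rw [e1, Matrix.diagonal_transpose, Matrix.diagonal_mul_diagonal, one_smul, ← Matrix.diagonal_one]
      congr 1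
      ext i
      (revert i; simp only [_root_.Fin.forall_fin_succ, _root_.Nat.succ_eq_add_one, Nat.reduceAdd, Fin.isValue, _root_.Matrix.cons_val_zero, _root_.mul_neg, _root_.mul_one, _root_.neg_neg, _root_.Matrix.cons_val_succ, _root_.Matrix.cons_val_fin_one, _root_.implies_true, _root_.and_self]))
    rw [one_smul] at this
    exact this
  · exact conj_unitary hF (sim_of hF hl hy (my_sim hF ex.hw wn)) (hPU t1.2)

end Cfsg.Agent.H910.Six
end

-- part: H910/Six/A6Main
section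
/-!
# Cores with socle `A₆` in dimension six (helper910)

* `a6_three_or_six`: a core with socle `A₆` in dimension six that is not self-dual has `p ≥ 5` and centre of order `3` or `6`.
-/

set_option autoImplicit false
set_option linter.unusedSectionVars false

open Matrix Equiv Cfsg Cfsg.Geo Cfsg.Agent.H915.LD

namespace Cfsg.Agent.H910.Six

universe u

variable {F : Type u} [Field F] [Finite F] {P : Subgroup (GL (Fin 6) F)}

/-- the centre of a core has order dividing the dimension -/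
theorem card_scalars_dvd_card {ι : Type} [Fintype ι] [DecidableEq ι] {P : Subgroup (GL ι F)} (hC : Core P) :
    Nat.card ((scalars ι F).subgroupOf P) ∣ Fintype.card ι := by
  have h1 : IsCyclic (scalars ι F) := by
    have : Function.Surjective (Units.map (Matrix.scalar ι : F →+* Matrix ι ι F).toMonoidHom).rangeRestrict :=
      MonoidHom.rangeRestrict_surjective _
    exact isCyclic_of_surjective _ this
  let f : (scalars ι F).subgroupOf P →* scalars ι F :=
    { toFun := fun z => ⟨((z : P) : GL ι F), Subgroup.mem_subgroupOf.1 z.2⟩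
      map_one' := rfl
      map_mul' := fun _ _ => rfl }
  have hf : Function.Injective f := by
    intro a b hab
    have := congrArg (fun z : scalars ι F => (z : GL ι F)) hab
    exact Subtype.ext (Subtype.ext this)
  have h2 : IsCyclic ((scalars ι F).subgroupOf P) := isCyclic_of_injective f hf
  rw [← IsCyclic.exponent_eq_card]
  apply Monoid.exponent_dvd_of_forall_pow_eq_one
  intro z
  exact Subtype.ext (hC.pow_card z.2)

theorem a6_three_or_six (hC : Core P) (e : Soc P ≃* alternatingGroup (Fin 6)) (hsd : ¬ SD P) (p : ℕ) [hp : Fact p.Prime]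
    [CharP F p] : 5 ≤ p ∧ (Nat.card ((scalars (Fin 6) F).subgroupOf P) = 3 ∨
      Nat.card ((scalars (Fin 6) F).subgroupOf P) = 6) := by
  have h1 := card_scalars_dvd_card hC
  rw [Fintype.card_fin] at h1
  have h2 : 3 ∣ Nat.card ((scalars (Fin 6) F).subgroupOf P) := by
    by_contra h3
    exact hsd (H937.T2.a6_sd hC e h3)
  have h3 := H875.DefCov.card_scalars_coprime (P := P) p
  have h4 : Nat.card ((scalars (Fin 6) F).subgroupOf P) = 3 ∨ Nat.card ((scalars (Fin 6) F).subgroupOf P) = 6 := by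
    have h5 := Nat.le_of_dvd (by norm_num) h1
    generalize Nat.card ((scalars (Fin 6) F).subgroupOf P) = n at *
    interval_cases n <;> omega
  refine ⟨?_, h4⟩
  have hp2 := hp.out.two_le
  by_contra hlt
  have hp3 : p = 2 ∨ p = 3 := by
    have : p ≠ 4 := by rintro rfl; exact absurd hp.out (by norm_num)
    omega
  rcases hp3 with rfl | rfl
  · rcases h4 with h4 | h4
    · have hx := hex_of_core hC e h4
      exact hx.false_of_two (CharP.cast_eq_zero F 2) (core_irr hC)
    · rw [h4] at h3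
      exact absurd h3 (by decide)
  · rcases h4 with h4 | h4
    · rw [h4] at h3
      exact absurd h3 (by decide)
    · rw [h4] at h3
      exact absurd h3 (by decide)

/-- **Linear case**: what is left is `6.A₆`. -/
theorem sl6_a6_six {H : Subgroup (GL (Fin 6) F)} (hmax : IsMaximalIn (specialLinear (Fin 6) F) H)
    (hres : IsResidualCore H P) (e : Soc P ≃* alternatingGroup (Fin 6)) (hsd : ¬ SD P) (p : ℕ) [hp : Fact p.Prime]
    [CharP F p] : 5 ≤ p ∧ Nat.card ((scalars (Fin 6) F).subgroupOf P) = 6 := by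
  obtain ⟨h1, h2 | h2⟩ := a6_three_or_six (core_of_residual hres) e hsd p
  · exact (no_a6_three_sl6 h1 hp.out hmax hres e h2).elim
  · exact ⟨h1, h2⟩

/-- **Unitary case**: what is left is `6.A₆`. -/
theorem su6_a6_six {F : Type u} [Field F] [Fintype F] {q : ℕ} (hF : Fintype.card F = q ^ 2) {H P : Subgroup (GL (Fin 6) F)}
    (hmax : IsMaximalIn (GU 6 F q ⊓ specialLinear (Fin 6) F) H) (hres : IsResidualCore H P)
    (e : Soc P ≃* alternatingGroup (Fin 6)) (hsd : ¬ SD P) (p : ℕ) [hp : Fact p.Prime] [CharP F p] :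
    5 ≤ p ∧ Nat.card ((scalars (Fin 6) F).subgroupOf P) = 6 := by
  obtain ⟨h1, h2 | h2⟩ := a6_three_or_six (core_of_residual hres) e hsd p
  · exact (no_a6_three_su6 hF h1 hp.out hmax hres e h2).elim
  · exact ⟨h1, h2⟩

end Cfsg.Agent.H910.Six
end

-- part: H830/L11A
section
/-!
# Six-dimensional modules of `SL₂(11)` over the field with three elements (helper830)
-/

set_option autoImplicit false
set_option linter.unusedSectionVars false

namespace Cfsg.Agent.H830.L11

open Matrix Module Cfsg.Agent.H464.Sl2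

instance : Fact (Nat.Prime 11) := ⟨by norm_num⟩

local notation "G11" => SpecialLinearGroup (Fin 2) (ZMod 11)

/-- the unipotent group as a homomorphism -/
def uHom : Multiplicative (ZMod 11) →* G11 where
  toFun x := u (Multiplicative.toAdd x)
  map_one' := u_zero
  map_mul' _ _ := u_add _ _

variable {F : Type*} [Field F] [Fintype F] {V : Type*} [AddCommGroup V] [Module F V]
  [FiniteDimensional F V] (R : G11 →* Module.End F V)

theorem three_eq_zero (hF : Fintype.card F = 3) : (3 : F) = 0 := by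
  have h := FiniteField.cast_card_eq_zero F
  rw [hF] at h
  exact_mod_cast h

theorem sq_eq_one (hF : Fintype.card F = 3) {c : F} (hc : c ≠ 0) : c = 1 ∨ c = -1 := by
  have h := FiniteField.pow_card_sub_one_eq_one c hc
  rw [hF] at h
  rw [← mul_self_eq_one_iff, ← sq]
  exact h

/-- the fixed space of the unipotent group -/
def fixU : Submodule F V where
  carrier := {x | ∀ s, R (u s) x = x}
  add_mem' := fun {x y} hx hy s => by rw [map_add, hx, hy]
  zero_mem' := fun s => map_zero _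
  smul_mem' := fun c x hx s => by rw [map_smul, hx]

theorem finrank_fixU (hF : Fintype.card F = 3) (hV : finrank F V = 6) (hR : R ≠ 1) : finrank F (fixU R) = 1 := by
  classical
  have hVf : Finite V := Module.finite_of_finite F
  let act : MulAction (Multiplicative (ZMod 11)) V := MulAction.compHom V (R.comp uHom)
  have hfix : (MulAction.fixedPoints (Multiplicative (ZMod 11)) V : Set V) = (fixU R : Set V) := by
    ext x
    constructor
    · intro h s
      exact h (Multiplicative.ofAdd s)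
    · intro h s
      exact h (Multiplicative.toAdd s)
  have hp : IsPGroup 11 (Multiplicative (ZMod 11)) := IsPGroup.of_card (n := 1) (by
    rw [Nat.card_eq_fintype_card, Fintype.card_multiplicative, ZMod.card, pow_one])
  have h1 := hp.card_modEq_card_fixedPoints V
  rw [hfix] at h1
  have h2 : Nat.card V = 3 ^ 6 := by
    rw [Module.natCard_eq_pow_finrank (K := F), Nat.card_eq_fintype_card, hF, hV]
  have h3 : Nat.card (fixU R : Set V) = 3 ^ finrank F (fixU R) := by
    change Nat.card (fixU R) = _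
    rw [Module.natCard_eq_pow_finrank (K := F), Nat.card_eq_fintype_card, hF]
  rw [h2, h3] at h1
  have h4 : finrank F (fixU R) ≤ 6 := hV ▸ Submodule.finrank_le _
  have h5 : finrank F (fixU R) ≠ 6 := by
    intro h5
    apply hR
    apply eq_one_of_u
    intro s
    have h6 : fixU R = ⊤ := Submodule.eq_top_of_finrank_eq (by rw [h5, hV])
    ext x
    have h7 : x ∈ fixU R := by rw [h6]; trivial
    exact h7 s
  generalize finrank F (fixU R) = d at h1 h4 h5
  interval_cases d <;> first | rfl | (exfalso; revert h1; decide) | (exact absurd rfl h5)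

theorem natCast_eleven (hF : Fintype.card F = 3) : ((11 : ℕ) : F) = -1 := by
  have h := three_eq_zero hF
  push_cast
  linear_combination 4 * h

/-- The data extracted from the module. -/
structure Dat (v : V) (ω c' : F) : Prop where
  ne : v ≠ 0
  fix : ∀ s, R (u s) v = v
  uniq : ∀ x, (∀ s, R (u s) x = x) → ∃ c : F, x = c • v
  tor : ∀ a : (ZMod 11)ˣ, IsSquare (a : ZMod 11) → R (t a) v = v
  neg : R (t (-1)) v = ω • v
  rel : ∑ s, R (u s) (R (w 1) v) = c' • v

theorem tor_ns {v : V} {ω c' : F} (h : Dat R v ω c') {a : (ZMod 11)ˣ} (ha : ¬ IsSquare (a : ZMod 11)) :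
    R (t a) v = ω • v := by
  have h1 : IsSquare ((-a : (ZMod 11)ˣ) : ZMod 11) := by
    rw [Units.val_neg]
    generalize (a : ZMod 11) = x at ha ⊢
    revert x
    decide +kernel
  have h2 : t a = t (-1) * t (-a) := by rw [← t_mul]; simp
  rw [h2, map_mul, Module.End.mul_apply, h.tor _ h1, h.neg]

theorem exists_dat (hF : Fintype.card F = 3) (hV : finrank F V = 6) (hR : R ≠ 1) :
    ∃ (v : V) (ω c' : F), Dat R v ω c' ∧ (ω = 1 ∨ ω = -1) := by
  have h1 := finrank_fixU R hF hV hR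
  obtain ⟨v, hv0, hv⟩ := finrank_eq_one_iff'.1 h1
  have hv0' : (v : V) ≠ 0 := fun h => hv0 (Subtype.ext h)
  have huniq : ∀ x, (∀ s, R (u s) x = x) → ∃ c : F, x = c • (v : V) := by
    intro x hx
    obtain ⟨c, hc⟩ := hv ⟨x, hx⟩
    exact ⟨c, (congrArg Subtype.val hc).symm⟩
  have htor : ∀ a : (ZMod 11)ˣ, ∃ c : F, R (t a) (v : V) = c • (v : V) ∧ (c = 1 ∨ c = -1) := by
    intro a
    obtain ⟨c, hc⟩ := huniq (R (t a) v) (fun s => by
      have h2 : u s * t a = t a * u (s / (a : ZMod 11) ^ 2) := by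
        rw [t_mul_u, mul_div_cancel₀ _ (pow_ne_zero 2 a.ne_zero)]
      rw [← Module.End.mul_apply, ← map_mul, h2, map_mul, Module.End.mul_apply, v.2])
    refine ⟨c, hc, sq_eq_one hF ?_⟩
    rintro rfl
    rw [zero_smul] at hc
    apply hv0'
    apply R_injective R (t a)
    rw [hc, map_zero]
  obtain ⟨ω, hω, hω1⟩ := htor (-1)
  obtain ⟨c', hc'⟩ := huniq (∑ s, R (u s) (R (w 1) v)) (fun s => by
    rw [map_sum]
    refine Fintype.sum_equiv (Equiv.addLeft s) _ _ fun x => ?_
    rw [Equiv.coe_addLeft, u_add, map_mul, Module.End.mul_apply])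
  refine ⟨v, ω, c', ⟨hv0', v.2, huniq, ?_, hω, hc'⟩, hω1⟩
  rintro a ⟨b, hb⟩
  have hb0 : b ≠ 0 := by
    rintro rfl
    exact a.ne_zero (by rw [hb, mul_zero])
  obtain ⟨c, hc, hc1⟩ := htor (Units.mk0 b hb0)
  have h2 : t a = t (Units.mk0 b hb0) * t (Units.mk0 b hb0) := by
    rw [← t_mul]
    congr 1
    exact Units.ext hb
  rw [h2, map_mul, Module.End.mul_apply, hc, map_smul, hc, smul_smul]
  rcases hc1 with rfl | rfl <;> simp

section dat

variable {R} {v : V} {ω c' : F} (h : Dat R v ω c')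

/-- the translates -/
def y (R : G11 →* Module.End F V) (v : V) (s : ZMod 11) : V := R (u s) (R (w 1) v)

theorem R_u_y (s r : ZMod 11) : R (u s) (y R v r) = y R v (s + r) := by
  unfold y
  rw [← Module.End.mul_apply, ← map_mul, ← u_add]

include h

theorem w_y_zero : R (w 1) (y R v 0) = ω • v := by
  unfold y
  rw [u_zero, map_one, Module.End.one_apply, ← Module.End.mul_apply, ← map_mul, w_mul_w, div_one, h.neg]

theorem w_y (a : (ZMod 11)ˣ) {c : F} (hc : R (t a) v = c • v) :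
    R (w 1) (y R v (a : ZMod 11)) = c • y R v (-((a⁻¹ : (ZMod 11)ˣ) : ZMod 11)) := by
  have h1 := w_u_w (K := ZMod 11) 1 1 a
  rw [one_pow, one_mul, one_mul, one_mul, ← w_one_mul_t a] at h1
  unfold y
  rw [← Module.End.mul_apply, ← Module.End.mul_apply, ← map_mul, ← map_mul, h1, map_mul, map_mul, map_mul,
    Module.End.mul_apply, Module.End.mul_apply, h.fix, Module.End.mul_apply, hc, map_smul, map_smul]

theorem w_y_sq {x : ZMod 11} (hx : IsSquare x) (hx0 : x ≠ 0) : R (w 1) (y R v x) = y R v (-x⁻¹) := by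
  have h1 := w_y h (Units.mk0 x hx0) (c := 1) (by rw [one_smul]; exact h.tor _ hx)
  rw [one_smul] at h1
  exact h1

theorem w_y_ns {x : ZMod 11} (hx : ¬ IsSquare x) (hx0 : x ≠ 0) : R (w 1) (y R v x) = ω • y R v (-x⁻¹) :=
  w_y h (Units.mk0 x hx0) (tor_ns R h hx)

omit h in
theorem sum11 {M : Type*} [AddCommMonoid M] (f : ZMod 11 → M) :
    ∑ s, f s = f 0 + f 1 + f 2 + f 3 + f 4 + f 5 + f 6 + f 7 + f 8 + f 9 + f 10 := by
  have h1 : (Finset.univ : Finset (ZMod 11)) = {0, 1, 2, 3, 4, 5, 6, 7, 8, 9, 10} := by decide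
  rw [h1]
  iterate 10 rw [Finset.sum_insert (by decide)]
  rw [Finset.sum_singleton]
  simp only [add_assoc]

omit h in
theorem neg_inv_eq {x z : ZMod 11} (h : x * z = -1) : -x⁻¹ = z := by
  have hx : x ≠ 0 := by
    rintro rfl
    rw [zero_mul] at h
    exact absurd h (by decide)
  apply mul_left_cancel₀ hx
  rw [h, mul_neg, mul_inv_cancel₀ hx]

theorem rel_w : ω • v + y R v 10 + ω • y R v 5 + y R v 7 + y R v 8 + y R v 2 + ω • y R v 9 + ω • y R v 3 +
    ω • y R v 4 + y R v 6 + ω • y R v 1 = c' • y R v 0 := by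
  have hrel : ∑ s, y R v s = c' • v := h.rel
  have h1 := congrArg (R (w 1)) hrel
  have h2 : R (w 1) v = y R v 0 := by
    unfold y
    rw [u_zero, map_one, Module.End.one_apply]
  rw [map_sum, map_smul, sum11, h2] at h1
  have e0 := w_y_zero h
  have e1 := w_y_sq h (x := 1) (by decide) (by decide)
  have e2 := w_y_ns h (x := 2) (by decide) (by decide)
  have e3 := w_y_sq h (x := 3) (by decide) (by decide)
  have e4 := w_y_sq h (x := 4) (by decide) (by decide)
  have e5 := w_y_sq h (x := 5) (by decide) (by decide)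
  have e6 := w_y_ns h (x := 6) (by decide) (by decide)
  have e7 := w_y_ns h (x := 7) (by decide) (by decide)
  have e8 := w_y_ns h (x := 8) (by decide) (by decide)
  have e9 := w_y_sq h (x := 9) (by decide) (by decide)
  have e10 := w_y_ns h (x := 10) (by decide) (by decide)
  rw [neg_inv_eq (x := 1) (z := 10) (by decide)] at e1
  rw [neg_inv_eq (x := 2) (z := 5) (by decide)] at e2
  rw [neg_inv_eq (x := 3) (z := 7) (by decide)] at e3
  rw [neg_inv_eq (x := 4) (z := 8) (by decide)] at e4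
  rw [neg_inv_eq (x := 5) (z := 2) (by decide)] at e5
  rw [neg_inv_eq (x := 6) (z := 9) (by decide)] at e6
  rw [neg_inv_eq (x := 7) (z := 3) (by decide)] at e7
  rw [neg_inv_eq (x := 8) (z := 4) (by decide)] at e8
  rw [neg_inv_eq (x := 9) (z := 6) (by decide)] at e9
  rw [neg_inv_eq (x := 10) (z := 1) (by decide)] at e10
  rw [e0, e1, e2, e3, e4, e5, e6, e7, e8, e9, e10] at h1
  exact h1

omit h in
/-- the norm -/
def nm (R : G11 →* Module.End F V) : Module.End F V := ∑ s, R (u s)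

theorem nm_v (hF : Fintype.card F = 3) : nm R v = -v := by
  unfold nm
  rw [LinearMap.sum_apply, Finset.sum_congr rfl fun s _ => h.fix s, Finset.sum_const, Finset.card_univ, ZMod.card,
    ← Nat.cast_smul_eq_nsmul F, natCast_eleven hF, neg_one_smul]

theorem nm_y (r : ZMod 11) : nm R (y R v r) = c' • v := by
  rw [← h.rel]
  unfold nm
  rw [LinearMap.sum_apply]
  refine Fintype.sum_equiv (Equiv.addRight r) _ _ fun x => ?_
  rw [R_u_y, Equiv.coe_addRight]
  rfl

theorem cc (hF : Fintype.card F = 3) : c' * c' = -ω + 5 * c' + 5 * ω * c' := by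
  have h1 := congrArg (nm R) (rel_w h)
  simp only [map_add, map_smul, nm_y h, nm_v h hF] at h1
  have h2 : (c' * c' - (-ω + 5 * c' + 5 * ω * c')) • v = 0 := by
    rw [sub_smul, mul_smul, ← h1]
    module
  exact sub_eq_zero.1 ((smul_eq_zero.1 h2).resolve_right h.ne)

end dat

end Cfsg.Agent.H830.L11
end

-- part: H830/L11B
section
/-!
# Six-dimensional modules of `SL₂(11)` over the field with three elements, second part (helper830)
-/

set_option autoImplicit false
set_option linter.unusedSectionVars false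

namespace Cfsg.Agent.H830.L11

open Matrix Module Cfsg.Agent.H464.Sl2

local notation "G11" => SpecialLinearGroup (Fin 2) (ZMod 11)

variable {F : Type*} [Field F] [Fintype F] {V : Type*} [AddCommGroup V] [Module F V]
  [FiniteDimensional F V] {R : G11 →* Module.End F V} {v : V} {ω c' : F}

theorem tor_all (h : Dat R v ω c') (hω : ω = 1 ∨ ω = -1) (a : (ZMod 11)ˣ) :
    ∃ ε : F, (ε = 1 ∨ ε = -1) ∧ (ω = 1 → ε = 1) ∧ R (t a) v = ε • v := by
  by_cases ha : IsSquare (a : ZMod 11)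
  · exact ⟨1, Or.inl rfl, fun _ => rfl, by rw [h.tor a ha, one_smul]⟩
  · exact ⟨ω, hω, fun h => h, tor_ns R h ha⟩

/-- The orbit of `v`. -/
theorem orbit (h : Dat R v ω c') (hω : ω = 1 ∨ ω = -1) (g : G11) :
    ∃ ε : F, (ε = 1 ∨ ε = -1) ∧ (ω = 1 → ε = 1) ∧
      ((R g v = ε • v ∧ ∃ x a, g = u x * t a) ∨ ∃ s, R g v = ε • y R v s) := by
  rcases bruhat g with ⟨x, a, rfl⟩ | ⟨x, c, z, rfl⟩
  · obtain ⟨ε, h1, h2, h3⟩ := tor_all h hω a
    refine ⟨ε, h1, h2, Or.inl ⟨?_, x, a, rfl⟩⟩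
    rw [map_mul, Module.End.mul_apply, h3, map_smul, h.fix]
  · obtain ⟨ε, h1, h2, h3⟩ := tor_all h hω c
    refine ⟨ε, h1, h2, Or.inr ⟨x, ?_⟩⟩
    rw [map_mul, map_mul, Module.End.mul_apply, Module.End.mul_apply, h.fix, ← w_one_mul_t, map_mul,
      Module.End.mul_apply, h3, map_smul, map_smul]
    rfl

/-- irreducibility -/
def Irr (R : G11 →* Module.End F V) : Prop := ∀ W : Submodule F V, (∀ g, ∀ x ∈ W, R g x ∈ W) → W = ⊥ ∨ W = ⊤

/-- `-1` acts as `-1`. -/
theorem omega_ne_one (hF : Fintype.card F = 3) (hV : finrank F V = 6) (hirr : Irr R) (h : Dat R v ω c') : ω ≠ 1 := by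
  intro hω
  have h3 := three_eq_zero hF
  have hc : c' = -1 := by
    have h1 := cc h hF
    rw [hω] at h1
    have h2 : (c' + 1) * (c' + 1) = 0 := by linear_combination h1 + 4 * c' * h3
    exact eq_neg_of_add_eq_zero_left (mul_self_eq_zero.1 h2)
  have hnm : ∀ g, nm R (R g v) = -v := by
    intro g
    obtain ⟨ε, -, h1, h2⟩ := orbit h (Or.inl hω) g
    rw [h1 hω] at h2
    rcases h2 with ⟨h2, -⟩ | ⟨s, h2⟩
    · rw [h2, one_smul, nm_v h hF]
    · rw [h2, one_smul, nm_y h, hc, neg_one_smul]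
  let Z : Submodule F V :=
    { carrier := {x | ∀ g, nm R (R g x) = 0}
      add_mem' := fun {x y} hx hy g => by rw [map_add, map_add, hx, hy, add_zero]
      zero_mem' := fun g => by rw [map_zero, map_zero]
      smul_mem' := fun c x hx g => by rw [map_smul, map_smul, hx, smul_zero] }
  have hZ : Z = ⊥ ∨ Z = ⊤ := hirr Z (fun g x hx g' => by
    rw [← Module.End.mul_apply (R g'), ← map_mul]
    exact hx _)
  have hZ1 : Z = ⊥ := by
    refine hZ.resolve_right (fun hZ => ?_)
    have h1 : v ∈ Z := by rw [hZ]; trivial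
    have h2 := h1 1
    rw [hnm] at h2
    exact h.ne (neg_eq_zero.1 h2)
  have hfix : ∀ g, R g v = v := by
    intro g
    rw [← sub_eq_zero]
    have h1 : R g v - v ∈ Z := by
      intro g'
      rw [map_sub, map_sub, ← Module.End.mul_apply (R g'), ← map_mul, hnm, hnm, sub_self]
    rwa [hZ1] at h1
  have h4 := hirr (Submodule.span F {v}) (fun g x hx => by
    obtain ⟨c, rfl⟩ := Submodule.mem_span_singleton.1 hx
    rw [map_smul, hfix]
    exact hx)
  rcases h4 with h4 | h4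
  · rw [Submodule.span_singleton_eq_bot] at h4
    exact h.ne h4
  · have h5 := finrank_span_singleton (K := F) h.ne
    rw [h4, finrank_top, hV] at h5
    norm_num at h5

/-- the vectors span -/
theorem span_top (h : Dat R v ω c') (hω : ω = 1 ∨ ω = -1) (hirr : Irr R) :
    Submodule.span F (insert v (Set.range (y R v))) = ⊤ := by
  have h1 : Submodule.span F (Set.range fun g => R g v) = ⊤ := by
    refine (hirr _ ?_).resolve_left ?_
    · intro g x hx
      induction hx using Submodule.span_induction with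
      | mem x hx =>
        obtain ⟨g', rfl⟩ := hx
        refine Submodule.subset_span ⟨g * g', ?_⟩
        change R (g * g') v = R g (R g' v)
        rw [map_mul, Module.End.mul_apply]
      | zero => rw [map_zero]; exact Submodule.zero_mem _
      | add x y _ _ hx hy => rw [map_add]; exact Submodule.add_mem _ hx hy
      | smul c x _ hx => rw [map_smul]; exact Submodule.smul_mem _ _ hx
    · intro h1
      rw [Submodule.span_eq_bot] at h1
      have h2 : R 1 v = 0 := h1 _ ⟨1, rfl⟩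
      rw [map_one, Module.End.one_apply] at h2
      exact h.ne h2
  rw [eq_top_iff, ← h1, Submodule.span_le]
  rintro _ ⟨g, rfl⟩
  obtain ⟨ε, -, -, h2⟩ := orbit h hω g
  rcases h2 with ⟨h2, -⟩ | ⟨s, h2⟩
  · change R g v ∈ _
    rw [h2]
    exact Submodule.smul_mem _ _ (Submodule.subset_span (Set.mem_insert _ _))
  · change R g v ∈ _
    rw [h2]
    exact Submodule.smul_mem _ _ (Submodule.subset_span (Set.mem_insert_of_mem _ ⟨s, rfl⟩))

/-- conjugation by `diag(1, -1)` -/
def dl : G11 →* G11 where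
  toFun g := ⟨!![g.1 0 0, -g.1 0 1; -g.1 1 0, g.1 1 1], by
    have h := g.2
    rw [Matrix.det_fin_two] at h
    rw [Matrix.det_fin_two]
    simp only [Matrix.of_apply, Matrix.cons_val', Matrix.cons_val_zero, Matrix.cons_val_one, Matrix.cons_val_fin_one]
    linear_combination h⟩
  map_one' := by
    apply Subtype.ext
    ext i j
    (revert i j; simp only [_root_.Fin.forall_fin_succ, Fin.isValue, _root_.Matrix.SpecialLinearGroup.coe_one, _root_.Matrix.one_apply_eq, _root_.ne_eq, _root_.zero_ne_one, _root_.not_false_eq_true, _root_.Matrix.one_apply_ne, _root_.neg_zero, _root_.one_ne_zero, _root_.Matrix.of_apply, _root_.Matrix.cons_val', _root_.Matrix.cons_val_fin_one, _root_.Matrix.cons_val_zero, _root_.Matrix.cons_val_succ, _root_.IsEmpty.forall_iff, _root_.and_true, Nat.reduceAdd, _root_.Fin.succ_zero_eq_one, _root_.and_self, _root_.Fin.succ_ne_zero, _root_.true_and])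
  map_mul' a b := by
    apply Subtype.ext
    change !![(a.1 * b.1) 0 0, -(a.1 * b.1) 0 1; -(a.1 * b.1) 1 0, (a.1 * b.1) 1 1] =
      !![a.1 0 0, -a.1 0 1; -a.1 1 0, a.1 1 1] * !![b.1 0 0, -b.1 0 1; -b.1 1 0, b.1 1 1]
    rw [Matrix.mul_fin_two, Matrix.mul_apply, Matrix.mul_apply, Matrix.mul_apply, Matrix.mul_apply,
      Fin.sum_univ_two, Fin.sum_univ_two, Fin.sum_univ_two, Fin.sum_univ_two]
    congr 1
    · simp only [_root_.Fin.isValue, _root_.neg_add_rev, _root_.mul_neg, _root_.neg_mul, _root_.neg_neg, _root_.Matrix.vecCons_inj, _root_.and_true, _root_.true_and]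
      constructor <;> abel

theorem dl_val (g : G11) : (dl g).1 = !![g.1 0 0, -g.1 0 1; -g.1 1 0, g.1 1 1] := rfl

theorem dl_dl (g : G11) : dl (dl g) = g := by
  apply Subtype.ext
  rw [dl_val, dl_val]
  ext i j
  (revert i j; simp only [_root_.Fin.forall_fin_succ, Fin.isValue, _root_.Matrix.of_apply, _root_.Matrix.cons_val', _root_.Matrix.cons_val_zero, _root_.Matrix.cons_val_fin_one, _root_.Matrix.cons_val_one, _root_.neg_neg, _root_.Matrix.cons_val_succ, _root_.Fin.succ_zero_eq_one, _root_.IsEmpty.forall_iff, _root_.and_true, _root_.and_self])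

theorem dl_u (x : ZMod 11) : dl (u x) = u (-x) := by
  apply Subtype.ext
  rw [dl_val, u_coe, u_coe]
  ext i j
  (revert i j; simp [_root_.Fin.forall_fin_succ])

theorem dl_t (a : (ZMod 11)ˣ) : dl (t a) = t a := by
  apply Subtype.ext
  rw [dl_val, t_coe]
  ext i j
  fin_cases i <;> fin_cases j
  · rfl
  · exact neg_zero
  · exact neg_zero
  · rfl

theorem dl_w : dl (w 1) = w 1 * t (-1) := by
  rw [w_one_mul_t]
  apply Subtype.ext
  rw [dl_val, w_coe, w_coe]
  have h1 : ((-1 : (ZMod 11)ˣ)⁻¹) = -1 := by rw [inv_neg, inv_one]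
  rw [h1, inv_one]
  ext i j
  fin_cases i <;> fin_cases j
  · rfl
  · change - -((1 : (ZMod 11)ˣ) : ZMod 11) = -((-1 : (ZMod 11)ˣ) : ZMod 11)
    rw [Units.val_neg]
  · change -((1 : (ZMod 11)ˣ) : ZMod 11) = ((-1 : (ZMod 11)ˣ) : ZMod 11)
    rw [Units.val_neg]
  · rfl

/-- replacing `c'` by `ω c'` -/
theorem Dat.twist (h : Dat R v ω c') : Dat (R.comp dl) v ω (ω * c') where
  ne := h.ne
  fix s := by
    rw [MonoidHom.comp_apply, dl_u, h.fix]
  uniq x hx := h.uniq x (fun s => by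
    have h1 := hx (-s)
    rwa [MonoidHom.comp_apply, dl_u, neg_neg] at h1)
  tor a ha := by rw [MonoidHom.comp_apply, dl_t, h.tor a ha]
  neg := by rw [MonoidHom.comp_apply, dl_t, h.neg]
  rel := by
    rw [mul_smul, ← h.rel, Finset.smul_sum]
    refine Fintype.sum_equiv (Equiv.neg _) _ _ fun x => ?_
    rw [MonoidHom.comp_apply, MonoidHom.comp_apply, dl_u, dl_w, map_mul, Module.End.mul_apply, h.neg, map_smul, map_smul,
      Equiv.neg_apply]

end Cfsg.Agent.H830.L11
end

-- part: H830/L11C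
section
/-!
# Six-dimensional modules of `SL₂(11)` over the field with three elements: the element of `M₁₁` (helper830)
-/

set_option autoImplicit false
set_option linter.unusedSectionVars false
set_option linter.unusedSimpArgs false

namespace Cfsg.Agent.H830.L11

open Matrix Module Cfsg.Agent.H464.Sl2

local notation "G11" => SpecialLinearGroup (Fin 2) (ZMod 11)

variable {F : Type*} [Field F] [Fintype F] {V : Type*} [AddCommGroup V] [Module F V]
  [FiniteDimensional F V] {R : G11 →* Module.End F V} {v : V}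

theorem smul_three (hF : Fintype.card F = 3) (x : V) : (3 : F) • x = 0 := by
  rw [three_eq_zero hF, zero_smul]

theorem sum_eq (h : Dat R v (-1) 1) : y R v 0 + y R v 1 + y R v 2 + y R v 3 + y R v 4 + y R v 5 + y R v 6 +
    y R v 7 + y R v 8 + y R v 9 + y R v 10 = v := by
  have h1 : ∑ s, y R v s = (1 : F) • v := h.rel
  rwa [sum11, one_smul] at h1

theorem rel_zero (hF : Fintype.card F = 3) (h : Dat R v (-1) 1) :
    y R v 0 + y R v 1 + y R v 3 + y R v 4 + y R v 5 + y R v 9 = 0 := by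
  have h1 := rel_w h
  have h2 := sum_eq h
  have t0 := smul_three (F := F) hF (y R v 0)
  have t1 := smul_three (F := F) hF (y R v 1)
  have t3 := smul_three (F := F) hF (y R v 3)
  have t4 := smul_three (F := F) hF (y R v 4)
  have t5 := smul_three (F := F) hF (y R v 5)
  have t9 := smul_three (F := F) hF (y R v 9)
  linear_combination (norm := module) (1 : F) • h1 - (1 : F) • h2 + (1 : F) • t0 + (1 : F) • t1 + (1 : F) • t3 + (1 : F) • t4 +
    (1 : F) • t5 + (1 : F) • t9

theorem rel_z (hF : Fintype.card F = 3) (h : Dat R v (-1) 1) (z : ZMod 11) {a b c d e : ZMod 11} (ha : z + 1 = a)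
    (hb : z + 3 = b) (hc : z + 4 = c) (hd : z + 5 = d) (he : z + 9 = e) :
    y R v z + y R v a + y R v b + y R v c + y R v d + y R v e = 0 := by
  have h1 := congrArg (R (u z)) (rel_zero hF h)
  simp only [map_add, map_zero, R_u_y] at h1
  rwa [add_zero, ha, hb, hc, hd, he] at h1

/-- the expansions -/
theorem expand (hF : Fintype.card F = 3) (h : Dat R v (-1) 1) :
    y R v 6 = (-1 : F) • y R v 0 + (1 : F) • y R v 1 + (1 : F) • y R v 2 + (1 : F) • y R v 3 + (-1 : F) • y R v 4 ∧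
    y R v 7 = (-1 : F) • y R v 1 + (1 : F) • y R v 2 + (1 : F) • y R v 3 + (1 : F) • y R v 4 + (-1 : F) • y R v 5 ∧
    y R v 8 = (1 : F) • y R v 0 + (-1 : F) • y R v 1 + (1 : F) • y R v 2 + (-1 : F) • y R v 4 + (1 : F) • y R v 5 ∧
    y R v 9 = (-1 : F) • y R v 0 + (-1 : F) • y R v 1 + (-1 : F) • y R v 3 + (-1 : F) • y R v 4 +
      (-1 : F) • y R v 5 ∧
    y R v 10 = (1 : F) • y R v 0 + (1 : F) • y R v 1 + (1 : F) • y R v 2 + (-1 : F) • y R v 3 + (-1 : F) • y R v 5 ∧
    v = (1 : F) • y R v 0 + (-1 : F) • y R v 2 + (1 : F) • y R v 3 + (-1 : F) • y R v 4 + (-1 : F) • y R v 5 := by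
  have hs := sum_eq h
  have z0 := rel_z hF h 0 (a := 1) (b := 3) (c := 4) (d := 5) (e := 9) (by decide) (by decide) (by decide) (by decide) (by decide)
  have z1 := rel_z hF h 1 (a := 2) (b := 4) (c := 5) (d := 6) (e := 10) (by decide) (by decide) (by decide) (by decide) (by decide)
  have z2 := rel_z hF h 2 (a := 3) (b := 5) (c := 6) (d := 7) (e := 0) (by decide) (by decide) (by decide) (by decide) (by decide)
  have z3 := rel_z hF h 3 (a := 4) (b := 6) (c := 7) (d := 8) (e := 1) (by decide) (by decide) (by decide) (by decide) (by decide)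
  have z4 := rel_z hF h 4 (a := 5) (b := 7) (c := 8) (d := 9) (e := 2) (by decide) (by decide) (by decide) (by decide) (by decide)
  have t1 := smul_three (F := F) hF (y R v 1)
  have t2 := smul_three (F := F) hF (y R v 2)
  have t3 := smul_three (F := F) hF (y R v 3)
  refine ⟨?_, ?_, ?_, ?_, ?_, ?_⟩
  · linear_combination (norm := module) (1 : F) • z0 + (1 : F) • z3 + (-1 : F) • z4 + (-1 : F) • t1 + (-1 : F) • t3
  · linear_combination (norm := module) (-1 : F) • z0 + (1 : F) • z2 + (-1 : F) • z3 + (1 : F) • z4 + (1 : F) • t1 + (-1 : F) • t2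
  · linear_combination (norm := module) (-1 : F) • z2 + (1 : F) • z3
  · linear_combination (norm := module) (1 : F) • z0
  · linear_combination (norm := module) (-1 : F) • z0 + (1 : F) • z1 + (-1 : F) • z3 + (1 : F) • z4 + (-1 : F) • t2 + (1 : F) • t3
  · linear_combination (norm := module) (1 : F) • z1 + (1 : F) • z4 + (-1 : F) • hs

theorem all_s (P : ZMod 11 → Prop) (h0 : P 0) (h1 : P 1) (h2 : P 2) (h3 : P 3) (h4 : P 4) (h5 : P 5) (h6 : P 6)
    (h7 : P 7) (h8 : P 8) (h9 : P 9) (h10 : P 10) (s : ZMod 11) : P s := by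
  have key : ∀ s : ZMod 11, s = 0 ∨ s = 1 ∨ s = 2 ∨ s = 3 ∨ s = 4 ∨ s = 5 ∨ s = 6 ∨ s = 7 ∨ s = 8 ∨ s = 9 ∨ s = 10 := by
    decide
  rcases key s with rfl | rfl | rfl | rfl | rfl | rfl | rfl | rfl | rfl | rfl | rfl <;> assumption

/-- the basis -/
theorem exists_basis (hF : Fintype.card F = 3) (hV : finrank F V = 6) (h : Dat R v (-1) 1) (hirr : Irr R) :
    ∃ b : Basis (Fin 6) F V, b 0 = y R v 0 ∧ b 1 = y R v 1 ∧ b 2 = y R v 2 ∧ b 3 = y R v 3 ∧ b 4 = y R v 4 ∧
      b 5 = y R v 5 := by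
  let fam : Fin 6 → V := ![y R v 0, y R v 1, y R v 2, y R v 3, y R v 4, y R v 5]
  obtain ⟨e6, e7, e8, e9, e10, e11⟩ := expand hF h
  have hm : ∀ i, fam i ∈ Submodule.span F (Set.range fam) := fun i => Submodule.subset_span ⟨i, rfl⟩
  have m0 : y R v 0 ∈ Submodule.span F (Set.range fam) := hm 0
  have m1 : y R v 1 ∈ Submodule.span F (Set.range fam) := hm 1
  have m2 : y R v 2 ∈ Submodule.span F (Set.range fam) := hm 2
  have m3 : y R v 3 ∈ Submodule.span F (Set.range fam) := hm 3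
  have m4 : y R v 4 ∈ Submodule.span F (Set.range fam) := hm 4
  have m5 : y R v 5 ∈ Submodule.span F (Set.range fam) := hm 5
  have mem5 : ∀ {a b c d e : V} {r s p q o : F}, a ∈ Submodule.span F (Set.range fam) →
      b ∈ Submodule.span F (Set.range fam) → c ∈ Submodule.span F (Set.range fam) →
      d ∈ Submodule.span F (Set.range fam) → e ∈ Submodule.span F (Set.range fam) →
      r • a + s • b + p • c + q • d + o • e ∈ Submodule.span F (Set.range fam) := by
    intro a b c d e r s p q o ha hb hc hd he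
    exact Submodule.add_mem _ (Submodule.add_mem _ (Submodule.add_mem _ (Submodule.add_mem _
      (Submodule.smul_mem _ _ ha) (Submodule.smul_mem _ _ hb)) (Submodule.smul_mem _ _ hc))
      (Submodule.smul_mem _ _ hd)) (Submodule.smul_mem _ _ he)
  have hspan : ⊤ ≤ Submodule.span F (Set.range fam) := by
    rw [← span_top h (Or.inr rfl) hirr, Submodule.span_le]
    rintro x (rfl | ⟨s, rfl⟩)
    · rw [e11]
      exact mem5 m0 m2 m3 m4 m5
    · refine all_s (fun s => y R v s ∈ Submodule.span F (Set.range fam)) m0 m1 m2 m3 m4 m5 ?_ ?_ ?_ ?_ ?_ s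
      · rw [e6]; exact mem5 m0 m1 m2 m3 m4
      · rw [e7]; exact mem5 m1 m2 m3 m4 m5
      · rw [e8]; exact mem5 m0 m1 m2 m4 m5
      · rw [e9]; exact mem5 m0 m1 m3 m4 m5
      · rw [e10]; exact mem5 m0 m1 m2 m3 m5
  refine ⟨basisOfTopLeSpanOfCardEqFinrank fam hspan (by rw [hV, Fintype.card_fin]), ?_⟩
  rw [coe_basisOfTopLeSpanOfCardEqFinrank]
  exact ⟨rfl, rfl, rfl, rfl, rfl, rfl⟩

/-- **The element of order three.** -/
theorem exists_E (hF : Fintype.card F = 3) (hV : finrank F V = 6) (h : Dat R v (-1) 1) (hirr : Irr R) :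
    ∃ E : Module.End F V, E * E * E = 1 ∧ E v = v ∧ E (y R v 0) = y R v 0 ∧ E (y R v 1) = y R v 6 ∧
      E (y R v 2) = y R v 5 ∧ E (y R v 3) = y R v 1 ∧ E (y R v 4) = y R v 8 ∧ E (y R v 5) = y R v 9 ∧
      E (y R v 6) = y R v 3 ∧ E (y R v 7) = y R v 4 ∧ E (y R v 8) = y R v 7 ∧ E (y R v 9) = y R v 2 ∧
      E (y R v 10) = y R v 10 := by
  obtain ⟨b, b0, b1, b2, b3, b4, b5⟩ := exists_basis hF hV h hirr
  obtain ⟨x6, x7, x8, x9, x10, x11⟩ := expand hF h
  let E : Module.End F V := b.constr F ![y R v 0, y R v 6, y R v 5, y R v 1, y R v 8, y R v 9]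
  have E0 : E (y R v 0) = y R v 0 := by rw [← b0, Basis.constr_basis]; exact b0.symm
  have E1 : E (y R v 1) = y R v 6 := by rw [← b1, Basis.constr_basis]; rfl
  have E2 : E (y R v 2) = y R v 5 := by rw [← b2, Basis.constr_basis]; rfl
  have E3 : E (y R v 3) = y R v 1 := by rw [← b3, Basis.constr_basis]; rfl
  have E4 : E (y R v 4) = y R v 8 := by rw [← b4, Basis.constr_basis]; rfl
  have E5 : E (y R v 5) = y R v 9 := by rw [← b5, Basis.constr_basis]; rfl
  have t0 := smul_three (F := F) hF (y R v 0)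
  have t1 := smul_three (F := F) hF (y R v 1)
  have t2 := smul_three (F := F) hF (y R v 2)
  have t3 := smul_three (F := F) hF (y R v 3)
  have t4 := smul_three (F := F) hF (y R v 4)
  have t5 := smul_three (F := F) hF (y R v 5)
  have E6 : E (y R v 6) = y R v 3 := by
    have h1 := congrArg E x6
    simp only [map_add, map_smul, E0, E1, E2, E3, E4, E5] at h1
    linear_combination (norm := module) (1 : F) • h1 + (1 : F) • x6 + (-1 : F) • x8 + (-1 : F) • t0 + (1 : F) • t1
  have E7 : E (y R v 7) = y R v 4 := by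
    have h1 := congrArg E x7
    simp only [map_add, map_smul, E0, E1, E2, E3, E4, E5] at h1
    linear_combination (norm := module) (1 : F) • h1 + (-1 : F) • x6 + (1 : F) • x8 + (-1 : F) • x9 + (1 : F) • t0 +
      (1 : F) • t5
  have E8 : E (y R v 8) = y R v 7 := by
    have h1 := congrArg E x8
    simp only [map_add, map_smul, E0, E1, E2, E3, E4, E5] at h1
    linear_combination (norm := module) (1 : F) • h1 + (-1 : F) • x6 + (-1 : F) • x7 + (-1 : F) • x8 + (1 : F) • x9 +
      (-1 : F) • t2 + (-1 : F) • t3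
  have E9 : E (y R v 9) = y R v 2 := by
    have h1 := congrArg E x9
    simp only [map_add, map_smul, E0, E1, E2, E3, E4, E5] at h1
    linear_combination (norm := module) (1 : F) • h1 + (-1 : F) • x6 + (-1 : F) • x8 + (-1 : F) • x9 + (-1 : F) • t2 +
      (1 : F) • t4
  have E10 : E (y R v 10) = y R v 10 := by
    have h1 := congrArg E x10
    simp only [map_add, map_smul, E0, E1, E2, E3, E4, E5] at h1
    linear_combination (norm := module) (1 : F) • h1 + (1 : F) • x6 + (-1 : F) • x9 + (-1 : F) • x10 + (1 : F) • t3 +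
      (1 : F) • t5
  have E11 : E v = v := by
    have h1 := congrArg E x11
    simp only [map_add, map_smul, E0, E1, E2, E3, E4, E5] at h1
    linear_combination (norm := module) (1 : F) • h1 + (-1 : F) • x8 + (-1 : F) • x9 + (-1 : F) • x11 + (1 : F) • t1 +
      (1 : F) • t4
  refine ⟨E, ?_, E11, E0, E1, E2, E3, E4, E5, E6, E7, E8, E9, E10⟩
  apply b.ext
  intro i
  change E (E (E (b i))) = b i
  fin_cases i
  · change E (E (E (b 0))) = b 0
    rw [b0, E0, E0, E0]
  · change E (E (E (b 1))) = b 1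
    rw [b1, E1, E6, E3]
  · change E (E (E (b 2))) = b 2
    rw [b2, E2, E5, E9]
  · change E (E (E (b 3))) = b 3
    rw [b3, E3, E1, E6]
  · change E (E (E (b 4))) = b 4
    rw [b4, E4, E8, E7]
  · change E (E (E (b 5))) = b 5
    rw [b5, E5, E9, E2]

/-- the set of the `24` vectors -/
def Om (R : G11 →* Module.End F V) (v : V) : Set V :=
  {x | ∃ ε : F, (ε = 1 ∨ ε = -1) ∧ (x = ε • v ∨ ∃ s, x = ε • y R v s)}

/-- **A transvection that does not preserve the 24 vectors.** -/
theorem exists_T (hF : Fintype.card F = 3) (hV : finrank F V = 6) (h : Dat R v (-1) 1) (hirr : Irr R) :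
    ∃ T : Module.End F V, T * T * T = 1 ∧ ∃ x ∈ Om R v, T x ∉ Om R v := by
  obtain ⟨b, b0, b1, b2, b3, b4, b5⟩ := exists_basis hF hV h hirr
  obtain ⟨x6, x7, x8, x9, x10, x11⟩ := expand hF h
  let T : Module.End F V := b.constr F ![b 0 + b 1, b 1, b 2, b 3, b 4, b 5]
  have T0 : T (b 0) = b 0 + b 1 := by rw [Basis.constr_basis]; rfl
  have T1 : T (b 1) = b 1 := by rw [Basis.constr_basis]; rfl
  have T2 : T (b 2) = b 2 := by rw [Basis.constr_basis]; rfl
  have T3 : T (b 3) = b 3 := by rw [Basis.constr_basis]; rfl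
  have T4 : T (b 4) = b 4 := by rw [Basis.constr_basis]; rfl
  have T5 : T (b 5) = b 5 := by rw [Basis.constr_basis]; rfl
  have e1 : (-1 : F) ≠ 0 := neg_ne_zero.2 one_ne_zero
  refine ⟨T, ?_, y R v 0, ⟨1, Or.inl rfl, Or.inr ⟨0, by rw [one_smul]⟩⟩, ?_⟩
  · apply b.ext
    intro i
    change T (T (T (b i))) = b i
    fin_cases i
    · change T (T (T (b 0))) = b 0
      rw [T0, map_add, T0, T1, map_add, map_add, T0, T1]
      have t1 := smul_three (F := F) hF (b 1)
      linear_combination (norm := module) (1 : F) • t1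
    · change T (T (T (b 1))) = b 1
      rw [T1, T1, T1]
    · change T (T (T (b 2))) = b 2
      rw [T2, T2, T2]
    · change T (T (T (b 3))) = b 3
      rw [T3, T3, T3]
    · change T (T (T (b 4))) = b 4
      rw [T4, T4, T4]
    · change T (T (T (b 5))) = b 5
      rw [T5, T5, T5]
  · rintro ⟨ε, hε, h1⟩
    rw [← b0, T0] at h1
    have hε0 : ε ≠ 0 := by
      rcases hε with rfl | rfl
      · exact one_ne_zero
      · exact e1
    -- coordinates
    have hc : ∀ (i : Fin 6) (x : V), b 0 + b 1 = ε • x → b.repr (b 0 + b 1) i = ε * b.repr x i := by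
      intro i x hx
      rw [hx, map_smul, Finsupp.smul_apply, smul_eq_mul]
    have hz : ∀ (i : Fin 6) (x : V), b.repr (b 0 + b 1) i = 0 → b.repr x i ≠ 0 → b 0 + b 1 ≠ ε • x := by
      intro i x h2 h3 h4
      have h5 := hc i x h4
      rw [h2] at h5
      exact mul_ne_zero hε0 h3 h5.symm
    have ho : ∀ (i : Fin 6) (x : V), b.repr (b 0 + b 1) i = 1 → b.repr x i = 0 → b 0 + b 1 ≠ ε • x := by
      intro i x h2 h3 h4
      have h5 := hc i x h4
      rw [h2, h3, mul_zero] at h5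
      exact one_ne_zero h5
    have r2 : b.repr (b 0 + b 1) 2 = 0 := by
      rw [map_add, Basis.repr_self, Basis.repr_self]
      simp
    have r3 : b.repr (b 0 + b 1) 3 = 0 := by
      rw [map_add, Basis.repr_self, Basis.repr_self]
      simp
    have r4 : b.repr (b 0 + b 1) 4 = 0 := by
      rw [map_add, Basis.repr_self, Basis.repr_self]
      simp
    have r5 : b.repr (b 0 + b 1) 5 = 0 := by
      rw [map_add, Basis.repr_self, Basis.repr_self]
      simp
    have r0 : b.repr (b 0 + b 1) 0 = 1 := by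
      rw [map_add, Basis.repr_self, Basis.repr_self]
      simp
    have r1 : b.repr (b 0 + b 1) 1 = 1 := by
      rw [map_add, Basis.repr_self, Basis.repr_self]
      simp
    rcases h1 with h1 | ⟨s, h1⟩
    · refine hz 2 _ r2 ?_ h1
      rw [x11, ← b0, ← b2, ← b3, ← b4, ← b5]
      simp only [_root_.Fin.isValue, _root_.one_smul, _root_.neg_smul, _root_.map_add, _root_.Module.Basis.repr_self, _root_.map_neg, _root_.Finsupp.coe_add, _root_.Finsupp.coe_neg, _root_.Pi.add_apply, _root_.ne_eq, _root_.Fin.reduceEq, _root_.not_false_eq_true, _root_.Finsupp.single_eq_of_ne, _root_.Pi.neg_apply, _root_.Finsupp.single_eq_same, _root_.zero_add, _root_.add_zero, _root_.neg_zero, _root_.neg_eq_zero, _root_.one_ne_zero]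
    · refine all_s (fun s => b 0 + b 1 ≠ ε • y R v s) ?_ ?_ ?_ ?_ ?_ ?_ ?_ ?_ ?_ ?_ ?_ s h1
      · refine ho 1 _ r1 ?_
        rw [← b0]; simp only [_root_.Fin.isValue, _root_.Module.Basis.repr_self, _root_.ne_eq, _root_.one_ne_zero, _root_.not_false_eq_true, _root_.Finsupp.single_eq_of_ne]
      · refine ho 0 _ r0 ?_
        rw [← b1]; simp
      · refine hz 2 _ r2 ?_
        rw [← b2]; simp
      · refine hz 3 _ r3 ?_
        rw [← b3]; simp
      · refine hz 4 _ r4 ?_
        rw [← b4]; simp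
      · refine hz 5 _ r5 ?_
        rw [← b5]; simp
      · refine hz 2 _ r2 ?_
        rw [x6, ← b0, ← b1, ← b2, ← b3, ← b4]; simp only [_root_.Fin.isValue, _root_.neg_smul, _root_.one_smul, _root_.map_add, _root_.map_neg, _root_.Module.Basis.repr_self, _root_.Finsupp.coe_add, _root_.Finsupp.coe_neg, _root_.Pi.add_apply, _root_.Pi.neg_apply, _root_.ne_eq, _root_.Fin.reduceEq, _root_.not_false_eq_true, _root_.Finsupp.single_eq_of_ne, _root_.neg_zero, _root_.add_zero, _root_.Finsupp.single_eq_same, _root_.zero_add, _root_.one_ne_zero]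
      · refine hz 2 _ r2 ?_
        rw [x7, ← b1, ← b2, ← b3, ← b4, ← b5]; simp
      · refine hz 2 _ r2 ?_
        rw [x8, ← b0, ← b1, ← b2, ← b4, ← b5]; simp only [_root_.Fin.isValue, _root_.one_smul, _root_.neg_smul, _root_.map_add, _root_.Module.Basis.repr_self, _root_.map_neg, _root_.Finsupp.coe_add, _root_.Finsupp.coe_neg, _root_.Pi.add_apply, _root_.ne_eq, _root_.Fin.reduceEq, _root_.not_false_eq_true, _root_.Finsupp.single_eq_of_ne, _root_.Pi.neg_apply, _root_.neg_zero, _root_.add_zero, _root_.Finsupp.single_eq_same, _root_.zero_add, _root_.one_ne_zero]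
      · refine hz 3 _ r3 ?_
        rw [x9, ← b0, ← b1, ← b3, ← b4, ← b5]; simp only [_root_.Fin.isValue, _root_.neg_smul, _root_.one_smul, _root_.map_add, _root_.map_neg, _root_.Module.Basis.repr_self, _root_.Finsupp.coe_add, _root_.Finsupp.coe_neg, _root_.Pi.add_apply, _root_.Pi.neg_apply, _root_.ne_eq, _root_.Fin.reduceEq, _root_.not_false_eq_true, _root_.Finsupp.single_eq_of_ne, _root_.neg_zero, _root_.add_zero, _root_.Finsupp.single_eq_same, _root_.zero_add, _root_.neg_eq_zero, _root_.one_ne_zero]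
      · refine hz 2 _ r2 ?_
        rw [x10, ← b0, ← b1, ← b2, ← b3, ← b5]; simp only [_root_.Fin.isValue, _root_.one_smul, _root_.neg_smul, _root_.map_add, _root_.Module.Basis.repr_self, _root_.map_neg, _root_.Finsupp.coe_add, _root_.Finsupp.coe_neg, _root_.Pi.add_apply, _root_.ne_eq, _root_.Fin.reduceEq, _root_.not_false_eq_true, _root_.Finsupp.single_eq_of_ne, _root_.add_zero, _root_.Finsupp.single_eq_same, _root_.zero_add, _root_.Pi.neg_apply, _root_.neg_zero, _root_.one_ne_zero]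

end Cfsg.Agent.H830.L11
end

-- part: H830/L11Main
section
/-!
# `2.L₂(11)` is not the core of a maximal subgroup of `SL₆(3)` (helper830)

Task (d) / E5 of the `n = 6` kills. The 24 vectors fixed by the elements of order `11` of `P` are permuted by the normaliser of
`P` and by an element `E` of order `3` (an element of `2.M₁₂`) which does not normalise `P`.
-/

set_option autoImplicit false
set_option linter.unusedSectionVars false

namespace Cfsg.Agent.H830.L11

open Matrix Module Cfsg Cfsg.Geo Cfsg.Agent.H464.Sl2 Cfsg.Agent.H915.LD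

universe u'

local notation "G11" => SpecialLinearGroup (Fin 2) (ZMod 11)

theorem tw {K : Type*} [Field K] (a : Kˣ) : t a * w 1 = w 1 * t a⁻¹ := by
  rw [w_one_mul_t]
  apply Subtype.ext
  ext i j
  (revert i j; simp [_root_.Fin.forall_fin_succ])

section abstract_part

variable {F : Type*} [Field F] [Fintype F] {V : Type*} [AddCommGroup V] [Module F V]
  [FiniteDimensional F V] {R : G11 →* Module.End F V} {v : V}

theorem y_ne (hF : Fintype.card F = 3) (hV : finrank F V = 6) (h : Dat R v (-1) 1) (hirr : Irr R) {ε : F} :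
    y R v 0 ≠ ε • y R v 1 := by
  obtain ⟨b, b0, b1, -⟩ := exists_basis hF hV h hirr
  intro h1
  rw [← b0, ← b1] at h1
  have h2 := congrArg (fun x => b.repr x 0) h1
  simp only [map_smul, Basis.repr_self, Finsupp.smul_apply] at h2
  simp at h2

theorem y_inj (hF : Fintype.card F = 3) (hV : finrank F V = 6) (h : Dat R v (-1) 1) (hirr : Irr R) {ε : F}
    {r s : ZMod 11} (hrs : y R v r = ε • y R v s) : r = s := by
  by_contra hne
  have h1 : ∀ k : ZMod 11, y R v k = ε • y R v (k + (s - r)) := by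
    intro k
    have h2 := congrArg (R (u (k - r))) hrs
    rw [map_smul, R_u_y, R_u_y] at h2
    convert h2 using 3 <;> ring
  have h2 : ∀ n : ℕ, y R v 0 = ε ^ n • y R v (n * (s - r)) := by
    intro n
    induction n with
    | zero => simp
    | succ n ih =>
      rw [ih, h1 (n * (s - r)), smul_smul, ← pow_succ]
      congr 2
      push_cast
      ring
  have hd : s - r ≠ 0 := sub_ne_zero.2 (Ne.symm hne)
  have h3 := h2 ((s - r)⁻¹ : ZMod 11).val
  rw [ZMod.natCast_zmod_val, inv_mul_cancel₀ hd] at h3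
  exact y_ne hF hV h hirr h3

theorem v_ne (hF : Fintype.card F = 3) (hV : finrank F V = 6) (h : Dat R v (-1) 1) (hirr : Irr R) {ε : F}
    (hε : ε = 1 ∨ ε = -1) (s : ZMod 11) : v ≠ ε • y R v s := by
  intro h1
  have h2 := congrArg (R (u 1)) h1
  rw [h.fix, map_smul, R_u_y] at h2
  have h3 : y R v s = (1 : F) • y R v (1 + s) := by
    rw [one_smul]
    have h4 : ε • y R v s = ε • y R v (1 + s) := by rw [← h1, ← h2]
    rcases hε with rfl | rfl
    · rwa [one_smul, one_smul] at h4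
    · rwa [neg_one_smul, neg_one_smul, neg_inj] at h4
  have h4 := y_inj hF hV h hirr h3
  revert h4
  generalize s = z
  revert z
  decide

theorem t_y (h : Dat R v (-1) 1) (a : (ZMod 11)ˣ) : ∃ ε : F, (ε = 1 ∨ ε = -1) ∧
    ∀ s, R (t a) (y R v s) = ε • y R v ((a : ZMod 11) ^ 2 * s) := by
  obtain ⟨ε, h1, -, h2⟩ := tor_all h (Or.inr rfl) a⁻¹
  refine ⟨ε, h1, fun s => ?_⟩
  have h3 := tw a
  unfold y
  rw [← Module.End.mul_apply, ← map_mul, t_mul_u, map_mul, Module.End.mul_apply, ← Module.End.mul_apply (R (t a)), ← map_mul,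
    h3, map_mul, Module.End.mul_apply, h2, map_smul, map_smul]

/-- An element fixing three of the lines is a scalar. -/
theorem rigid (hF : Fintype.card F = 3) (hV : finrank F V = 6) (h : Dat R v (-1) 1) (hirr : Irr R) {g : G11}
    (h1 : R g v = v) (h2 : R g (y R v 0) = y R v 0) (h3 : R g (y R v 4) = y R v 4) (s : ZMod 11) :
    ∃ ε : F, (ε = 1 ∨ ε = -1) ∧ R g (y R v s) = ε • y R v s := by
  obtain ⟨ε, hε, -, h4⟩ := orbit h (Or.inr rfl) g
  rcases h4 with ⟨-, x, a, rfl⟩ | ⟨s, h4⟩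
  · obtain ⟨δ, hδ, h5⟩ := t_y h a
    have h6 : ∀ s, R (u x * t a) (y R v s) = δ • y R v (x + (a : ZMod 11) ^ 2 * s) := by
      intro s
      rw [map_mul, Module.End.mul_apply, h5, map_smul, R_u_y]
    rw [h6] at h2 h3
    have h7 := y_inj hF hV h hirr h2.symm
    rw [mul_zero, add_zero] at h7
    have h8 := y_inj hF hV h hirr h3.symm
    rw [← h7, zero_add] at h8
    have h9 : (a : ZMod 11) ^ 2 = 1 := by
      have h10 : (4 : ZMod 11) ≠ 0 := by decide
      apply mul_right_cancel₀ h10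
      rw [one_mul]
      exact h8.symm
    refine ⟨δ, hδ, ?_⟩
    rw [h6, ← h7, h9, one_mul, zero_add]
  · rw [h1] at h4
    exact absurd h4 (v_ne hF hV h hirr hε s)

end abstract_part

section concrete

variable {F : Type u'} [Field F] [Fintype F]

/-- the representation by matrices -/
noncomputable def rep (ρ : G11 →* GL (Fin 6) F) : G11 →* Module.End F (Fin 6 → F) :=
  (Matrix.toLinAlgEquiv' : Matrix (Fin 6) (Fin 6) F ≃ₐ[F] _).toAlgHom.toRingHom.toMonoidHom.comp ((Units.coeHom _).comp ρ)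

theorem rep_apply (ρ : G11 →* GL (Fin 6) F) (g : G11) (x : Fin 6 → F) :
    rep ρ g x = (ρ g : Matrix (Fin 6) (Fin 6) F) *ᵥ x := rfl

theorem finrank_six : finrank F (Fin 6 → F) = 6 := by rw [Module.finrank_fin_fun]

theorem irr_rep {P : Subgroup (GL (Fin 6) F)} (ρ : G11 →* GL (Fin 6) F) (hρ : ρ.range = P)
    (hirr : ActsIrreducibly (matrixSet P)) : Irr (rep ρ) := by
  intro W hW
  apply hirr
  rintro _ ⟨g, hg, rfl⟩
  have hg' : g ∈ P := hg
  rw [← hρ] at hg'
  obtain ⟨g', rfl⟩ := hg'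
  rintro _ ⟨x, hx, rfl⟩
  exact hW g' x hx

/-- a homomorphism with trivial kernel and normalised data -/
theorem exists_nice (hF : Fintype.card F = 3) {P : Subgroup (GL (Fin 6) F)} (hC : Core P)
    (e : Soc P ≃* ProjectiveSpecialLinearGroup (Fin 2) (ZMod 11)) :
    ∃ (ρ : G11 →* GL (Fin 6) F) (v : Fin 6 → F), ρ.range = P ∧ Function.Injective ρ ∧ Irr (rep ρ) ∧
      Dat (rep ρ) v (-1) 1 := by
  obtain ⟨ρ, hρ, hρe⟩ := exists_rep hC.perfect (by rw [ZMod.card]; norm_num) (by rw [ZMod.card]; norm_num)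
    (by rw [ZMod.card]; norm_num) e
  have hirr := irr_rep ρ hρ hC.absIrred.1
  have hne : rep ρ ≠ 1 := by
    intro h
    have h1 : ρ = 1 := by
      ext1 g
      apply Units.ext
      have h2 : rep ρ g = 1 := DFunLike.congr_fun h g
      exact Matrix.toLinAlgEquiv'.injective (h2.trans (map_one _).symm)
    subst h1
    subst hρ
    apply hC.nonabelian
    have h3 : Subsingleton (1 : G11 →* GL (Fin 6) F).range := by
      rw [MonoidHom.range_one]
      infer_instance
    have h2 : Subsingleton (Soc (1 : G11 →* GL (Fin 6) F).range) := (toSoc_surjective _).subsingleton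
    exact ⟨⟨fun a b => Subsingleton.elim _ _⟩⟩
  obtain ⟨v, ω, c', hD, hω⟩ := exists_dat (rep ρ) hF finrank_six hne
  have hω1 : ω = -1 := hω.resolve_left (omega_ne_one hF finrank_six hirr hD)
  subst hω1
  have hc : c' = 1 ∨ c' = -1 := by
    rw [← mul_self_eq_one_iff]
    have h1 := cc hD hF
    linear_combination h1
  have hinj : Function.Injective ρ := by
    rw [injective_iff_map_eq_one]
    intro g hg
    have h3 : ρ g ∈ P := by rw [← hρ]; exact ⟨g, rfl⟩
    have h4 := hρe g h3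
    have h5 : (QuotientGroup.mk ⟨ρ g, h3⟩ : Soc P) = 1 := by
      rw [QuotientGroup.eq_one_iff, Subgroup.mem_subgroupOf]
      change ρ g ∈ _
      rw [hg]
      exact one_mem _
    rw [h5, map_one] at h4
    have h1 := (QuotientGroup.eq_one_iff g).1 h4.symm
    rw [Matrix.SpecialLinearGroup.mem_center_iff] at h1
    obtain ⟨r, hr1, hr2⟩ := h1
    rw [Fintype.card_fin, sq, mul_self_eq_one_iff] at hr1
    rcases hr1 with h3 | h3
    · apply Subtype.ext
      rw [← hr2, h3]
      simp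
    · exfalso
      have h6 : g = t (-1) := by
        apply Subtype.ext
        rw [← hr2, h3, t_coe]
        ext i j
        (revert i j; simp only [Matrix.scalar_apply, _root_.Fin.forall_fin_succ, _root_.Units.val_neg, _root_.Units.val_one, _root_.inv_neg, _root_.inv_one, _root_.Matrix.of_apply, _root_.Matrix.cons_val', _root_.Matrix.cons_val_fin_one, Fin.isValue, _root_.Matrix.cons_val_zero, _root_.Matrix.cons_val_succ, _root_.Fin.succ_zero_eq_one, _root_.IsEmpty.forall_iff, _root_.and_true, _root_.Matrix.diagonal_apply_eq, _root_.ne_eq, _root_.zero_ne_one, _root_.not_false_eq_true, _root_.Matrix.diagonal_apply_ne, _root_.and_self, _root_.Fin.succ_ne_zero, _root_.true_and])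
      have h7 := hD.neg
      rw [rep_apply, ← h6, hg, Units.val_one, Matrix.one_mulVec, neg_one_smul] at h7
      have h8 : (3 : F) • v = 0 := by rw [three_eq_zero hF, zero_smul]
      have h9 : (2 : F) • v = 0 := by
        rw [two_smul]
        nth_rewrite 2 [h7]
        rw [add_neg_cancel]
      apply hD.ne
      have h10 : v = (3 : F) • v - (2 : F) • v := by rw [← sub_smul]; norm_num
      rw [h10, h8, h9, sub_zero]
  rcases hc with rfl | rfl
  · exact ⟨ρ, v, hρ, hinj, hirr, hD⟩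
  · have hdl : Function.Surjective dl := fun g => ⟨dl g, dl_dl g⟩
    have hdi : Function.Injective dl := fun a b h => by rw [← dl_dl a, h, dl_dl]
    have hr : (ρ.comp dl).range = P := by
      rw [MonoidHom.range_comp, MonoidHom.range_eq_top.2 hdl, ← MonoidHom.range_eq_map, hρ]
    refine ⟨ρ.comp dl, v, hr, hinj.comp hdi, irr_rep _ hr hC.absIrred.1, ?_⟩
    have h1 := hD.twist
    rw [neg_one_mul, neg_neg] at h1
    exact h1

theorem natCast_smul_u (R : G11 →* Module.End F (Fin 6 → F)) {s : ZMod 11} (hs : s ≠ 0) {x : Fin 6 → F}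
    (hx : R (u s) x = x) (r : ZMod 11) : R (u r) x = x := by
  have h1 : ∀ n : ℕ, R (u (n * s)) x = x := by
    intro n
    induction n with
    | zero => simp only [u_zero, _root_.Nat.cast_zero, _root_.MulZeroClass.zero_mul, _root_.map_one, _root_.Module.End.one_apply]
    | succ n ih =>
      have h2 : ((n + 1 : ℕ) : ZMod 11) * s = s + n * s := by push_cast; ring
      rw [h2, u_add, map_mul, Module.End.mul_apply, ih, hx]
  have h2 := h1 ((r / s : ZMod 11)).val
  rwa [ZMod.natCast_zmod_val, div_mul_cancel₀ _ hs] at h2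

/-- an element of order `11` of `SL₂(11)` -/
theorem conj_u {g : G11} (hg : g ^ 11 = 1) (hg1 : g ≠ 1) : ∃ (k : G11) (s : ZMod 11), s ≠ 0 ∧ g = k * u s * k⁻¹ := by
  have hnil : IsNilpotent (g.1 - 1) := by
    refine ⟨11, ?_⟩
    rw [sub_pow_char_of_commute 11 (Commute.one_right _), one_pow]
    have h1 : (g ^ 11).1 = g.1 ^ 11 := rfl
    rw [← h1, hg]
    exact sub_self _
  have htr := (Matrix.isNilpotent_trace_of_isNilpotent hnil).eq_zero
  rw [Matrix.trace_fin_two, Matrix.sub_apply, Matrix.sub_apply, Matrix.one_apply_eq, Matrix.one_apply_eq] at htr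
  have h2 : g.1 0 0 + g.1 1 1 = 2 := by linear_combination htr
  obtain ⟨k, ε, s, hε, hk⟩ := exists_conj_unip g (by rw [h2]; norm_num)
  have h3 : ∀ n : ℕ, (t ε * u s) ^ n = t ε ^ n * u (n * s) := by
    intro n
    induction n with
    | zero => simp [u_zero]
    | succ n ih =>
      have h4 : t ε * u s = u s * t ε := t_sq_central hε (u s)
      rw [pow_succ, ih, h4, mul_assoc, ← mul_assoc (u _), ← u_add, ← t_sq_central hε, ← mul_assoc, ← pow_succ]
      congr 2
      push_cast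
      ring
  have h4 : (k * (t ε * u s) * k⁻¹) ^ 11 = k * (t ε * u s) ^ 11 * k⁻¹ := conj_pow
  rw [hk, h4, h3] at hg
  have h5 : ((11 : ℕ) : ZMod 11) = 0 := by decide
  rw [h5, zero_mul, u_zero, mul_one, mul_inv_eq_one, mul_eq_left] at hg
  have h6 : t ε ^ 2 = 1 := by rw [sq, ← t_mul, ← sq, hε, t_one]
  have h7 : t ε = 1 := by
    have h8 : t ε ^ 11 = (t ε ^ 2) ^ 5 * t ε := by rw [← pow_mul, ← pow_succ]
    rwa [h8, h6, one_pow, one_mul] at hg
  rw [h7, one_mul] at hk
  refine ⟨k, s, ?_, hk⟩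
  rintro rfl
  apply hg1
  rw [hk, u_zero, mul_one, mul_inv_cancel]

/-- **The 24 vectors, intrinsically.** -/
theorem mem_Om_iff (hF : Fintype.card F = 3) {P : Subgroup (GL (Fin 6) F)} {ρ : G11 →* GL (Fin 6) F} {v : Fin 6 → F}
    (hρ : ρ.range = P) (hinj : Function.Injective ρ) (hD : Dat (rep ρ) v (-1) 1) (x : Fin 6 → F) :
    x ∈ Om (rep ρ) v ↔ x ≠ 0 ∧ ∃ g ∈ P, g ≠ 1 ∧ g ^ 11 = 1 ∧ (g : Matrix (Fin 6) (Fin 6) F) *ᵥ x = x := by
  have hu1 : (u (1 : ZMod 11)) ≠ 1 := by
    intro h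
    have h1 := congrFun (congrFun (congrArg Subtype.val h) 0) 1
    simp only [_root_.Fin.isValue, _root_.Cfsg.Agent.H464.Sl2.u_coe, _root_.Matrix.of_apply, _root_.Matrix.cons_val', _root_.Matrix.cons_val_one, _root_.Matrix.cons_val_fin_one, _root_.Matrix.cons_val_zero, _root_.Matrix.SpecialLinearGroup.coe_one, _root_.ne_eq, _root_.zero_ne_one, _root_.not_false_eq_true, _root_.Matrix.one_apply_ne, _root_.one_ne_zero] at h1
  have hu11 : (u (1 : ZMod 11)) ^ 11 = 1 := by
    have h3 : ∀ n : ℕ, (u (1 : ZMod 11)) ^ n = u (n : ZMod 11) := by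
      intro n
      induction n with
      | zero => simp [u_zero]
      | succ n ih => rw [pow_succ, ih, ← u_add]; push_cast; rfl
    rw [h3]
    have h5 : ((11 : ℕ) : ZMod 11) = 0 := by decide
    rw [h5, u_zero]
  constructor
  · rintro ⟨ε, hε, hx⟩
    -- `x = ε • R k v`
    obtain ⟨k, hk⟩ : ∃ k : G11, x = ε • rep ρ k v := by
      rcases hx with hx | ⟨s, hx⟩
      · exact ⟨1, by rw [map_one, Module.End.one_apply]; exact hx⟩
      · refine ⟨u s * w 1, ?_⟩
        rw [map_mul, Module.End.mul_apply]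
        exact hx
    have hε0 : ε ≠ 0 := by
      rcases hε with rfl | rfl
      · exact one_ne_zero
      · exact neg_ne_zero.2 one_ne_zero
    refine ⟨?_, ρ (k * u 1 * k⁻¹), by rw [← hρ]; exact ⟨_, rfl⟩, ?_, ?_, ?_⟩
    · rw [hk]
      intro h1
      have h2 := (smul_eq_zero.1 h1).resolve_left hε0
      apply hD.ne
      apply R_injective (rep ρ) k
      rw [h2, map_zero]
    · intro h1
      rw [← map_one ρ] at h1
      have h2 := hinj h1
      rw [mul_inv_eq_one, mul_eq_left] at h2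
      exact hu1 h2
    · rw [← map_pow, conj_pow, hu11, mul_one, mul_inv_cancel, map_one]
    · rw [← rep_apply, hk, map_smul]
      congr 1
      rw [← Module.End.mul_apply, ← map_mul, inv_mul_cancel_right, map_mul, Module.End.mul_apply, hD.fix]
  · rintro ⟨hx0, g, hg, hg1, hg11, hgx⟩
    rw [← hρ] at hg
    obtain ⟨g', rfl⟩ := hg
    have h1 : g' ^ 11 = 1 := by
      apply hinj
      rw [map_pow, hg11, map_one]
    have h2 : g' ≠ 1 := by
      rintro rfl
      exact hg1 (map_one ρ)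
    obtain ⟨k, s, hs, rfl⟩ := conj_u h1 h2
    rw [← rep_apply] at hgx
    have h3 : rep ρ (u s) (rep ρ k⁻¹ x) = rep ρ k⁻¹ x := by
      have h4 := congrArg (rep ρ k⁻¹) hgx
      rwa [← Module.End.mul_apply, ← map_mul, mul_assoc, inv_mul_cancel_left, map_mul, Module.End.mul_apply] at h4
    obtain ⟨c, hc⟩ := hD.uniq _ (fun r => natCast_smul_u (rep ρ) hs h3 r)
    have h5 : x = c • rep ρ k v := by
      have h6 := congrArg (rep ρ k) hc
      rwa [← Module.End.mul_apply, ← map_mul, mul_inv_cancel, map_one, Module.End.one_apply, map_smul] at h6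
    have hc0 : c ≠ 0 := by
      rintro rfl
      exact hx0 (by rw [h5, zero_smul])
    have hc1 := sq_eq_one hF hc0
    obtain ⟨ε, hε, -, h6⟩ := orbit hD (Or.inr rfl) k
    have h7 : c * ε = 1 ∨ c * ε = -1 := by
      rcases hc1 with rfl | rfl <;> rcases hε with rfl | rfl <;> simp
    refine ⟨c * ε, h7, ?_⟩
    rcases h6 with ⟨h6, -⟩ | ⟨s, h6⟩
    · left; rw [h5, h6, smul_smul]
    · right; exact ⟨s, by rw [h5, h6, smul_smul]⟩

/-- the setwise stabiliser of a set of vectors in `SL₆` -/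
def stab (S : Set (Fin 6 → F)) : Subgroup (GL (Fin 6) F) where
  carrier := {g | g ∈ specialLinear (Fin 6) F ∧ ∀ x, (g : Matrix (Fin 6) (Fin 6) F) *ᵥ x ∈ S ↔ x ∈ S}
  one_mem' := ⟨one_mem _, fun x => by rw [Units.val_one, Matrix.one_mulVec]⟩
  mul_mem' {a b} ha hb := ⟨mul_mem ha.1 hb.1, fun x => by
    rw [Units.val_mul, ← Matrix.mulVec_mulVec, ha.2, hb.2]⟩
  inv_mem' {a} ha := ⟨inv_mem ha.1, fun x => by
    rw [← ha.2, Matrix.mulVec_mulVec, ← Units.val_mul, mul_inv_cancel, Units.val_one, Matrix.one_mulVec]⟩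

/-- an endomorphism of order dividing three as an element of `SL₆(3)` -/
theorem exists_gl (hF : Fintype.card F = 3) {E : Module.End F (Fin 6 → F)} (hE : E * E * E = 1) :
    ∃ g : GL (Fin 6) F, g ∈ specialLinear (Fin 6) F ∧ ∀ x, (g : Matrix (Fin 6) (Fin 6) F) *ᵥ x = E x := by
  set A := LinearMap.toMatrixAlgEquiv' E with hA
  have h1 : A * A * A = 1 := by rw [hA, ← map_mul, ← map_mul, hE, map_one]
  let g : GL (Fin 6) F := ⟨A, A * A, by rw [← Matrix.mul_assoc, h1], h1⟩
  have hg3 : g ^ 3 = 1 := by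
    apply Units.ext
    rw [Units.val_pow_eq_pow_val, pow_succ, pow_two]
    exact h1
  refine ⟨g, ?_, fun x => ?_⟩
  · change Matrix.GeneralLinearGroup.det g = 1
    have h2 : Matrix.GeneralLinearGroup.det g ^ 3 = 1 := by rw [← map_pow, hg3, map_one]
    apply Units.ext
    have h3 := FiniteField.pow_card ((Matrix.GeneralLinearGroup.det g : Fˣ) : F)
    rw [hF, ← Units.val_pow_eq_pow_val, h2] at h3
    exact h3.symm
  · change A *ᵥ x = E x
    rw [hA, ← Matrix.toLin'_apply]
    have h2 : Matrix.toLin' (LinearMap.toMatrixAlgEquiv' E) = E := Matrix.toLin'_toMatrix' E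
    rw [h2]

/-- **`2.L₂(11)` in dimension six over the field with three elements.** -/
theorem not_maximal (hF : Fintype.card F = 3) {H P : Subgroup (GL (Fin 6) F)}
    (hH : IsMaximalIn (specialLinear (Fin 6) F) H) (hP : IsResidualCore H P)
    (e : Soc P ≃* ProjectiveSpecialLinearGroup (Fin 2) (ZMod 11)) : False := by
  have hC := core_of_residual hP
  obtain ⟨ρ, v, hρ, hinj, hirr, hD⟩ := exists_nice hF hC e
  have hV := finrank_six (F := F)
  have hOm := mem_Om_iff hF hρ hinj hD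
  -- `H` permutes the vectors
  have hHX : H ≤ stab (Om (rep ρ) v) := by
    have key : ∀ h ∈ H, ∀ x, x ∈ Om (rep ρ) v → (h : Matrix (Fin 6) (Fin 6) F) *ᵥ x ∈ Om (rep ρ) v := by
      intro h hh x hx
      rw [hOm] at hx ⊢
      obtain ⟨hx0, g, hg, hg1, hg11, hgx⟩ := hx
      refine ⟨?_, h * g * h⁻¹, hP.normal h hh g hg, ?_, ?_, ?_⟩
      · intro h1
        apply hx0
        have h2 := congrArg (fun y => ((h⁻¹ : GL (Fin 6) F) : Matrix (Fin 6) (Fin 6) F) *ᵥ y) h1
        simp only [Matrix.mulVec_mulVec, ← Units.val_mul, inv_mul_cancel, Units.val_one, Matrix.one_mulVec,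
          Matrix.mulVec_zero] at h2
        exact h2
      · intro h1
        rw [mul_inv_eq_one, mul_eq_left] at h1
        exact hg1 h1
      · rw [conj_pow, hg11, mul_one, mul_inv_cancel]
      · rw [Matrix.mulVec_mulVec, ← Units.val_mul, inv_mul_cancel_right, Units.val_mul, ← Matrix.mulVec_mulVec, hgx]
    intro h hh
    refine ⟨hH.1.le hh, fun x => ⟨fun hx => ?_, key h hh x⟩⟩
    have h1 := key h⁻¹ (inv_mem hh) _ hx
    rwa [Matrix.mulVec_mulVec, ← Units.val_mul, inv_mul_cancel, Units.val_one, Matrix.one_mulVec] at h1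
  obtain ⟨E, hE3, Ev, E0, E1, E2, E3, E4, E5, E6, E7, E8, E9, E10⟩ := exists_E hF hV hD hirr
  obtain ⟨T, hT3, xT, hxT, hTx⟩ := exists_T hF hV hD hirr
  obtain ⟨gE, hgE, hgE2⟩ := exists_gl hF hE3
  obtain ⟨gT, hgT, hgT2⟩ := exists_gl hF hT3
  have hEOm : ∀ x, x ∈ Om (rep ρ) v → E x ∈ Om (rep ρ) v := by
    have hEy : ∀ s, ∃ r, E (y (rep ρ) v s) = y (rep ρ) v r :=
      all_s (fun s => ∃ r, E (y (rep ρ) v s) = y (rep ρ) v r) ⟨_, E0⟩ ⟨_, E1⟩ ⟨_, E2⟩ ⟨_, E3⟩ ⟨_, E4⟩ ⟨_, E5⟩ ⟨_, E6⟩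
        ⟨_, E7⟩ ⟨_, E8⟩ ⟨_, E9⟩ ⟨_, E10⟩
    rintro x ⟨ε, hε, rfl | ⟨s, rfl⟩⟩
    · exact ⟨ε, hε, Or.inl (by rw [map_smul, Ev])⟩
    · obtain ⟨r, hr⟩ := hEy s
      exact ⟨ε, hε, Or.inr ⟨r, by rw [map_smul, hr]⟩⟩
  have hEX : gE ∈ stab (Om (rep ρ) v) := by
    refine ⟨hgE, fun x => ?_⟩
    rw [hgE2]
    refine ⟨fun hx => ?_, hEOm x⟩
    have h1 := hEOm _ (hEOm _ hx)
    have h2 : E (E (E x)) = x := DFunLike.congr_fun hE3 x
    rwa [h2] at h1
  have hTX : gT ∉ stab (Om (rep ρ) v) := by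
    intro h
    apply hTx
    rw [← hgT2]
    exact (h.2 xT).2 hxT
  have hX : stab (Om (rep ρ) v) = H := by
    refine (hH.2 _ hHX (fun g hg => hg.1)).resolve_right (fun h => hTX ?_)
    rw [h]
    exact hgT
  have hEH : gE ∈ H := by rw [← hX]; exact hEX
  -- the commutator of `E` and `u`
  have hcomm : gE * ρ (u 1) * gE⁻¹ * (ρ (u 1))⁻¹ ∈ P :=
    mul_mem (hP.normal gE hEH _ (by rw [← hρ]; exact ⟨_, rfl⟩)) (inv_mem (by rw [← hρ]; exact ⟨_, rfl⟩))
  have hcomm' := hcomm
  rw [← hρ] at hcomm'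
  obtain ⟨g', hg'⟩ := hcomm'
  -- its action
  have hEinv : ∀ x z, E x = z → ((gE⁻¹ : GL (Fin 6) F) : Matrix (Fin 6) (Fin 6) F) *ᵥ z = x := by
    intro x z hxz
    rw [← hxz, ← hgE2, Matrix.mulVec_mulVec, ← Units.val_mul, inv_mul_cancel, Units.val_one, Matrix.one_mulVec]
  have hact : ∀ a b c d f : Fin 6 → F, rep ρ (u (-1)) a = b → E c = b → rep ρ (u 1) c = d → E d = f →
      rep ρ g' a = f := by
    intro a b c d f h1 h2 h3 h4
    have h5 : (ρ (u 1))⁻¹ = ρ (u (-1)) := by
      rw [← map_inv]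
      congr 1
      rw [inv_eq_iff_mul_eq_one, ← u_add, add_neg_cancel, u_zero]
    rw [rep_apply, hg', h5, Units.val_mul, Units.val_mul, Units.val_mul, ← Matrix.mulVec_mulVec, ← Matrix.mulVec_mulVec,
      ← Matrix.mulVec_mulVec, ← rep_apply ρ (u (-1)), h1, hEinv _ _ h2, ← rep_apply, h3, hgE2, h4]
  have cv := hact v v v v v (hD.fix _) Ev (hD.fix _) Ev
  have c0 := hact (y (rep ρ) v 0) (y (rep ρ) v 10) (y (rep ρ) v 10) (y (rep ρ) v 0) (y (rep ρ) v 0)
    (by rw [R_u_y]; congr 1) E10 (by rw [R_u_y]; congr 1) E0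
  have c4 := hact (y (rep ρ) v 4) (y (rep ρ) v 3) (y (rep ρ) v 6) (y (rep ρ) v 7) (y (rep ρ) v 4)
    (by rw [R_u_y]; congr 1) E6 (by rw [R_u_y]; congr 1) E7
  have c1 := hact (y (rep ρ) v 1) (y (rep ρ) v 0) (y (rep ρ) v 0) (y (rep ρ) v 1) (y (rep ρ) v 6)
    (by rw [R_u_y]; congr 1) E0 (by rw [R_u_y]; congr 1) E1
  obtain ⟨ε, hε, h1⟩ := rigid hF hV hD hirr cv c0 c4 1
  rw [c1] at h1
  have h2 := y_inj hF hV hD hirr h1
  revert h2
  decide

end concrete

end Cfsg.Agent.H830.L11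
end

private theorem dce_f04bd1ef0830 : _root_.True := by
  try have : _root_.True := by simp only [_root_.Cfsg.Agent.H910.Six.tau.congr_simp]
  try have : _root_.True := by simp only [_root_.Cfsg.Agent.H910.Six.econj.eq_1]
  exact _root_.True.intro
end

-- part: H913/S6/Final
section
prune_inst 0xf10001004400000000000080110000202400000000000000a00000000009800080820000000000000000000100010000000000000000000000000000000001000000000020400000020000000080000000000000000000000000000000000000000000000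
set_option linter.all false
open scoped Cfsg.Agent.FastGrp

-- part: H918/Six/Own
section
/-!
# Dimension six, own characteristic (helper918)

`own6_sl` : the linear row, `own6_su` : the unitary row (given the facts on `PSU_4`, `PSU_5` in degree six).
-/

set_option autoImplicit false
set_option linter.unusedSectionVars false

namespace Cfsg.Agent.H918.Six

open Cfsg Cfsg.Geo Matrix Cfsg.Agent.H915.LD

universe u

variable {F : Type u} [Field F] [Fintype F]

/-- isometries of the unitary form: the dual is the conjugate -/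
theorem cj_of_le_GU {q : ℕ} (hF : Fintype.card F = q ^ 2) {P : Subgroup (GL (Fin 6) F)} (hP : P ≤ GU 6 F q) :
    Cj P q := by
  obtain ⟨p, hp, hFp⟩ : ∃ p : ℕ, p.Prime ∧ CharP F p := by
    obtain ⟨p, hp⟩ := CharP.exists F
    exact ⟨p, (CharP.char_is_prime_or_zero F p).resolve_right (CharP.char_ne_zero_of_finite F p), hp⟩
  have := Fact.mk hp
  obtain ⟨m, hm, hcard⟩ := FiniteField.card F p
  rw [hF] at hcard
  have h1 : ∃ k, q = p ^ k := by
    have : q ∣ p ^ (m : ℕ) := ⟨q, by rw [← hcard, pow_two]⟩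
    obtain ⟨k, -, hk⟩ := (Nat.dvd_prime_pow hp).1 this
    exact ⟨k, hk⟩
  obtain ⟨k, hk⟩ := h1
  let σ : F ≃+* F := RingEquiv.ofBijective (iterateFrobenius F p k) (Finite.injective_iff_bijective.1
    (RingHom.injective _))
  have hσ : ∀ x, σ x = x ^ q := fun x => by
    rw [hk]
    exact iterateFrobenius_def ..
  intro g hg
  have h2 := (H571.JUnit.mem_GU_iff hσ).1 (hP hg)
  rw [H571.JUnit.mem_UU] at h2
  have h3 : ((g : GL (Fin 6) F) : Matrix (Fin 6) (Fin 6) F).map σ = (((g⁻¹ : GL (Fin 6) F) : Matrix (Fin 6) (Fin 6) F))ᵀ := by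
    have h4 : (((g⁻¹ : GL (Fin 6) F) : Matrix (Fin 6) (Fin 6) F))ᵀ * ((g : Matrix (Fin 6) (Fin 6) F))ᵀ = 1 := by
      rw [← Matrix.transpose_mul, ← Units.val_mul, mul_inv_cancel, Units.val_one, Matrix.transpose_one]
    calc ((g : GL (Fin 6) F) : Matrix (Fin 6) (Fin 6) F).map σ
        = ((((g⁻¹ : GL (Fin 6) F) : Matrix (Fin 6) (Fin 6) F))ᵀ * ((g : Matrix (Fin 6) (Fin 6) F))ᵀ) *
          ((g : Matrix (Fin 6) (Fin 6) F)).map σ := by rw [h4, one_mul]
      _ = _ := by rw [Matrix.mul_assoc, h2, mul_one]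
  have h5 := congrArg Matrix.trace h3
  rw [Matrix.trace_transpose] at h5
  change (g : Matrix (Fin 6) (Fin 6) F).trace ^ q = _
  rw [← hσ]
  change _ = ((g⁻¹ : GL (Fin 6) F) : Matrix (Fin 6) (Fin 6) F).trace
  rw [← h5]
  exact AddMonoidHom.map_trace σ.toRingHom.toAddMonoidHom _

variable {P : Subgroup (GL (Fin 6) F)}

/-- **`PSL_m` in its own characteristic, degree six.** -/
theorem own6_psl (p : ℕ) [hp : Fact p.Prime] [CharP F p] (hC : Core P) {K : Type} [Field K] [Fintype K] [CharP K p]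
    {l : ℕ} (hl : 1 ≤ l) (hK : l = 1 → 4 ≤ Nat.card K)
    (e : Soc P ≃* ProjectiveSpecialLinearGroup (Fin (l + 1)) K) : Out6 p P := by
  have h1 := H905.Md.psl_rank p hC.absIrred hC.perfect hl hK e
  rw [Fintype.card_fin] at h1
  have h2 : l = 1 ∨ l = 2 ∨ l = 3 ∨ l = 4 ∨ l = 5 := by omega
  have h6 : Fintype.card (Fin 6) = 6 := Fintype.card_fin 6
  rcases h2 with rfl | rfl | rfl | rfl | rfl
  · left
    exact H875.DefCov.sd_of_psl2 hC p (by have := hK rfl; omega) e
  · rcases H887.DS.field3 p hC e (Or.inl h6) with h | ⟨h3, -, h4, h5⟩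
    · exact Or.inl h
    · right; right; right; right; right; right; right; right; right; left
      refine ⟨by omega, h5, K, inferInstance, inferInstance, ?_, ⟨e⟩⟩
      rw [← Nat.card_eq_fintype_card, h4, Nat.card_eq_fintype_card]
  · left
    exact H887.DS.six4 p hC e h6
  · exfalso
    have := H887.DS.dim_cases p hC (m := 5) (by omega) (by rw [h6]; norm_num) (by rw [h6]; norm_num) e
    rw [h6] at this
    omega
  · right; right; right; right; right; right; right; right; right; right; right; left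
    exact (H905.Md.psl_eq p hC.absIrred hC.perfect hl hK e hC.no_subfield rfl).2

theorem exists_pow_of_sq {p : ℕ} [hp : Fact p.Prime] {K : Type} [Field K] [Fintype K] [CharP K p] {q : ℕ}
    (hK : Fintype.card K = q ^ 2) : ∃ k, q = p ^ k := by
  obtain ⟨m, hm, hcard⟩ := FiniteField.card K p
  rw [hK] at hcard
  have : q ∣ p ^ (m : ℕ) := ⟨q, by rw [← hcard, pow_two]⟩
  obtain ⟨k, -, hk⟩ := (Nat.dvd_prime_pow hp.out).1 this
  exact ⟨k, hk⟩

/-- **Own characteristic, linear row.** -/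
theorem own6_sl (p : ℕ) [hp : Fact p.Prime] [CharP F p] (hC : Core P) (hL : IsLieTypeChar p (Soc P)) :
    (∃ k, Cj P (p ^ k)) ∨ Out6 p P := by
  have h6 : Fintype.card (Fin 6) = 6 := Fintype.card_fin 6
  rcases H218.SdDC.sd_dc p hC (by rw [h6]; norm_num) hL with h | ⟨K, i1, i2, i3, l, hl, hK, ⟨e⟩⟩ |
    ⟨K, i1, i2, i3, N, q, hK, hN3, hN, h32, ⟨e⟩⟩ | ⟨h, -⟩
  · exact Or.inr (Or.inl h)
  · exact Or.inr (own6_psl p hC hl hK e)
  · left
    obtain ⟨k, rfl⟩ := exists_pow_of_sq (p := p) hK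
    exact ⟨k, H929.U3.core_psu_cj p hC hN3 hK h32 e⟩
  · rw [h6] at h; omega

/-- **Own characteristic, unitary row.** -/
theorem own6_su (p : ℕ) [hp : Fact p.Prime] [CharP F p] (hC : Core P) (hL : IsLieTypeChar p (Soc P)) {q' : ℕ}
    (hF : Fintype.card F = q' ^ 2) (hP : P ≤ GU 6 F q')
    (h45 : ∀ (K : Type) (_ : Field K) (_ : Fintype K) (_ : CharP K p) (N q : ℕ), Fintype.card K = q ^ 2 →
      (N = 4 ∨ N = 5) → (Soc P ≃* PSU N K q) → SD P) : Out6 p P := by
  have h6 : Fintype.card (Fin 6) = 6 := Fintype.card_fin 6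
  rcases H218.SdDC.sd_dc p hC (by rw [h6]; norm_num) hL with h | ⟨K, i1, i2, i3, l, hl, hK, ⟨e⟩⟩ |
    ⟨K, i1, i2, i3, N, q, hK, hN3, hN, h32, ⟨e⟩⟩ | ⟨h, -⟩
  · exact Or.inl h
  · exact own6_psl p hC hl hK e
  · have h1 := (H48.NatSU.psu_le hC p hF hP hK hN3 h32 e).2
    have hcj := H929.U3.core_psu_cj p hC hN3 hK h32 e
    have h2 : N = 3 ∨ (N = 4 ∨ N = 5) ∨ N = 6 := by omega
    rcases h2 with rfl | h2 | rfl
    · have hq2 := H48.NatSU.two_le_of_sq hK
      have hq3 : 3 ≤ q := by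
        rcases (show q = 2 ∨ 3 ≤ q by omega) with h | h
        · exact absurd ⟨rfl, h⟩ h32
        · exact h
      rcases H929.U3.core_psu3 p hC hq3 hK e (by rw [h6]; norm_num) with h | ⟨h3, h | ⟨-, h4⟩ | ⟨h, -⟩ | ⟨h, -⟩⟩
      · exact Or.inl h
      · rw [h6] at h; omega
      · obtain ⟨k, rfl⟩ := exists_pow_of_sq (p := p) hK
        right; right; right; right; right; right; right; right; right; right; left
        exact ⟨h4, K, i1, i2, k, hK, by rw [← Nat.card_eq_fintype_card]; exact h3, hcj, ⟨e⟩⟩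
      · rw [h6] at h; omega
      · rw [h6] at h; omega
    · exact Or.inl (h45 K i1 i2 i3 N q hK h2 e)
    · obtain ⟨k, rfl⟩ := exists_pow_of_sq (p := p) hK
      right; right; right; right; right; right; right; right; right; right; right; right
      exact ⟨K, i1, i2, k, hK, hcj, ⟨e⟩⟩
  · rw [h6] at h; omega

end Cfsg.Agent.H918.Six
end

-- part: H890/A7/Final
section
/-!
# `3.A₇` in dimension six is not maximal in `SL₆`, `SU₆` (helper890)
-/

set_option autoImplicit false
set_option linter.unusedSectionVars false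

namespace Cfsg.Agent.H890.A7

open Cfsg Cfsg.Geo Matrix Cfsg.Agent.H913.N6 Cfsg.Agent.H907
open Cfsg.Agent.H915.LD (Core Soc toSoc tr core_of_residual)

variable {F : Type*} [Field F] {H P : Subgroup (GL (Fin 6) F)}

local notation "M6" => Matrix (Fin 6) (Fin 6) F

/-- if `-1 ∉ P` or `2 = 0` there is a frame -/
theorem frame_of [Finite F] (hC : Core P) (C : Cov P (alternatingGroup (Fin 7)))
    (hm : (-1 : GL (Fin 6) F) ∉ P ∨ (2 : F) = 0) (hz : ∃ c : Fˣ, c ≠ 1 ∧ c ^ 3 = 1 ∧ (sc c : GL (Fin 6) F) ∈ P) :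
    ∃ ω a b k g T ε, Frame C ω a b k g T ε := by
  rcases exists_frame hC C hz with h | ⟨h2, h1, -⟩
  · exact h
  · exfalso
    rcases hm with hm | hm
    · apply hm
      have h3 : (-1 : GL (Fin 6) F) = sc (-1) := by
        apply Units.ext
        rw [coe_sc, Units.val_neg, Units.val_one, Units.val_neg, Units.val_one, neg_smul, one_smul]
      rw [h3]
      exact h1
    · exact h2 hm

section SL

theorem Frame.false_SL [Finite F] {C : Cov P (alternatingGroup (Fin 7))} {ω : Fˣ} {a b k g T : GL (Fin 6) F} {ε : F}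
    (h : Frame C ω a b k g T ε) (hmax : IsMaximalIn (specialLinear (Fin 6) F) H) (hH : IsResidualCore H P) : False := by
  refine h.false_of hmax hH fun Y hY => ?_
  rw [Cfsg.Agent.H918.mem_specialLinear]
  have h1 : (Y : M6).det = 1 := by
    rcases hY with hY | hY
    · rw [hY, det_D h.hω]
    · rw [hY, det_Wn h.hω h.h3]
  rw [Units.val_mul, Units.val_mul, Matrix.det_mul, Matrix.det_mul, h1, mul_one, ← Matrix.det_mul, ← Units.val_mul,
    mul_inv_cancel, Units.val_one, Matrix.det_one]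

end SL

/-- **`3.A₇` is not maximal in `SL₆(F)`.** -/
theorem not_maximal_SL [Finite F] (hmax : IsMaximalIn (specialLinear (Fin 6) F) H) (hH : IsResidualCore H P)
    (e : Soc P ≃* alternatingGroup (Fin 7)) (hm : (-1 : GL (Fin 6) F) ∉ P ∨ (2 : F) = 0)
    (hz : ∃ c : Fˣ, c ≠ 1 ∧ c ^ 3 = 1 ∧ (sc c : GL (Fin 6) F) ∈ P) : False := by
  obtain ⟨ω, a, b, k, g, T, ε, h⟩ := frame_of (core_of_residual hH) (Cov.of e) hm hz
  exact h.false_SL hmax hH

section unitary

variable [Fintype F] {q : ℕ} (hF : Fintype.card F = q ^ 2)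
include hF

theorem unitary_comm {T x : GL (Fin 6) F} {x' : Matrix (Fin 3) (Fin 3) (Matrix (Fin 2) (Fin 2) F)}
    (hx : x ∈ GU 6 F q) (hI : Im T x x') (hx' : dag q x' * x' = 1) :
    ((T : M6) * (ct q (T : M6) * T) * ((T⁻¹ : GL (Fin 6) F) : M6)) * x =
      x * ((T : M6) * (ct q (T : M6) * T) * ((T⁻¹ : GL (Fin 6) F) : M6)) := by
  rw [mem_GU_iff_ct hF] at hx
  have hTT : (T : M6) * ((T⁻¹ : GL (Fin 6) F) : M6) = 1 := by rw [← Units.val_mul, mul_inv_cancel, Units.val_one]
  have hTT' : ((T⁻¹ : GL (Fin 6) F) : M6) * (T : M6) = 1 := by rw [← Units.val_mul, inv_mul_cancel, Units.val_one]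
  have h1 : rho (dag q x') * rho x' = 1 := by rw [← map_mul, hx', map_one]
  have h2 : rho x' * rho (dag q x') = 1 := mul_eq_one_comm.1 h1
  have h3 : ct q (T : M6) * T = rho (dag q x') * (ct q (T : M6) * T) * rho x' := by
    calc ct q (T : M6) * T = ct q (T : M6) * (ct q (x : M6) * x) * T := by rw [hx, mul_one]
      _ = (ct q (T : M6) * ct q (x : M6)) * (x * T) := by simp only [mul_assoc]
      _ = ct q (x * T : M6) * (x * T) := by rw [ct_mul hF]
      _ = ct q ((T : M6) * rho x') * ((T : M6) * rho x') := by rw [show (x : M6) * T = T * rho x' from hI]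
      _ = _ := by rw [ct_mul hF, ct_rho]; simp only [mul_assoc]
  have h4 : rho x' * (ct q (T : M6) * T) = (ct q (T : M6) * T) * rho x' := by
    nth_rewrite 1 [h3]
    rw [← mul_assoc, ← mul_assoc, h2, one_mul]
  have h5 : (x : M6) = T * rho x' * ((T⁻¹ : GL (Fin 6) F) : M6) := by
    rw [← show (x : M6) * T = T * rho x' from hI, mul_assoc, hTT, mul_one]
  generalize ct q (T : M6) * T = M at h3 h4
  rw [h5]
  calc (T : M6) * M * ((T⁻¹ : GL (Fin 6) F) : M6) * (T * rho x' * ((T⁻¹ : GL (Fin 6) F) : M6))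
      = T * M * (((T⁻¹ : GL (Fin 6) F) : M6) * T) * rho x' * ((T⁻¹ : GL (Fin 6) F) : M6) := by simp only [mul_assoc]
    _ = T * (M * rho x') * ((T⁻¹ : GL (Fin 6) F) : M6) := by rw [hTT', mul_one]; simp only [mul_assoc]
    _ = T * rho x' * (((T⁻¹ : GL (Fin 6) F) : M6) * T) * M * ((T⁻¹ : GL (Fin 6) F) : M6) := by
        rw [← h4, hTT', mul_one]; simp only [mul_assoc]
    _ = _ := by simp only [mul_assoc]

theorem unitary_transport {T Y : GL (Fin 6) F} {l : F} (hl : ct q (T : M6) * T = l • 1)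
    (hY : ct q (Y : M6) * Y = 1) : T * Y * T⁻¹ ∈ GU 6 F q := by
  rw [mem_GU_iff_ct hF, Units.val_mul, Units.val_mul, ct_mul hF, ct_mul hF]
  have hTT : (T : M6) * ((T⁻¹ : GL (Fin 6) F) : M6) = 1 := by rw [← Units.val_mul, mul_inv_cancel, Units.val_one]
  have h1 : ct q ((T⁻¹ : GL (Fin 6) F) : M6) * ct q (T : M6) = 1 := by rw [← ct_mul hF, hTT, ct_one hF]
  have h2 : ct q (T : M6) = l • ((T⁻¹ : GL (Fin 6) F) : M6) := by
    calc ct q (T : M6) = ct q (T : M6) * T * ((T⁻¹ : GL (Fin 6) F) : M6) := by rw [mul_assoc, hTT, mul_one]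
      _ = _ := by rw [hl, Matrix.smul_mul, Matrix.one_mul]
  calc ct q ((T⁻¹ : GL (Fin 6) F) : M6) * (ct q (Y : M6) * ct q (T : M6)) *
      ((T : M6) * Y * ((T⁻¹ : GL (Fin 6) F) : M6))
      = ct q ((T⁻¹ : GL (Fin 6) F) : M6) * (ct q (Y : M6) * (ct q (T : M6) * T) * Y) *
        ((T⁻¹ : GL (Fin 6) F) : M6) := by simp only [mul_assoc]
    _ = ct q ((T⁻¹ : GL (Fin 6) F) : M6) * (l • ((T⁻¹ : GL (Fin 6) F) : M6)) := by
        rw [hl, mul_smul_comm, mul_one, smul_mul_assoc, hY, mul_smul_comm, mul_one, smul_mul_assoc, mul_smul_comm]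
    _ = 1 := by rw [← h2, h1]

theorem Frame.false_SU {C : Cov P (alternatingGroup (Fin 7))} {ω : Fˣ} {a b k g T : GL (Fin 6) F} {ε : F}
    (h : Frame C ω a b k g T ε) (hmax : IsMaximalIn (GU 6 F q ⊓ specialLinear (Fin 6) F) H)
    (hH : IsResidualCore H P) : False := by
  have hPG : P ≤ GU 6 F q := hH.le.trans (hmax.1.le.trans inf_le_left)
  have hω3 : (ω : F) ^ 3 = 1 := omega_cube h.hω
  have hq : (ω : F) ^ q = (ω : F) ^ 2 := by
    have h1 := hPG h.mem
    rw [mem_GU_iff_ct hF, coe_sc, ct_smul_one hF, smul_mul_smul_comm, one_mul] at h1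
    have h2 := congrFun (congrFun h1 0) 0
    rw [Matrix.smul_apply, Matrix.one_apply_eq, smul_eq_mul, mul_one] at h2
    linear_combination (ω : F) ^ 2 * h2 - (ω : F) ^ q * hω3
  obtain ⟨l, hl⟩ := h.cent ((T : M6) * (ct q (T : M6) * T) * ((T⁻¹ : GL (Fin 6) F) : M6))
    (unitary_comm hF (hPG h.La.mem) h.IA (un_a3 hF h.hω hq))
    (unitary_comm hF (hPG h.Lb.mem) h.IB (un_b3 hF))
    (unitary_comm hF (hPG h.Lk.mem) h.IK (un_k hF h.hω hq))
    (unitary_comm hF (hPG h.Lg.mem) h.IG (un_g hF h.hω h.h3 hq h.hε))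
  have hTT : (T : M6) * ((T⁻¹ : GL (Fin 6) F) : M6) = 1 := by rw [← Units.val_mul, mul_inv_cancel, Units.val_one]
  have hTT' : ((T⁻¹ : GL (Fin 6) F) : M6) * (T : M6) = 1 := by rw [← Units.val_mul, inv_mul_cancel, Units.val_one]
  have hl' : ct q (T : M6) * T = l • 1 := by
    have h1 := congrArg (fun Z => ((T⁻¹ : GL (Fin 6) F) : M6) * Z * T) hl
    simp only [← mul_assoc, hTT', one_mul] at h1
    rw [mul_assoc _ _ (T : M6), hTT', mul_one, mul_smul_comm, mul_one, smul_mul_assoc, hTT'] at h1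
    exact h1
  refine h.false_of hmax hH fun Y hY => ?_
  have hYct : ct q (Y : M6) * Y = 1 := by
    rcases hY with hY | hY
    · rw [hY, ct_rho, ← map_mul, un_D hF h.hω hq, map_one]
    · rw [hY, un_Wn hF h.hω h.h3 hq]
  refine ⟨unitary_transport hF hl' hYct, ?_⟩
  show T * Y * T⁻¹ ∈ specialLinear (Fin 6) F
  rw [Cfsg.Agent.H918.mem_specialLinear]
  have h1 : (Y : M6).det = 1 := by
    rcases hY with hY | hY
    · rw [hY, det_D h.hω]
    · rw [hY, det_Wn h.hω h.h3]
  rw [Units.val_mul, Units.val_mul, Matrix.det_mul, Matrix.det_mul, h1, mul_one, ← Matrix.det_mul, ← Units.val_mul,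
    mul_inv_cancel, Units.val_one, Matrix.det_one]

/-- **`3.A₇` is not maximal in `SU₆(q)`.** -/
theorem not_maximal_SU (hmax : IsMaximalIn (GU 6 F q ⊓ specialLinear (Fin 6) F) H) (hH : IsResidualCore H P)
    (e : Soc P ≃* alternatingGroup (Fin 7)) (hm : (-1 : GL (Fin 6) F) ∉ P ∨ (2 : F) = 0)
    (hz : ∃ c : Fˣ, c ≠ 1 ∧ c ^ 3 = 1 ∧ (sc c : GL (Fin 6) F) ∈ P) : False := by
  obtain ⟨ω, a, b, k, g, T, ε, h⟩ := frame_of (core_of_residual hH) (Cov.of e) hm hz
  exact h.false_SU hF hmax hH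

end unitary

end Cfsg.Agent.H890.A7
end

-- part: H890/A7/SixFrob
section
/-!
# `6.A₇` in dimension six : the field (helper890)

`Fr P (p²)`; `Fr P p` for `p = 1, 7 mod 24`; `Cj P p` for `p = 17, 23 mod 24`; an element with trace `±√2`.
-/

set_option autoImplicit false
set_option linter.unusedSectionVars false

namespace Cfsg.Agent.H890.A7

open Cfsg Cfsg.Geo Matrix Cfsg.Agent.H913.N6 Cfsg.Agent.H890.Y3
open Cfsg.Agent.H915.LD (Core Soc toSoc tr SD Fr Cj FixU core_of_residual tr_conj)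

variable {F : Type*} [Field F] {P : Subgroup (GL (Fin 6) F)} {C : Cov P (alternatingGroup (Fin 7))}

local notation "R2" => Matrix (Fin 2) (Fin 2) F
local notation "M3" => Matrix (Fin 3) (Fin 3) (Matrix (Fin 2) (Fin 2) F)
local notation "M6" => Matrix (Fin 6) (Fin 6) F

/-! ### semilinear invariance -/

theorem Im.coe_conj {T x : GL (Fin 6) F} {X' : M3} (h : Im T x X') : ((T⁻¹ * x * T : GL (Fin 6) F) : M6) = rho X' := by
  rw [mul_assoc, Units.val_mul, Units.val_mul, h, ← mul_assoc, ← Units.val_mul, inv_mul_cancel, Units.val_one, one_mul]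

theorem conj_sc (T : GL (Fin 6) F) (c : Fˣ) : T⁻¹ * sc c * T = sc c := by
  rw [← sc_comm c T⁻¹, inv_mul_cancel_right]

theorem tr_conj' (T x : GL (Fin 6) F) : tr (T⁻¹ * x * T) = tr x := by
  have := tr_conj T⁻¹ x
  rwa [inv_inv] at this

/-- all traces are fixed by `φ` -/
theorem tr_fix (φ : F →+* F) {a b k g T : GL (Fin 6) F} {A' B' K' G' : M3} (La : C.L a r3) (Lb : C.L b r3')
    (Lk : C.L k kk) (Lg : C.L g g4) (IA : Im T a A') (IB : Im T b B') (IK : Im T k K') (IG : Im T g G')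
    (hsc : ∀ c : Fˣ, sc c ∈ P → φ c = c) (hA : (rho A').map φ = rho A') (hB : (rho B').map φ = rho B')
    (hK : (rho K').map φ = rho K') (hG : (rho G').map φ = rho G') {x : GL (Fin 6) F} (hx : x ∈ P) :
    φ (tr x) = tr x := by
  let Y : Subgroup (GL (Fin 6) F) := MonoidHom.eqLocus
    ((Matrix.GeneralLinearGroup.map φ).comp (MulAut.conj T⁻¹).toMonoidHom) (MulAut.conj T⁻¹).toMonoidHom
  have hY : ∀ x, x ∈ Y ↔ ((T⁻¹ * x * T : GL (Fin 6) F) : M6).map φ = ((T⁻¹ * x * T : GL (Fin 6) F) : M6) := by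
    intro x
    constructor
    · intro h
      have h1 : Matrix.GeneralLinearGroup.map φ (T⁻¹ * x * T⁻¹⁻¹) = T⁻¹ * x * T⁻¹⁻¹ := h
      rw [inv_inv] at h1
      exact congrArg (fun z : GL (Fin 6) F => (z : M6)) h1
    · intro h
      show Matrix.GeneralLinearGroup.map φ (T⁻¹ * x * T⁻¹⁻¹) = T⁻¹ * x * T⁻¹⁻¹
      rw [inv_inv]
      exact Units.ext h
  have hP : P ≤ Y := by
    refine le_of_gens C gen7 ?_ ?_
    · intro s hs
      simp only [Set.mem_insert_iff, Set.mem_singleton_iff] at hs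
      rcases hs with rfl | rfl | rfl | rfl
      · exact ⟨a, (hY a).2 (by rw [IA.coe_conj, hA]), La⟩
      · exact ⟨b, (hY b).2 (by rw [IB.coe_conj, hB]), Lb⟩
      · exact ⟨k, (hY k).2 (by rw [IK.coe_conj, hK]), Lk⟩
      · exact ⟨g, (hY g).2 (by rw [IG.coe_conj, hG]), Lg⟩
    · intro c hc
      rw [hY, conj_sc, coe_sc]
      ext i j
      rw [Matrix.map_apply, Matrix.smul_apply, smul_eq_mul, map_mul, hsc c hc]
      congr 1
      rw [Matrix.one_apply]
      split_ifs
      · exact map_one φ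
      · exact map_zero φ
  have h1 := (hY x).1 (hP hx)
  rw [← tr_conj' T x]
  have h2 := congrArg Matrix.trace h1
  rw [← AddMonoidHom.map_trace] at h2
  exact h2

/-- `φ (tr x) = tr x⁻¹` -/
theorem tr_dual (φ : F →+* F) {Γ Γ' : M6} (hΓ : Γ * Γ' = 1) {a b k g T : GL (Fin 6) F} {A' B' K' G' : M3}
    (La : C.L a r3) (Lb : C.L b r3') (Lk : C.L k kk) (Lg : C.L g g4) (IA : Im T a A') (IB : Im T b B')
    (IK : Im T k K') (IG : Im T g G') (hsc : ∀ c : Fˣ, sc c ∈ P → φ c * c = 1)
    (hA : ((rho A').map φ)ᵀ * Γ * rho A' = Γ) (hB : ((rho B').map φ)ᵀ * Γ * rho B' = Γ)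
    (hK : ((rho K').map φ)ᵀ * Γ * rho K' = Γ) (hG : ((rho G').map φ)ᵀ * Γ * rho G' = Γ)
    {x : GL (Fin 6) F} (hx : x ∈ P) : φ (tr x) = tr x⁻¹ := by
  let Y : Subgroup (GL (Fin 6) F) :=
    { carrier := {x | (((T⁻¹ * x * T : GL (Fin 6) F) : M6).map φ)ᵀ * Γ * ((T⁻¹ * x * T : GL (Fin 6) F) : M6) = Γ}
      one_mem' := by
        show (((T⁻¹ * 1 * T : GL (Fin 6) F) : M6).map φ)ᵀ * Γ * ((T⁻¹ * 1 * T : GL (Fin 6) F) : M6) = Γ
        rw [mul_one, inv_mul_cancel, Units.val_one, Matrix.map_one φ (map_zero φ) (map_one φ), Matrix.transpose_one,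
          one_mul, mul_one]
      mul_mem' := by
        intro x y hx hy
        have e : T⁻¹ * (x * y) * T = (T⁻¹ * x * T) * (T⁻¹ * y * T) := by group
        show (((T⁻¹ * (x * y) * T : GL (Fin 6) F) : M6).map φ)ᵀ * Γ * ((T⁻¹ * (x * y) * T : GL (Fin 6) F) : M6) = Γ
        rw [e, Units.val_mul (T⁻¹ * x * T), Matrix.map_mul, Matrix.transpose_mul]
        change (((T⁻¹ * x * T : GL (Fin 6) F) : M6).map φ)ᵀ * Γ * ((T⁻¹ * x * T : GL (Fin 6) F) : M6) = Γ at hx
        change (((T⁻¹ * y * T : GL (Fin 6) F) : M6).map φ)ᵀ * Γ * ((T⁻¹ * y * T : GL (Fin 6) F) : M6) = Γ at hy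
        generalize ((T⁻¹ * x * T : GL (Fin 6) F) : M6) = X at hx ⊢
        generalize ((T⁻¹ * y * T : GL (Fin 6) F) : M6) = Z at hy ⊢
        calc (Z.map φ)ᵀ * (X.map φ)ᵀ * Γ * (X * Z) = (Z.map φ)ᵀ * ((X.map φ)ᵀ * Γ * X) * Z := by
              simp only [mul_assoc]
          _ = Γ := by rw [hx, hy]
      inv_mem' := by
        intro x hx
        have e : T⁻¹ * x⁻¹ * T = (T⁻¹ * x * T)⁻¹ := by group
        show (((T⁻¹ * x⁻¹ * T : GL (Fin 6) F) : M6).map φ)ᵀ * Γ * ((T⁻¹ * x⁻¹ * T : GL (Fin 6) F) : M6) = Γ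
        rw [e]
        change (((T⁻¹ * x * T : GL (Fin 6) F) : M6).map φ)ᵀ * Γ * ((T⁻¹ * x * T : GL (Fin 6) F) : M6) = Γ at hx
        generalize T⁻¹ * x * T = X at hx ⊢
        have h1 : (X : M6) * ((X⁻¹ : GL (Fin 6) F) : M6) = 1 := by
          rw [← Units.val_mul, mul_inv_cancel, Units.val_one]
        have h2 : (((X⁻¹ : GL (Fin 6) F) : M6).map φ)ᵀ * ((X : M6).map φ)ᵀ = 1 := by
          rw [← Matrix.transpose_mul, ← Matrix.map_mul, h1, Matrix.map_one φ (map_zero φ) (map_one φ),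
            Matrix.transpose_one]
        nth_rewrite 1 [← hx]
        calc (((X⁻¹ : GL (Fin 6) F) : M6).map φ)ᵀ * (((X : M6).map φ)ᵀ * Γ * X) * ((X⁻¹ : GL (Fin 6) F) : M6)
            = ((((X⁻¹ : GL (Fin 6) F) : M6).map φ)ᵀ * ((X : M6).map φ)ᵀ) * Γ * (X * ((X⁻¹ : GL (Fin 6) F) : M6)) := by
              simp only [mul_assoc]
          _ = Γ := by rw [h1, h2, one_mul, mul_one] }
  have hP : P ≤ Y := by
    refine le_of_gens C gen7 ?_ ?_
    · intro s hs
      simp only [Set.mem_insert_iff, Set.mem_singleton_iff] at hs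
      rcases hs with rfl | rfl | rfl | rfl
      · refine ⟨a, ?_, La⟩
        show (((T⁻¹ * a * T : GL (Fin 6) F) : M6).map φ)ᵀ * Γ * ((T⁻¹ * a * T : GL (Fin 6) F) : M6) = Γ
        rw [IA.coe_conj, hA]
      · refine ⟨b, ?_, Lb⟩
        show (((T⁻¹ * b * T : GL (Fin 6) F) : M6).map φ)ᵀ * Γ * ((T⁻¹ * b * T : GL (Fin 6) F) : M6) = Γ
        rw [IB.coe_conj, hB]
      · refine ⟨k, ?_, Lk⟩
        show (((T⁻¹ * k * T : GL (Fin 6) F) : M6).map φ)ᵀ * Γ * ((T⁻¹ * k * T : GL (Fin 6) F) : M6) = Γ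
        rw [IK.coe_conj, hK]
      · refine ⟨g, ?_, Lg⟩
        show (((T⁻¹ * g * T : GL (Fin 6) F) : M6).map φ)ᵀ * Γ * ((T⁻¹ * g * T : GL (Fin 6) F) : M6) = Γ
        rw [IG.coe_conj, hG]
    · intro c hc
      show (((T⁻¹ * sc c * T : GL (Fin 6) F) : M6).map φ)ᵀ * Γ * ((T⁻¹ * sc c * T : GL (Fin 6) F) : M6) = Γ
      rw [conj_sc, coe_sc]
      have e1 : (((c : F) • (1 : M6)).map φ)ᵀ = φ c • 1 := by
        ext i j
        rw [Matrix.transpose_apply, Matrix.map_apply, Matrix.smul_apply, Matrix.smul_apply, smul_eq_mul, smul_eq_mul,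
          map_mul]
        congr 1
        rw [Matrix.one_apply, Matrix.one_apply]
        by_cases h : j = i
        · rw [if_pos h, if_pos h.symm, map_one]
        · rw [if_neg h, if_neg (Ne.symm h), map_zero]
      rw [e1, smul_mul_assoc, one_mul, mul_smul_comm, mul_one, smul_smul, mul_comm, hsc c hc, one_smul]
  have h1 : (((T⁻¹ * x * T : GL (Fin 6) F) : M6).map φ)ᵀ * Γ * ((T⁻¹ * x * T : GL (Fin 6) F) : M6) = Γ := hP hx
  rw [← tr_conj' T x, ← tr_conj' T x⁻¹]
  have e : T⁻¹ * x⁻¹ * T = (T⁻¹ * x * T)⁻¹ := by group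
  rw [e]
  generalize T⁻¹ * x * T = X at h1 ⊢
  have h2 : (X : M6) * ((X⁻¹ : GL (Fin 6) F) : M6) = 1 := by
    rw [← Units.val_mul, mul_inv_cancel, Units.val_one]
  have h3 : ((X : M6).map φ)ᵀ * Γ = Γ * ((X⁻¹ : GL (Fin 6) F) : M6) := by
    calc ((X : M6).map φ)ᵀ * Γ = ((X : M6).map φ)ᵀ * Γ * (X * ((X⁻¹ : GL (Fin 6) F) : M6)) := by rw [h2, mul_one]
      _ = ((X : M6).map φ)ᵀ * Γ * X * ((X⁻¹ : GL (Fin 6) F) : M6) := by simp only [mul_assoc]
      _ = _ := by rw [h1]
  have h4 : Γ' * Γ = 1 := mul_eq_one_comm.1 hΓ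
  have h5 : ((X⁻¹ : GL (Fin 6) F) : M6) = Γ' * (((X : M6).map φ)ᵀ * Γ) := by
    rw [h3, ← mul_assoc, h4, one_mul]
  show φ ((X : M6).trace) = ((X⁻¹ : GL (Fin 6) F) : M6).trace
  rw [h5, Matrix.trace_mul_comm, mul_assoc, hΓ, mul_one, Matrix.trace_transpose]
  exact AddMonoidHom.map_trace φ (X : M6)

/-! ### the images of the matrices -/

theorem map_rho (φ : F →+* F) (M : M3) : (rho M).map φ = rho (Matrix.of fun i j => (M i j).map φ) := rfl

theorem map_a3 (φ : F →+* F) (ω : F) : (rho (a3 ω) : M6).map φ = rho (a3 (φ ω)) := by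
  rw [map_rho]
  congr 1
  ext1 i j
  show ((if i = j then (ω ^ (j : ℕ)) • (1 : R2) else 0)).map φ = if i = j then ((φ ω) ^ (j : ℕ)) • (1 : R2) else 0
  split_ifs
  · ext r s
    rw [Matrix.map_apply, Matrix.smul_apply, Matrix.smul_apply, smul_eq_mul, smul_eq_mul, map_mul, map_pow,
      Matrix.one_apply]
    split_ifs
    · rw [map_one]
    · rw [map_zero]
  · ext r s
    exact map_zero φ

theorem map_b3 (φ : F →+* F) : (rho (b3 : M3)).map φ = rho b3 := by
  rw [map_rho]
  congr 1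
  ext1 i j
  show ((if i = j + 1 then (1 : R2) else 0)).map φ = if i = j + 1 then (1 : R2) else 0
  split_ifs
  · exact Matrix.map_one φ (map_zero φ) (map_one φ)
  · ext r s
    exact map_zero φ

theorem map_dg (φ : F →+* F) (x y z : R2) : (rho (dg x y z)).map φ = rho (dg (x.map φ) (y.map φ) (z.map φ)) := by
  rw [map_rho]
  congr 1
  have h0 : (0 : R2).map φ = 0 := by ext r s; exact map_zero φ
  apply ext3
  · rfl
  · exact h0
  · exact h0
  · exact h0
  · rfl
  · exact h0
  · exact h0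
  · exact h0
  · rfl

theorem map_gm (φ : F →+* F) (ω : F) (x : R2) : (rho (gm ω x)).map φ = rho (gm (φ ω) (x.map φ)) := by
  rw [map_rho]
  congr 1
  ext1 i j
  show (ω ^ (2 * (i : ℕ) * (j : ℕ)) • x).map φ = (φ ω) ^ (2 * (i : ℕ) * (j : ℕ)) • x.map φ
  ext r s
  rw [Matrix.map_apply, Matrix.smul_apply, Matrix.smul_apply, smul_eq_mul, smul_eq_mul, map_mul, map_pow,
    Matrix.map_apply]

theorem map_Q0 (φ : F →+* F) : (Q0 : R2).map φ = Q0 := by
  ext i j
  (revert i j; simp only [Q0, _root_.Fin.forall_fin_succ, _root_.Matrix.map_apply, _root_.Matrix.of_apply, _root_.Matrix.cons_val', _root_.Matrix.cons_val_fin_one, Fin.isValue, _root_.Matrix.cons_val_zero, _root_.Matrix.cons_val_succ, _root_.forall_const, _root_.map_zero, _root_.map_neg, _root_.map_one, _root_.and_self, _root_.implies_true])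

theorem map_Q1 (φ : F →+* F) (A B : F) : (Q1 A B : R2).map φ = Q1 (φ A) (φ B) := by
  ext i j
  (revert i j; simp only [Q1, _root_.Fin.forall_fin_succ, _root_.Matrix.map_apply, _root_.Matrix.of_apply, _root_.Matrix.cons_val', _root_.Matrix.cons_val_fin_one, Fin.isValue, _root_.Matrix.cons_val_zero, _root_.Matrix.cons_val_succ, _root_.forall_const, _root_.and_self, _root_.map_neg, _root_.implies_true])

theorem map_Q2 (φ : F →+* F) (A B : F) : (Q2 A B : R2).map φ = Q2 (φ A) (φ B) := by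
  ext i j
  (revert i j; simp only [Q2, _root_.Fin.forall_fin_succ, _root_.Matrix.map_apply, _root_.Matrix.of_apply, _root_.Matrix.cons_val', _root_.Matrix.cons_val_fin_one, Fin.isValue, _root_.Matrix.cons_val_zero, _root_.Matrix.cons_val_succ, _root_.forall_const, _root_.map_neg, _root_.and_self, _root_.implies_true])

theorem map_xneg (φ : F →+* F) (A B α u : F) : (xneg A B α u : R2).map φ = xneg (φ A) (φ B) (φ α) (φ u) := by
  ext i j
  (revert i j; simp only [xneg, Q1, Q2, _root_.Fin.forall_fin_succ, _root_.Matrix.of_sub_of, _root_.Matrix.sub_cons, _root_.Matrix.head_cons, _root_.Matrix.tail_cons, _root_.sub_neg_eq_add, _root_.sub_self, _root_.Matrix.zero_empty, _root_.Matrix.smul_of, _root_.Matrix.smul_cons, _root_.smul_eq_mul, _root_.Matrix.smul_empty, _root_.Matrix.map_apply, _root_.Matrix.smul_apply, _root_.Matrix.sub_apply, _root_.Matrix.of_apply, _root_.Matrix.cons_val', _root_.Matrix.cons_val_fin_one, _root_.map_mul, _root_.map_sub, _root_.mul_eq_mul_left_iff,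 _root_.map_eq_zero, Fin.isValue, _root_.Matrix.cons_val_zero, _root_.Matrix.cons_val_succ, _root_.IsEmpty.forall_iff, _root_.and_true, _root_.Matrix.one_apply_eq, _root_.map_one, _root_.true_or, Nat.reduceAdd, _root_.Fin.succ_zero_eq_one, _root_.ne_eq, _root_.zero_ne_one, _root_.not_false_eq_true, _root_.Matrix.one_apply_ne, _root_.map_zero, _root_.map_add, _root_.zero_sub, _root_.and_self, _root_.Fin.succ_ne_zero, _root_.map_neg, _root_.sub_left_inj, _root_.true_and])

/-- transposed -/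
def dagM (φ : F →+* F) (M : M3) : M3 := Matrix.of fun i j => ((M j i).map φ)ᵀ

theorem map_rho_transpose (φ : F →+* F) (M : M3) : ((rho M).map φ)ᵀ = rho (dagM φ M) := rfl

theorem dual_of {φ : F →+* F} {M : M3} {J : M3} (h : dagM φ M * J * M = J) :
    ((rho M).map φ)ᵀ * rho J * rho M = rho J := by
  rw [map_rho_transpose, ← map_mul, ← map_mul, h]

theorem dag_a3M (φ : F →+* F) (ω : F) : dagM φ (a3 ω) = a3 (φ ω) := by
  ext1 i j
  show ((if j = i then (ω ^ (i : ℕ)) • (1 : R2) else 0).map φ)ᵀ = if i = j then ((φ ω) ^ (j : ℕ)) • (1 : R2) else 0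
  by_cases h : i = j
  · subst h
    rw [if_pos rfl, if_pos rfl]
    ext r s
    rw [Matrix.transpose_apply, Matrix.map_apply, Matrix.smul_apply, Matrix.smul_apply, smul_eq_mul, smul_eq_mul,
      map_mul, map_pow, Matrix.one_apply, Matrix.one_apply]
    by_cases h' : s = r
    · rw [if_pos h', if_pos h'.symm, map_one]
    · rw [if_neg h', if_neg (Ne.symm h'), map_zero]
  · rw [if_neg h, if_neg (Ne.symm h)]
    ext r s
    exact map_zero φ

theorem a3_sq_mul {ω : F} (hω3 : ω ^ 3 = 1) : (a3 (ω ^ 2) * a3 ω : M3) = 1 := by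
  ext1 i j
  rw [mul_a3, a3_apply]
  by_cases h : i = j
  · subst h
    rw [if_pos rfl, Matrix.one_apply_eq, smul_smul, ← pow_mul, ← pow_add]
    rw [show (i : ℕ) + 2 * (i : ℕ) = 3 * i by ring, pow_mul, hω3, one_pow, one_smul]
  · rw [if_neg h, Matrix.one_apply_ne h, smul_zero]

theorem dual_a {φ : F →+* F} {ω : F} (hω3 : ω ^ 3 = 1) (hφ : φ ω = ω ^ 2) (J : R2) :
    dagM φ (a3 ω) * dg J J J * a3 ω = dg J J J := by
  rw [dag_a3M, hφ, mul_assoc, dg_a3, ← mul_assoc, a3_sq_mul hω3, one_mul]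

theorem dual_b (φ : F →+* F) (J : R2) : dagM φ b3 * dg J J J * b3 = dg J J J := by
  rw [mul_assoc, dg_b3, ← mul_assoc]
  have h1 : dagM φ b3 * b3 = (1 : M3) := by
    ext1 i j
    rw [mul_b3]
    show ((b3 (j + 1) i : R2).map φ)ᵀ = (1 : M3) i j
    rw [b3_apply]
    by_cases h : i = j
    · rw [if_pos (by rw [h]), h, Matrix.one_apply_eq, Matrix.map_one φ (map_zero φ) (map_one φ), Matrix.transpose_one]
    · rw [if_neg (fun h' => h (add_right_cancel h').symm), Matrix.one_apply_ne h]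
      ext r s
      exact map_zero φ
  rw [h1, one_mul]

theorem dag_dgM (φ : F →+* F) (x y z : R2) : dagM φ (dg x y z) = dg (x.map φ)ᵀ (y.map φ)ᵀ (z.map φ)ᵀ := by
  have h0 : ((0 : R2).map φ)ᵀ = 0 := by ext r s; exact map_zero φ
  apply ext3
  · rfl
  · exact h0
  · exact h0
  · exact h0
  · rfl
  · exact h0
  · exact h0
  · exact h0
  · rfl

theorem Q0_dual : ((Q0 : R2))ᵀ * Q0 * Q0 = Q0 := by
  ext i j
  (revert i j; simp only [Q0, Matrix.mul_apply, Fin.sum_univ_two, _root_.Fin.forall_fin_succ, _root_.Matrix.transpose_apply, _root_.Matrix.of_apply, _root_.Matrix.cons_val', _root_.Matrix.cons_val_fin_one, Fin.isValue, _root_.Matrix.cons_val_zero, _root_.Matrix.cons_val_one, _root_.MulZeroClass.mul_zero, _root_.mul_one, _root_.zero_add, _root_.mul_neg, _root_.add_zero, _root_.neg_mul, _root_.Matrix.cons_val_succ, _root_.neg_zero, _root_.forall_const, _root_.and_self, _root_.neg_neg, _root_.implies_true])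

theorem Q1_dual {A B : F} (h : A ^ 2 + B ^ 2 = -1) : ((Q1 A B : R2))ᵀ * Q0 * Q1 A B = Q0 := by
  ext i j
  (revert i j; simp only [Q0, Q1, Matrix.mul_apply, Fin.sum_univ_two, _root_.Fin.forall_fin_succ, _root_.Matrix.transpose_apply, _root_.Matrix.of_apply, _root_.Matrix.cons_val', _root_.Matrix.cons_val_fin_one, Fin.isValue, _root_.Matrix.cons_val_zero, _root_.Matrix.cons_val_one, _root_.MulZeroClass.mul_zero, _root_.mul_one, _root_.zero_add, _root_.mul_neg, _root_.add_zero, _root_.neg_mul, _root_.Matrix.cons_val_succ, _root_.neg_neg, _root_.forall_const, _root_.and_true, _root_.true_and]) <;> (repeat' with_reducible apply And.intro)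
  · ring
  · linear_combination h
  · linear_combination -h
  · ring

theorem Q2_dual {A B : F} (h : A ^ 2 + B ^ 2 = -1) : ((Q2 A B : R2))ᵀ * Q0 * Q2 A B = Q0 := by
  ext i j
  (revert i j; simp only [Q0, Q2, Matrix.mul_apply, Fin.sum_univ_two, _root_.Fin.forall_fin_succ, _root_.Matrix.transpose_apply, _root_.Matrix.of_apply, _root_.Matrix.cons_val', _root_.Matrix.cons_val_fin_one, Fin.isValue, _root_.Matrix.cons_val_zero, _root_.Matrix.cons_val_one, _root_.MulZeroClass.mul_zero, _root_.mul_one, _root_.zero_add, _root_.mul_neg, _root_.add_zero, _root_.neg_mul, _root_.neg_neg, _root_.Matrix.cons_val_succ, _root_.forall_const, _root_.and_true, _root_.true_and]) <;> (repeat' with_reducible apply And.intro)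
  · ring
  · linear_combination h
  · linear_combination -h
  · ring

theorem dual_k {φ : F →+* F} {A B : F} (h : A ^ 2 + B ^ 2 = -1) (hA : φ A = A) (hB : φ B = B) :
    dagM φ (dg Q0 (Q1 A B) (Q2 A B)) * dg Q0 Q0 Q0 * dg Q0 (Q1 A B) (Q2 A B) = dg Q0 Q0 Q0 := by
  rw [dag_dgM, map_Q0, map_Q1, map_Q2, hA, hB, dg_mul, dg_mul, Q0_dual, Q1_dual h, Q2_dual h]

theorem dag_gmM (φ : F →+* F) (ω : F) (x : R2) : dagM φ (gm ω x) = gm (φ ω) (x.map φ)ᵀ := by
  ext1 i j
  show ((ω ^ (2 * (j : ℕ) * (i : ℕ)) • x).map φ)ᵀ = (φ ω) ^ (2 * (i : ℕ) * (j : ℕ)) • (x.map φ)ᵀ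
  ext r s
  rw [Matrix.transpose_apply, Matrix.map_apply, Matrix.smul_apply, Matrix.smul_apply, smul_eq_mul, smul_eq_mul, map_mul,
    map_pow, Matrix.transpose_apply, Matrix.map_apply]
  congr 2
  ring

theorem dg_gm {ω : F} (hω : ω ^ 2 + ω + 1 = 0) (J x : R2) : dg J J J * gm ω x = gm ω (J * x) := by
  obtain ⟨X00, X01, X02, X10, X11, X12, X20, X21, X22⟩ := dg_entries J J J
  obtain ⟨a00, a01, a02, a10, a11, a12, a20, a21, a22⟩ := gm_entries hω x
  obtain ⟨b00, b01, b02, b10, b11, b12, b20, b21, b22⟩ := gm_entries hω (J * x)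
  apply ext3 <;> simp only [mul3, a00, a01, a02, a10, a11, a12, a20, a21, a22, b00, b01, b02, b10, b11, b12, b20, b21,
    b22, X00, X01, X02, X10, X11, X12, X20, X21, X22, zero_mul, add_zero, zero_add, mul_smul_comm, smul_zero]

theorem gm_sq_mul' {ω : F} (hω : ω ^ 2 + ω + 1 = 0) (x y : R2) :
    gm (ω ^ 2) x * gm ω y = dg ((3 : F) • (x * y)) ((3 : F) • (x * y)) ((3 : F) • (x * y)) := by
  have hω' : (ω ^ 2) ^ 2 + ω ^ 2 + 1 = 0 := by linear_combination (ω ^ 2 - ω + 1) * hω
  obtain ⟨a00, a01, a02, a10, a11, a12, a20, a21, a22⟩ := gm_entries hω' x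
  obtain ⟨b00, b01, b02, b10, b11, b12, b20, b21, b22⟩ := gm_entries hω y
  obtain ⟨d00, d01, d02, d10, d11, d12, d20, d21, d22⟩ :=
    dg_entries ((3 : F) • (x * y)) ((3 : F) • (x * y)) ((3 : F) • (x * y))
  have hω3 := omega_cube hω
  have h4 : (ω ^ 2) ^ 2 = ω := by linear_combination ω * hω3
  have h1 : (ω * ω ^ 2 + ω ^ 2 * ω + 1 : F) = 3 := by linear_combination 2 * hω3
  have h2 : (1 + ω * ω + ω ^ 2 * ω ^ 2 : F) = 0 := by linear_combination hω + ω * hω3
  apply ext3 <;> rw [mul3] <;>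
    simp only [a00, a01, a02, a10, a11, a12, a20, a21, a22, b00, b01, b02, b10, b11, b12, b20, b21, b22, h4,
      d00, d01, d02, d10, d11, d12, d20, d21, d22, smul_mul_assoc, mul_smul_comm, smul_smul]
  · module
  · calc _ = (ω ^ 2 + ω + 1) • (x * y) := by module
      _ = 0 := by rw [hω, zero_smul]
  · calc _ = (ω ^ 2 + ω + 1) • (x * y) := by module
      _ = 0 := by rw [hω, zero_smul]
  · calc _ = (ω ^ 2 + ω + 1) • (x * y) := by module
      _ = 0 := by rw [hω, zero_smul]
  · calc _ = (ω * ω ^ 2 + ω ^ 2 * ω + 1) • (x * y) := by module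
      _ = _ := by rw [h1]
  · calc _ = (1 + ω * ω + ω ^ 2 * ω ^ 2) • (x * y) := by module
      _ = 0 := by rw [h2, zero_smul]
  · calc _ = (ω ^ 2 + ω + 1) • (x * y) := by module
      _ = 0 := by rw [hω, zero_smul]
  · calc _ = (1 + ω * ω + ω ^ 2 * ω ^ 2) • (x * y) := by module
      _ = 0 := by rw [h2, zero_smul]
  · calc _ = (ω * ω ^ 2 + ω ^ 2 * ω + 1) • (x * y) := by module
      _ = _ := by rw [h1]

theorem xneg_eq (A B α u : F) : (xneg A B α u : R2) =
    !![u * (1 - α * (A - B)), -(u * α * (A + B)); -(u * α * (A + B)), u * (1 + α * (A - B))] := by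
  ext i j
  (revert i j; simp only [xneg, Q1, Q2, _root_.Fin.forall_fin_succ, _root_.Matrix.of_sub_of, _root_.Matrix.sub_cons, _root_.Matrix.head_cons, _root_.Matrix.tail_cons, _root_.sub_neg_eq_add, _root_.sub_self, _root_.Matrix.zero_empty, _root_.Matrix.smul_of, _root_.Matrix.smul_cons, _root_.smul_eq_mul, _root_.Matrix.smul_empty, _root_.Matrix.smul_apply, _root_.Matrix.sub_apply, _root_.Matrix.of_apply, _root_.Matrix.cons_val', _root_.Matrix.cons_val_fin_one, Fin.isValue, _root_.Matrix.cons_val_zero, _root_.Matrix.cons_val_succ, _root_.IsEmpty.forall_iff, _root_.and_true, _root_.Matrix.one_apply_eq, Nat.reduceAdd, _root_.Fin.succ_zero_eq_one, _root_.ne_eq, _root_.zero_ne_one, _root_.not_false_eq_true, _root_.Matrix.one_apply_ne, _root_.zero_sub, _root_.mul_neg, _root_.neg_inj, _root_.true_and, _root_.Fin.succ_ne_zero, _root_.mul_eq_mul_left_iff, _root_.and_self_left]) <;> (repeat' with_reducible apply And.intro) <;> first | ring1 | (left; ring1)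

theorem Q0_mul_x (A B α u : F) : (Q0 * xneg A B α u : R2) =
    !![u * α * (A + B), -(u * (1 + α * (A - B))); u * (1 - α * (A - B)), -(u * α * (A + B))] := by
  rw [xneg_eq, Q0]
  ext i j
  (revert i j; simp only [Matrix.mul_apply, Fin.sum_univ_two, _root_.Fin.forall_fin_succ, _root_.Matrix.of_apply, _root_.Matrix.cons_val', _root_.Matrix.cons_val_fin_one, Fin.isValue, _root_.Matrix.cons_val_zero, _root_.Matrix.cons_val_one, _root_.mul_neg, _root_.Matrix.cons_val_succ, _root_.forall_const, _root_.MulZeroClass.zero_mul, _root_.neg_mul, _root_.one_mul, _root_.neg_neg, _root_.zero_add, _root_.neg_zero, _root_.and_self, _root_.add_zero, _root_.implies_true])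

theorem x_dual {A B α u : F} (h : A ^ 2 + B ^ 2 = -1) (hα : 2 * α ^ 2 = 1) (hu : 6 * u ^ 2 = -1) :
    (3 : F) • ((xneg A B α (-u) : R2)ᵀ * (Q0 * xneg A B α u)) = Q0 := by
  rw [Q0_mul_x, xneg_eq]
  have key : α ^ 2 * (A ^ 2 + B ^ 2) * 2 = -1 := by rw [h]; linear_combination -hα
  ext i j
  (revert i j; simp only [Q0, Matrix.mul_apply, Fin.sum_univ_two, _root_.Fin.forall_fin_succ, _root_.neg_mul, _root_.neg_neg, _root_.Matrix.smul_apply, _root_.Matrix.transpose_apply, _root_.Matrix.of_apply, _root_.Matrix.cons_val', _root_.Matrix.cons_val_fin_one, Fin.isValue, _root_.Matrix.cons_val_zero, _root_.Matrix.cons_val_one, _root_.smul_eq_mul, _root_.Matrix.cons_val_succ, _root_.mul_neg, _root_.forall_const, _root_.mul_eq_zero, _root_.and_true, _root_.true_and]) <;> (repeat' with_reducible apply And.intro)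
  · right
    ring
  · linear_combination (-3 * u ^ 2) * key + hu
  · linear_combination (3 * u ^ 2) * key - hu
  · right
    ring

theorem dual_g {φ : F →+* F} {ω A B α u : F} (hω : ω ^ 2 + ω + 1 = 0) (hφ : φ ω = ω ^ 2) (h : A ^ 2 + B ^ 2 = -1)
    (hα : 2 * α ^ 2 = 1) (hu : 6 * u ^ 2 = -1) (hA : φ A = A) (hB : φ B = B) (hφα : φ α = α) (hφu : φ u = -u) :
    dagM φ (gm ω (xneg A B α u)) * dg Q0 Q0 Q0 * gm ω (xneg A B α u) = dg Q0 Q0 Q0 := by
  rw [dag_gmM, hφ, map_xneg, hA, hB, hφα, hφu, mul_assoc, dg_gm hω, gm_sq_mul' hω, x_dual h hα hu]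

/-! ### traces -/

theorem trace_rho (M : M3) : (rho M).trace = (M 0 0).trace + (M 1 1).trace + (M 2 2).trace := by
  rw [Matrix.trace, ← (finProdFinEquiv : Fin 3 × Fin 2 ≃ Fin 6).sum_comp, Fintype.sum_prod_type, Fin.sum_univ_three]
  have e : ∀ (i : Fin 3) (j : Fin 2), (rho M).diag (finProdFinEquiv (i, j)) = M i i j j := by
    intro i j
    rw [Matrix.diag_apply, rho_apply, Equiv.symm_apply_apply]
  simp only [e]
  rfl

theorem trace_xneg (A B α u : F) : (xneg A B α u : R2).trace = 2 * u := by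
  rw [xneg_eq, Matrix.trace_fin_two]
  simp only [_root_.Fin.isValue, _root_.Matrix.of_apply, _root_.Matrix.cons_val', _root_.Matrix.cons_val_zero, _root_.Matrix.cons_val_fin_one, _root_.Matrix.cons_val_one]
  ring

theorem trace_g {ω : F} (hω : ω ^ 2 + ω + 1 = 0) (A B α u : F) :
    (rho (gm ω (xneg A B α u))).trace = (1 + 2 * ω ^ 2) * (2 * u) := by
  obtain ⟨a00, a01, a02, a10, a11, a12, a20, a21, a22⟩ := gm_entries hω (xneg A B α u)
  rw [trace_rho, a00, a11, a22, Matrix.trace_smul, trace_xneg, smul_eq_mul]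
  ring

theorem trace_g_inv {ω : F} (hω : ω ^ 2 + ω + 1 = 0) {A B α u : F} (h : A ^ 2 + B ^ 2 = -1) (hα : 2 * α ^ 2 = 1)
    (hu : 6 * u ^ 2 = -1) :
    (rho (gm ω (xneg A B α u) * (gm ω (xneg A B α u) * gm ω (xneg A B α u)))).trace = -((1 + 2 * ω ^ 2) * (2 * u)) := by
  rw [gm_mul_gm hω]
  obtain ⟨t, ht⟩ : ∃ t : R2, t = (3 : F) • (xneg A B α u * xneg A B α u) := ⟨_, rfl⟩
  rw [← ht]
  obtain ⟨a00, a01, a02, a10, a11, a12, a20, a21, a22⟩ := gm_entries hω (xneg A B α u)
  obtain ⟨r00, r01, r02, r10, r11, r12, r20, r21, r22⟩ := rm_entries t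
  have hxt : (xneg A B α u * t).trace = 2 * u := by
    have hc := ch2 (xneg A B α u : R2)
    have hdet : (xneg A B α u : R2).det = 2 * u ^ 2 := by
      rw [xneg_eq, Matrix.det_fin_two]
      simp only [_root_.Fin.isValue, _root_.Matrix.of_apply, _root_.Matrix.cons_val', _root_.Matrix.cons_val_zero, _root_.Matrix.cons_val_fin_one, _root_.Matrix.cons_val_one, _root_.mul_neg, _root_.neg_mul, _root_.neg_neg]
      linear_combination (-2 * u ^ 2 * α ^ 2) * h + u ^ 2 * hα
    rw [trace_xneg, hdet] at hc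
    rw [ht, hc, mul_smul_comm, Matrix.trace_smul, mul_sub, mul_smul_comm, mul_smul_comm, mul_one, hc,
      Matrix.trace_sub, Matrix.trace_smul, Matrix.trace_sub, Matrix.trace_smul, Matrix.trace_smul, Matrix.trace_smul,
      trace_xneg, Matrix.trace_one, Fintype.card_fin]
    simp only [smul_eq_mul]
    push_cast
    linear_combination (-2 * u) * hu
  rw [trace_rho]
  simp only [mul3, a00, a01, a02, a10, a11, a12, a20, a21, a22, r00, r01, r02, r10, r11, r12, r20, r21, r22, mul_zero,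
    add_zero, zero_add, smul_mul_assoc]
  rw [Matrix.trace_smul, hxt, smul_eq_mul]
  linear_combination (4 * u) * hω

end Cfsg.Agent.H890.A7
end

-- part: H890/A7/SixMain
section
/-!
# `3.A₇`, `6.A₇` in dimension six (helper890)

`facts_SL`, `facts_SU`: if `H` is maximal in `SL₆(F)`, `SU₆(q)`, with core `P` of type `A₇` containing a scalar of
order three, then `p ≠ 2, 3`, `Fr P (p²)`, `Fr P p` for `p = 1, 7 mod 24`, `Cj P p` for `p = 17, 23 mod 24`, and there
is an element `g` of `P` with `(tr g)² = 2`, `tr g⁻¹ = tr g`.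
-/

set_option autoImplicit false
set_option linter.unusedSectionVars false

namespace Cfsg.Agent.H890.A7

open Cfsg Cfsg.Geo Matrix Cfsg.Agent.H913.N6 Cfsg.Agent.H890.Y3
open Cfsg.Agent.H915.LD (Core Soc toSoc tr SD Fr Cj FixU core_of_residual tr_conj)

variable {F : Type*} [Field F] {H P : Subgroup (GL (Fin 6) F)} {C : Cov P (alternatingGroup (Fin 7))}

local notation "M6" => Matrix (Fin 6) (Fin 6) F

/-- The facts about the core. -/
def Facts (P : Subgroup (GL (Fin 6) F)) (p : ℕ) : Prop :=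
  p ≠ 2 ∧ p ≠ 3 ∧ Fr P (p ^ 2) ∧ (p % 24 = 1 ∨ p % 24 = 7 → Fr P p) ∧ (p % 24 = 17 ∨ p % 24 = 23 → Cj P p) ∧
    ∃ g ∈ P, tr g ^ 2 = 2 ∧ tr g⁻¹ = tr g

theorem exists_sum_sq (p : ℕ) [hp : Fact p.Prime] [CharP F p] :
    ∃ A B : F, A ^ 2 + B ^ 2 = -1 ∧ A ^ p = A ∧ B ^ p = B := by
  obtain ⟨a, b, hab⟩ := ZMod.sq_add_sq p (-1)
  refine ⟨ZMod.castHom (dvd_refl p) F a, ZMod.castHom (dvd_refl p) F b, ?_, ?_, ?_⟩
  · rw [← map_pow, ← map_pow, ← map_add, hab, map_neg, map_one]
  · rw [← map_pow, ZMod.pow_card]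
  · rw [← map_pow, ZMod.pow_card]

theorem exists_sqrt_two {p : ℕ} [hp : Fact p.Prime] [CharP F p] (hp2 : p ≠ 2) (h : p % 8 = 1 ∨ p % 8 = 7) :
    ∃ s : F, s ^ 2 = 2 ∧ s ^ p = s := by
  obtain ⟨s, hs⟩ := (ZMod.exists_sq_eq_two_iff hp2).2 h
  refine ⟨ZMod.castHom (dvd_refl p) F s, ?_, ?_⟩
  · rw [← map_pow, sq, ← hs, map_ofNat]
  · rw [← map_pow, ZMod.pow_card]

theorem eq_or_neg {x y : F} (h : x ^ 2 = y ^ 2) : x = y ∨ x = -y := sq_eq_sq_iff_eq_or_eq_neg.1 h

theorem facts_of [Finite F] (hC : Core P) (p : ℕ) [hp : Fact p.Prime] [CharP F p] (h2 : (2 : F) ≠ 0) {ω : Fˣ}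
    {a b k g : GL (Fin 6) F} (hrel : Rel (-1) ω a b k g) (La : C.L a r3) (Lb : C.L b r3') (Lk : C.L k kk)
    (Lg : C.L g g4) (hω : (ω : F) ^ 2 + ω + 1 = 0) (h3 : (3 : F) ≠ 0) : Facts P p := by
  have hp2 : p ≠ 2 := by
    rintro rfl
    exact h2 (by exact_mod_cast CharP.cast_eq_zero F 2)
  have hp3 : p ≠ 3 := by
    rintro rfl
    exact h3 (by exact_mod_cast CharP.cast_eq_zero F 3)
  have hm2 : p % 2 ≠ 0 := fun h =>
    hp2 ((Nat.prime_dvd_prime_iff_eq Nat.prime_two hp.out).1 (Nat.dvd_of_mod_eq_zero h)).symm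
  have hm3 : p % 3 ≠ 0 := fun h =>
    hp3 ((Nat.prime_dvd_prime_iff_eq Nat.prime_three hp.out).1 (Nat.dvd_of_mod_eq_zero h)).symm
  have h6 : (6 : F) ≠ 0 := by
    rw [show (6 : F) = 2 * 3 by norm_num]
    exact mul_ne_zero h2 h3
  have hω3 := omega_cube hω
  have hω0 := omega_ne_zero hω
  have hθ := theta_ne hω h3
  have hθ2 := theta_sq hω
  obtain ⟨A, B, hAB, hA, hB⟩ := exists_sum_sq (F := F) p
  have hdet : (g : M6).det = 1 := by
    rw [← Matrix.GeneralLinearGroup.val_det_apply, hC.det Lg.mem, Units.val_one]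
  obtain ⟨T, α, u, hα, hu, IA, IB, IK, IG⟩ := normal_form_neg hrel hω h2 h3 hdet hAB
  obtain ⟨φ, hφ⟩ : ∃ φ : F →+* F, ∀ x, φ x = x ^ p := ⟨frobenius F p, fun x => rfl⟩
  have hsc : ∀ c : Fˣ, sc c ∈ P → (c : F) ^ 6 = 1 := by
    intro c hc
    rw [← Units.val_pow_eq_pow_val, z6_of hC c hc, Units.val_one]
  have hφA : φ A = A := by rw [hφ, hA]
  have hφB : φ B = B := by rw [hφ, hB]
  have hα' : φ α = α ∨ φ α = -α := by
    apply eq_or_neg
    have h1 := congrArg φ hα
    rw [map_mul, map_ofNat, map_pow, map_one] at h1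
    have h4 : (2 : F) * (φ α ^ 2 - α ^ 2) = 0 := by linear_combination h1 - hα
    exact sub_eq_zero.1 ((mul_eq_zero.1 h4).resolve_left h2)
  have hu' : φ u = u ∨ φ u = -u := by
    apply eq_or_neg
    have h1 := congrArg φ hu
    rw [map_mul, map_ofNat, map_pow, map_neg, map_one] at h1
    have h4 : (6 : F) * (φ u ^ 2 - u ^ 2) = 0 := by linear_combination h1 - hu
    exact sub_eq_zero.1 ((mul_eq_zero.1 h4).resolve_left h6)
  -- the cube roots of unity
  have hω1 : p % 3 = 1 → φ ω = ω := by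
    intro h
    rw [hφ, ← Nat.div_add_mod p 3, h, pow_add, pow_mul, hω3, one_pow, one_mul, pow_one]
  have hω2 : p % 3 = 2 → φ ω = (ω : F) ^ 2 := by
    intro h
    rw [hφ, ← Nat.div_add_mod p 3, h, pow_add, pow_mul, hω3, one_pow, one_mul]
  have hc1 : p % 3 = 1 → ∀ c : Fˣ, sc c ∈ P → φ c = c := by
    intro h c hc
    have h4 : p % 6 = 1 := by (clear * - hm2 h; (solve | lia | omega))
    rw [hφ, ← Nat.div_add_mod p 6, h4, pow_add, pow_mul, hsc c hc, one_pow, one_mul, pow_one]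
  have hc2 : p % 3 = 2 → ∀ c : Fˣ, sc c ∈ P → φ c * c = 1 := by
    intro h c hc
    have h4 : p % 6 = 5 := by (clear * - hm2 h; omega)
    rw [hφ, ← pow_succ, ← Nat.div_add_mod p 6, h4, add_assoc, pow_add, pow_mul, hsc c hc, one_pow, one_mul]
  -- `√2`
  have hsq : (p % 8 = 1 ∨ p % 8 = 7) → φ α = α ∧ φ (((ω : F) - (ω : F) ^ 2) * u) = ((ω : F) - (ω : F) ^ 2) * u := by
    intro h
    obtain ⟨s, hs, hsp⟩ := exists_sqrt_two (F := F) hp2 h
    have hφs : φ s = s := by rw [hφ, hsp]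
    have key : ∀ y : F, 2 * y ^ 2 = 1 → φ y = y := by
      intro y hy
      have h4 : (2 * y) ^ 2 = s ^ 2 := by rw [hs]; linear_combination 2 * hy
      have h5 : φ (2 * y) = 2 * y := by
        rcases eq_or_neg h4 with h | h
        · rw [h, hφs]
        · rw [h, map_neg, hφs]
      rw [map_mul, map_ofNat] at h5
      exact mul_left_cancel₀ h2 h5
    refine ⟨key α hα, key _ ?_⟩
    linear_combination (2 * u ^ 2) * hθ2 - hu
  refine ⟨hp2, hp3, ?_, ?_, ?_, g, Lg.mem, ?_, ?_⟩
  · intro x hx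
    have h1 := tr_fix (φ.comp φ) La Lb Lk Lg IA IB IK IG (by
        intro c hc
        show φ (φ c) = c
        rcases (by (clear * - hm3; omega) : p % 3 = 1 ∨ p % 3 = 2) with h | h
        · rw [hc1 h c hc, hc1 h c hc]
        · have h4 := hc2 h c hc
          have h5 : φ (c : F) = (c : F)⁻¹ := eq_inv_of_mul_eq_one_left h4
          rw [h5, map_inv₀, h5, inv_inv])
      (by
        rw [map_a3]
        show rho (a3 (φ (φ ω))) = _
        rcases (by (clear * - hm3; omega) : p % 3 = 1 ∨ p % 3 = 2) with h | h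
        · rw [hω1 h, hω1 h]
        · rw [hω2 h, map_pow, hω2 h, show ((ω : F) ^ 2) ^ 2 = ω by linear_combination (ω : F) * hω3])
      (map_b3 _)
      (by
        rw [map_dg, map_Q0, map_Q1, map_Q2]
        show rho (dg Q0 (Q1 (φ (φ A)) (φ (φ B))) (Q2 (φ (φ A)) (φ (φ B)))) = _
        rw [hφA, hφB, hφA, hφB])
      (by
        rw [map_gm, map_xneg]
        show rho (gm (φ (φ ω)) (xneg (φ (φ A)) (φ (φ B)) (φ (φ α)) (φ (φ u)))) = _
        rw [hφA, hφB, hφA, hφB]
        have e1 : φ (φ α) = α := by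
          rcases hα' with h | h
          · rw [h, h]
          · rw [h, map_neg, h, neg_neg]
        have e2 : φ (φ u) = u := by
          rcases hu' with h | h
          · rw [h, h]
          · rw [h, map_neg, h, neg_neg]
        rw [e1, e2]
        rcases (by (clear * - hm3; omega) : p % 3 = 1 ∨ p % 3 = 2) with h | h
        · rw [hω1 h, hω1 h]
        · rw [hω2 h, map_pow, hω2 h, show ((ω : F) ^ 2) ^ 2 = ω by linear_combination (ω : F) * hω3])
      hx
    have h4 : (φ.comp φ) (tr x) = φ (φ (tr x)) := rfl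
    rw [h4, hφ, hφ, ← pow_mul, ← sq] at h1
    exact h1
  · intro h24 x hx
    have h31 : p % 3 = 1 := by omega
    obtain ⟨e1, e2⟩ := hsq (by (clear * - h24; omega))
    have e3 : φ u = u := by
      rw [map_mul, map_sub, map_pow, hω1 h31] at e2
      exact mul_left_cancel₀ hθ e2
    have h1 := tr_fix φ La Lb Lk Lg IA IB IK IG (hc1 h31)
      (by rw [map_a3, hω1 h31])
      (map_b3 _)
      (by rw [map_dg, map_Q0, map_Q1, map_Q2, hφA, hφB])
      (by rw [map_gm, map_xneg, hφA, hφB, e1, e3, hω1 h31])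
      hx
    rw [hφ] at h1
    exact h1
  · intro h24 x hx
    have h32 : p % 3 = 2 := by omega
    obtain ⟨e1, e2⟩ := hsq (by (clear * - h24; omega))
    have e3 : φ u = -u := by
      rw [map_mul, map_sub, map_pow, hω2 h32, show ((ω : F) ^ 2) ^ 2 = ω by linear_combination (ω : F) * hω3] at e2
      have e4 : ((ω : F) - (ω : F) ^ 2) * φ u = ((ω : F) - (ω : F) ^ 2) * -u := by linear_combination -e2
      exact mul_left_cancel₀ hθ e4
    have hQ : (Q0 * -Q0 : Matrix (Fin 2) (Fin 2) F) = 1 := by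
      ext i j
      (revert i j; simp only [Q0, _root_.Fin.forall_fin_succ, _root_.Matrix.neg_of, _root_.Matrix.neg_cons, _root_.neg_zero, _root_.neg_neg, _root_.Matrix.neg_empty, _root_.Matrix.cons_mul, _root_.Nat.succ_eq_add_one, Nat.reduceAdd, _root_.Matrix.vecMul_cons, _root_.Matrix.head_cons, _root_.zero_smul, _root_.Matrix.tail_cons, _root_.neg_smul, _root_.one_smul, _root_.Matrix.empty_vecMul, _root_.add_zero, _root_.zero_add, _root_.Matrix.empty_mul, _root_.Equiv.symm_apply_apply, _root_.Matrix.of_apply, _root_.Matrix.cons_val', _root_.Matrix.cons_val_fin_one, Fin.isValue, _root_.Matrix.cons_val_zero, _root_.Matrix.cons_val_succ, _root_.IsEmpty.forall_iff, _root_.and_true, _root_.Matrix.one_apply_eq, _root_.Fin.succ_zero_eq_one, _root_.ne_eq, _root_.zero_ne_one, _root_.not_false_eq_true, _root_.Matrix.one_apply_ne, _root_.and_self, _root_.Fin.succ_ne_zero, _root_.true_and])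
    have h1 := tr_dual φ (Γ := rho (dg Q0 Q0 Q0)) (Γ' := rho (dg (-Q0) (-Q0) (-Q0)))
      (by rw [← map_mul, dg_mul, hQ, dg_one, map_one]) La Lb Lk Lg IA IB IK IG (hc2 h32)
      (dual_of (dual_a hω3 (hω2 h32) Q0)) (dual_of (dual_b φ Q0)) (dual_of (dual_k hAB hφA hφB))
      (dual_of (dual_g hω (hω2 h32) hAB hα hu hφA hφB e1 e3)) hx
    rw [hφ] at h1
    exact h1
  · have h1 : tr g = (1 + 2 * (ω : F) ^ 2) * (2 * u) := by
      rw [← tr_conj' T g, tr, IG.coe_conj, trace_g hω]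
    rw [h1]
    linear_combination (16 * u ^ 2 * ((ω : F) ^ 2 - ω + 1)) * hω - (2 : F) * hu
  · have h1 : tr g = (1 + 2 * (ω : F) ^ 2) * (2 * u) := by
      rw [← tr_conj' T g, tr, IG.coe_conj, trace_g hω]
    have h4 : g⁻¹ = sc (-1) * (g * (g * g)) := by
      have h5 : (g * (g * g)) * g = sc (-1) := by
        rw [← hrel.g4, pow_succ, pow_succ, sq, mul_assoc g g g]
      rw [inv_eq_iff_mul_eq_one]
      rw [← mul_assoc g, ← sc_comm, mul_assoc]
      have h6 : g * (g * (g * g)) = sc (-1) := by rw [← h5]; group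
      rw [h6, ← sc_mul, neg_mul_neg, one_mul, sc_one]
    have h5 : tr (g * (g * g)) = -((1 + 2 * (ω : F) ^ 2) * (2 * u)) := by
      rw [← tr_conj' T, tr, (show Im T ((g * (g * g) : GL (Fin 6) F) : M6) _ from by
        rw [Units.val_mul, Units.val_mul]; exact IG.mul (IG.mul IG)).coe_conj, trace_g_inv hω hAB hα hu]
    rw [h1, h4]
    have h6 : tr (sc (-1) * (g * (g * g))) = -tr (g * (g * g)) := by
      rw [tr, tr, Units.val_mul, coe_sc, Units.val_neg, Units.val_one, neg_smul, one_smul, neg_mul, one_mul,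
        Matrix.trace_neg]
    rw [h6, h5, neg_neg]

/-- **The linear case.** -/
theorem facts_SL [Finite F] (p : ℕ) [hp : Fact p.Prime] [CharP F p] (hmax : IsMaximalIn (specialLinear (Fin 6) F) H)
    (hH : IsResidualCore H P) (e : Soc P ≃* alternatingGroup (Fin 7))
    (hz : ∃ c : Fˣ, c ≠ 1 ∧ c ^ 3 = 1 ∧ (sc c : GL (Fin 6) F) ∈ P) : Facts P p := by
  rcases exists_frame (core_of_residual hH) (Cov.of e) hz with ⟨ω, a, b, k, g, T, ε, h⟩ |
    ⟨h2, -, ω, a, b, k, g, hrel, La, Lb, Lk, Lg, -, -, -, hω, h3, -⟩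
  · exact (h.false_SL hmax hH).elim
  · exact facts_of (core_of_residual hH) p h2 hrel La Lb Lk Lg hω h3

/-- **The unitary case.** -/
theorem facts_SU [Fintype F] {q : ℕ} (hF : Fintype.card F = q ^ 2) (p : ℕ) [hp : Fact p.Prime] [CharP F p]
    (hmax : IsMaximalIn (GU 6 F q ⊓ specialLinear (Fin 6) F) H)
    (hH : IsResidualCore H P) (e : Soc P ≃* alternatingGroup (Fin 7))
    (hz : ∃ c : Fˣ, c ≠ 1 ∧ c ^ 3 = 1 ∧ (sc c : GL (Fin 6) F) ∈ P) : Facts P p := by
  rcases exists_frame (core_of_residual hH) (Cov.of e) hz with ⟨ω, a, b, k, g, T, ε, h⟩ |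
    ⟨h2, -, ω, a, b, k, g, hrel, La, Lb, Lk, Lg, -, -, -, hω, h3, -⟩
  · exact (h.false_SU hF hmax hH).elim
  · exact facts_of (core_of_residual hH) p h2 hrel La Lb Lk Lg hω h3

end Cfsg.Agent.H890.A7
end

-- part: H890/A7/SixOut
section
/-!
# Cores of type `A₇` in dimension six (helper890)

`six_SL`, `six_SU` : a maximal subgroup of `SL₆(F)`, `SU₆(q)` with core `P` of type `A₇` : `SD P` or `Facts P p`.
`field_SL`, `field_SU` : the fields.
-/

set_option autoImplicit false
set_option linter.unusedSectionVars false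

namespace Cfsg.Agent.H890.A7

open Cfsg Cfsg.Geo Matrix Cfsg.Agent.H913.N6
open Cfsg.Agent.H915.LD

universe u

variable {F : Type u} [Field F] {H P : Subgroup (GL (Fin 6) F)}

theorem sc_of_mem_scalars {g : GL (Fin 6) F} (h : g ∈ scalars (Fin 6) F) : ∃ c : Fˣ, g = sc c := by
  rw [mem_scalars_iff] at h
  obtain ⟨c, hc⟩ := h
  exact ⟨c, Units.ext (by rw [hc, coe_sc])⟩

/-- a scalar of order three -/
theorem hz_of [Finite F] (p : ℕ) [hp : Fact p.Prime] [CharP F p] (hC : Core P)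
    (e : Soc P ≃* alternatingGroup (Fin 7)) (hsd : ¬ SD P) :
    ∃ c : Fˣ, c ≠ 1 ∧ c ^ 3 = 1 ∧ (sc c : GL (Fin 6) F) ∈ P := by
  by_contra hcon
  push Not at hcon
  apply hsd
  rcases H637.A7Main.le_two p hC e (by
    intro g hg hgs
    obtain ⟨c, rfl⟩ := sc_of_mem_scalars hgs
    have h6 := z6_of hC c hg
    by_cases h : c ^ 2 = 1
    · rw [← sc_mul, ← sq, h, sc_one]
    · exfalso
      refine hcon (c ^ 2) h ?_ ?_
      · rw [← pow_mul]; exact h6
      · rw [sc_pow]; exact pow_mem hg 2) with h | ⟨h, -⟩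
  · exact h
  · rw [Fintype.card_fin] at h
    omega

/-- **`A₇`, dimension six, linear case.** -/
theorem six_SL [Finite F] (p : ℕ) [hp : Fact p.Prime] [CharP F p] (hmax : IsMaximalIn (specialLinear (Fin 6) F) H)
    (hH : IsResidualCore H P) (e : Soc P ≃* alternatingGroup (Fin 7)) : SD P ∨ Facts P p := by
  by_cases h : SD P
  · exact Or.inl h
  · exact Or.inr (facts_SL p hmax hH e (hz_of p (core_of_residual hH) e h))

/-- **`A₇`, dimension six, unitary case.** -/
theorem six_SU [Fintype F] {q : ℕ} (hF : Fintype.card F = q ^ 2) (p : ℕ) [hp : Fact p.Prime] [CharP F p]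
    (hmax : IsMaximalIn (GU 6 F q ⊓ specialLinear (Fin 6) F) H) (hH : IsResidualCore H P)
    (e : Soc P ≃* alternatingGroup (Fin 7)) : SD P ∨ Facts P p := by
  by_cases h : SD P
  · exact Or.inl h
  · exact Or.inr (facts_SU hF p hmax hH e (hz_of p (core_of_residual hH) e h))

end Cfsg.Agent.H890.A7
end

-- part: H913/N6Final
section
/-!
# Maximal overgroups of `6.L_3(4)` in dimension six (helper913)

`sl_kill` : the congruence for the linear group; `su_kill` : the congruence for the unitary group.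
-/

set_option autoImplicit false
set_option linter.unusedSectionVars false

namespace Cfsg.Agent.H913.N6

open Cfsg Cfsg.Geo Matrix
open Module (Basis)
open Cfsg.Agent.H915.LD (Core Soc toSoc tr)
open Cfsg.Agent.H918.Six (IsL34 nsc)
open GeoBasic (mem_GU_iff mem_specialLinear_iff)

universe u

variable {F : Type u} [Field F]

/-- six scalars: `-1 ∈ P` and `2 ≠ 0` -/
theorem neg_of_six {P : Subgroup (GL (Fin 6) F)} (h : Nat.card ((scalars (Fin 6) F).subgroupOf P) = 6) :
    (m1 : GL (Fin 6) F) ∈ P ∧ (2 : F) ≠ 0 := by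
  have : Fact (Nat.Prime 2) := ⟨Nat.prime_two⟩
  have hfin : Finite ((scalars (Fin 6) F).subgroupOf P) := Nat.finite_of_card_ne_zero (by rw [h]; norm_num)
  obtain ⟨z, hz⟩ := exists_prime_orderOf_dvd_card' (G := (scalars (Fin 6) F).subgroupOf P) 2 (by rw [h]; norm_num)
  obtain ⟨c, hc⟩ := mem_scalars.1 (Subgroup.mem_subgroupOf.1 z.2)
  have h1 : z ^ 2 = 1 := by rw [← hz]; exact pow_orderOf_eq_one z
  have h2 : z ≠ 1 := by
    rintro rfl
    rw [orderOf_one] at hz
    norm_num at hz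
  have h3 : sc (c ^ 2) = (1 : GL (Fin 6) F) := by
    rw [sc_pow, ← hc]
    have := congrArg (fun t => ((t : P) : GL (Fin 6) F)) (congrArg Subtype.val h1)
    exact this
  have h4 : c ^ 2 = 1 := by apply sc_inj (ι := Fin 6); rw [h3, sc_one]
  have h5 : c ≠ 1 := by
    rintro rfl
    apply h2
    apply Subtype.ext
    apply Subtype.ext
    rw [hc, sc_one]
    rfl
  have h6 : ((c : F) - 1) * ((c : F) + 1) = 0 := by
    have h7 : ((c ^ 2 : Fˣ) : F) = 1 := by rw [h4]; rfl
    rw [Units.val_pow_eq_pow_val] at h7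
    linear_combination h7
  have h7 : c = -1 := by
    rcases mul_eq_zero.1 h6 with h8 | h8
    · exact absurd (Units.ext (by rw [Units.val_one]; linear_combination h8)) h5
    · exact Units.ext (by rw [Units.val_neg, Units.val_one]; linear_combination h8)
  refine ⟨?_, ?_⟩
  · rw [m1, ← h7, ← hc]; exact z.1.2
  · intro h8
    apply h5
    rw [h7]
    exact Units.ext (by rw [Units.val_neg, Units.val_one]; linear_combination -h8)

theorem det_of_core {P : Subgroup (GL (Fin 6) F)} [Fintype F] (hC : Core P) :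
    ∀ x ∈ P, (x : Matrix (Fin 6) (Fin 6) F).det = 1 := by
  intro x hx
  have := hC.det hx
  have h1 := congrArg Units.val this
  simpa using h1

theorem pow_of_core {P : Subgroup (GL (Fin 6) F)} [Fintype F] (hC : Core P) :
    ∀ c : Fˣ, sc c ∈ P → c ^ 6 = 1 := by
  intro c hc
  have h1 := det_of_core hC _ hc
  rw [coe_sc, Matrix.det_smul, Matrix.det_one, mul_one, Fintype.card_fin] at h1
  exact Units.ext (by rw [Units.val_pow_eq_pow_val, h1]; rfl)

/-- **The linear case.** -/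
theorem sl_kill [Fintype F] {p : ℕ} [hp : Fact p.Prime] [CharP F p] {H P : Subgroup (GL (Fin 6) F)}
    (hmax : IsMaximalIn (specialLinear (Fin 6) F) H) (hP : IsResidualCore H P) (hT : IsL34 (Soc P))
    (h6 : nsc P = 6) (hF : Fintype.card F = p) (hp3 : p % 3 = 1) : p % 8 = 1 ∨ p % 8 = 3 := by
  obtain ⟨K, i1, i2, hK, ⟨e⟩⟩ := hT
  have hC := H915.LD.core_of_residual hP
  obtain ⟨hneg, h2⟩ := neg_of_six h6
  have h3 : (3 : F) ≠ 0 := by
    intro h
    have h4 : ((3 : ℕ) : F) = 0 := by exact_mod_cast h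
    rw [CharP.cast_eq_zero_iff F p, Nat.prime_dvd_prime_iff_eq hp.out Nat.prime_three] at h4
    omega
  have S : Setup P (Cov.of e) (TVK K) := setupK hK h2 (Fintype.card_fin 6) (pow_of_core hC) hneg
  obtain ⟨b, g, θ, W⟩ := exists_two hK S (det_of_core hC)
  obtain ⟨h, hh, σ, x, hx, hdet⟩ := exists_det hK S h3 W hmax hP.le hP.normal
    (fun x hx _ _ _ _ _ _ => (mem_specialLinear_iff x).2 hx) (fun x hx _ _ _ _ _ _ => (mem_specialLinear_iff x).2 hx)
  have hd1 : (h : Matrix (Fin 6) (Fin 6) F).det = 1 := (mem_specialLinear_iff h).1 (hmax.1.le hh)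
  rw [hd1] at hdet
  have hsq : IsSquare (-2 : F) := by
    refine ⟨(16 * x 0 ^ 3)⁻¹, ?_⟩
    rw [← mul_inv]
    refine eq_inv_of_mul_eq_one_left ?_
    linear_combination -hdet
  rw [FiniteField.isSquare_neg_two_iff, hF] at hsq
  have hp2 : p % 2 = 1 := by
    rcases hp.out.eq_two_or_odd with h | h
    · subst h; omega
    · exact h
  (clear * - hsq hp2; omega)

/-! ### the unitary case -/

section SU

variable [Fintype F] {p : ℕ} [hp : Fact p.Prime] [CharP F p]

theorem hf_add_left (u v w : Fin 6 → F) : hermForm 6 F p (u + v) w = hermForm 6 F p u w + hermForm 6 F p v w := by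
  simp only [hermForm, Pi.add_apply, add_mul, Finset.sum_add_distrib]

theorem hf_smul_left (c : F) (u w : Fin 6 → F) : hermForm 6 F p (c • u) w = c * hermForm 6 F p u w := by
  simp only [hermForm, Pi.smul_apply, smul_eq_mul, Finset.mul_sum, mul_assoc]

theorem hf_add_right (u v w : Fin 6 → F) : hermForm 6 F p u (v + w) = hermForm 6 F p u v + hermForm 6 F p u w := by
  simp only [hermForm, Pi.add_apply, add_pow_char, mul_add, Finset.sum_add_distrib]

theorem hf_smul_right (c : F) (u w : Fin 6 → F) : hermForm 6 F p u (c • w) = c ^ p * hermForm 6 F p u w := by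
  simp only [hermForm, Pi.smul_apply, smul_eq_mul, mul_pow, Finset.mul_sum]
  exact Finset.sum_congr rfl fun i _ => by ring

/-- the form in a basis -/
theorem hf_basis (b : Basis (Fin 6) F (Fin 6 → F)) (g : GL (Fin 6) F)
    (h : ∀ i j, hermForm 6 F p (ap g (b i)) (ap g (b j)) = hermForm 6 F p (b i) (b j)) : g ∈ GU 6 F p := by
  rw [mem_GU_iff]
  have hs : ∀ (c d : Fin 6 → F) (v w : Fin 6 → Fin 6 → F), hermForm 6 F p (∑ i, c i • v i) (∑ j, d j • w j) =
      ∑ i, ∑ j, c i * (d j) ^ p * hermForm 6 F p (v i) (w j) := by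
    intro c d v w
    have hl : ∀ (s : Finset (Fin 6)) (u : Fin 6 → F), hermForm 6 F p (∑ i ∈ s, c i • v i) u =
        ∑ i ∈ s, c i * hermForm 6 F p (v i) u := by
      intro s u
      induction s using Finset.induction_on with
      | empty => simp [hermForm]
      | insert a s ha ih => rw [Finset.sum_insert ha, Finset.sum_insert ha, hf_add_left, hf_smul_left, ih]
    have hr : ∀ (s : Finset (Fin 6)) (u : Fin 6 → F), hermForm 6 F p u (∑ i ∈ s, d i • w i) =
        ∑ i ∈ s, (d i) ^ p * hermForm 6 F p u (w i) := by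
      intro s u
      induction s using Finset.induction_on with
      | empty => simp [hermForm, hp.out.ne_zero]
      | insert a s ha ih => rw [Finset.sum_insert ha, Finset.sum_insert ha, hf_add_right, hf_smul_right, ih]
    rw [hl]
    refine Finset.sum_congr rfl fun i _ => ?_
    rw [hr, Finset.mul_sum]
    exact Finset.sum_congr rfl fun j _ => by ring
  intro u v
  have e1 : ∀ w : Fin 6 → F, (g : Matrix (Fin 6) (Fin 6) F) *ᵥ w = ∑ i, b.repr w i • ap g (b i) := by
    intro w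
    conv_lhs => rw [← b.sum_repr w]
    change ap g _ = _
    rw [ap_sum]
    exact Finset.sum_congr rfl fun i _ => by rw [ap_smul]
  rw [e1 u, e1 v, hs]
  conv_rhs => rw [← b.sum_repr u, ← b.sum_repr v, hs]
  exact Finset.sum_congr rfl fun i _ => Finset.sum_congr rfl fun j _ => by rw [h]

/-- **The unitary case.** -/
theorem su_kill {q : ℕ} (hF : Fintype.card F = q ^ 2) {H P : Subgroup (GL (Fin 6) F)}
    (hmax : IsMaximalIn (GU 6 F q ⊓ specialLinear (Fin 6) F) H) (hP : IsResidualCore H P) (hT : IsL34 (Soc P))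
    (h6 : nsc P = 6) (hq : q = p) (hp3 : p % 3 = 2) : p % 8 = 5 ∨ p % 8 = 7 := by
  subst hq
  obtain ⟨K, i1, i2, hK, ⟨e⟩⟩ := hT
  have hC := H915.LD.core_of_residual hP
  obtain ⟨hneg, h2⟩ := neg_of_six h6
  have h3 : (3 : F) ≠ 0 := by
    intro h
    have h4 : ((3 : ℕ) : F) = 0 := by exact_mod_cast h
    rw [CharP.cast_eq_zero_iff F q, Nat.prime_dvd_prime_iff_eq hp.out Nat.prime_three] at h4
    omega
  have hodd : q % 2 = 1 := by
    rcases hp.out.eq_two_or_odd with h | h
    · exfalso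
      apply h2
      have := CharP.cast_eq_zero F q
      rw [h] at this
      exact_mod_cast this
    · exact h
  have hoddq : Odd q := Nat.odd_iff.2 hodd
  have S : Setup P (Cov.of e) (TVK K) := setupK hK h2 (Fintype.card_fin 6) (pow_of_core hC) hneg
  obtain ⟨b, g, θ, W⟩ := exists_two hK S (det_of_core hC)
  have hPU : ∀ x ∈ P, ∀ u v : Fin 6 → F, hermForm 6 F q (ap x u) (ap x v) = hermForm 6 F q u v := by
    intro x hx
    exact (mem_GU_iff x).1 (hmax.1.le (hP.le hx)).1
  -- orthogonality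
  have hort : ∀ i j : Fin 6, i ≠ j → hermForm 6 F q (b i) (b j) = 0 := by
    intro i j hij
    obtain ⟨k, hki, hkj⟩ : ∃ k : Fin 6, k ≠ i ∧ k ≠ j := by
      clear * -
      revert i j
      decide +kernel
    obtain ⟨x, ⟨r, hr, hx⟩, hxs⟩ := W.hb.full (sij i k) (sij_prod (Ne.symm hki))
    have h1 := hPU x hx.1.mem (b i) (b j)
    rw [hxs i, hxs j, hf_smul_left, hf_smul_right, show sij i k i = -1 by simp [sij],
      show sij i k j = 1 by simp [sij, hij.symm, hkj.symm], sg_neg_one, sg_one, one_pow, one_mul] at h1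
    have h4 : 2 * hermForm 6 F q (b i) (b j) = 0 := by linear_combination -h1
    exact (mul_eq_zero.1 h4).resolve_left h2
  obtain ⟨n, hn, m, hm, x, hx, nf⟩ := W.nf
  have hc := P.mul_mem hn hm
  have q12 : hermForm 6 F q (b 2) (b 2) = hermForm 6 F q (b 1) (b 1) := by
    have := hPU _ hc (b 1) (b 1); rwa [nf.c1] at this
  have q23 : hermForm 6 F q (b 3) (b 3) = hermForm 6 F q (b 2) (b 2) := by
    have := hPU _ hc (b 2) (b 2); rwa [nf.c2] at this
  have q34 : hermForm 6 F q (b 4) (b 4) = hermForm 6 F q (b 3) (b 3) := by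
    have := hPU _ hc (b 3) (b 3); rwa [nf.c3] at this
  have q45 : hermForm 6 F q (b 5) (b 5) = hermForm 6 F q (b 4) (b 4) := by
    have := hPU _ hc (b 4) (b 4); rwa [nf.c4] at this
  have q01 : hermForm 6 F q (b 1) (b 1) = hermForm 6 F q (b 0) (b 0) := by
    have := hPU _ hx (b 0) (b 0); rwa [nf.x0] at this
  obtain ⟨h0, hh0⟩ : ∃ h0, hermForm 6 F q (b 0) (b 0) = h0 := ⟨_, rfl⟩
  have hdiag : ∀ i, hermForm 6 F q (b i) (b i) = h0 := by
    intro i
    fin_cases i
    · exact hh0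
    · exact q01.trans hh0
    · exact q12.trans (q01.trans hh0)
    · exact q23.trans (q12.trans (q01.trans hh0))
    · exact q34.trans (q23.trans (q12.trans (q01.trans hh0)))
    · exact q45.trans (q34.trans (q23.trans (q12.trans (q01.trans hh0))))
  have hB : ∀ i j : Fin 6, hermForm 6 F q (b i) (b j) = if i = j then h0 else 0 := by
    intro i j
    split_ifs with h
    · subst h; exact hdiag i
    · exact hort i j h
  -- Frobenius
  have fr2 : (2 : F) ^ q = 2 := by
    have := map_ofNat (frobenius F q) 2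
    rwa [frobenius_def] at this
  have fr3 : (-3 : F) ^ q = -3 := by
    have : (frobenius F q) (-3) = -3 := by rw [map_neg, map_ofNat]
    rwa [frobenius_def] at this
  have frn : (-1 : F) ^ q = -1 := hoddq.neg_one_pow
  have fr2i : ((2 : F)⁻¹) ^ q = 2⁻¹ := by rw [inv_pow, fr2]
  have hθ := W.hθ
  have hθq : θ ^ q = -θ := by
    have e1 : θ ^ q * θ ^ q = -3 := by rw [← mul_pow, hθ, fr3]
    have e2 : (θ ^ q - θ) * (θ ^ q + θ) = 0 := by linear_combination e1 - hθ
    rcases mul_eq_zero.1 e2 with e3 | e3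
    · exfalso
      have e4 : θ ^ q = θ := by linear_combination e3
      obtain ⟨w, hw⟩ : ∃ w, w = 2⁻¹ * (θ - 1) := ⟨_, rfl⟩
      have hw2 : 2 * w = θ - 1 := by rw [hw, ← mul_assoc, mul_inv_cancel₀ h2, one_mul]
      have h4 : (4 : F) ≠ 0 := by
        have : (4 : F) = 2 ^ 2 := by norm_num
        rw [this]; exact pow_ne_zero 2 h2
      have e5 : w ^ 2 + w + 1 = 0 := by
        apply mul_left_cancel₀ h4
        linear_combination (2 * w + θ - 1 + 2) * hw2 + hθ
      have e6 : w ^ 3 = 1 := by linear_combination (w - 1) * e5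
      have e7 : w ^ q = w := by
        rw [hw, mul_pow, fr2i, sub_pow_char, e4, one_pow]
      have e8 : w ^ q = w ^ 2 := by
        obtain ⟨k, hk⟩ : ∃ k, q = 3 * k + 2 := ⟨q / 3, by omega⟩
        rw [hk, pow_add, pow_mul, e6, one_pow, one_mul]
      have e9 : w * (w - 1) = 0 := by linear_combination e7 - e8
      rcases mul_eq_zero.1 e9 with e10 | e10
      · rw [e10] at e6; norm_num at e6
      · have e11 : w = 1 := by linear_combination e10
        rw [e11] at e5
        exact h3 (by linear_combination e5)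
    · linear_combination e3
  -- diagonal expansion
  have hsum : ∀ c d : Fin 6 → F, hermForm 6 F q (∑ i, c i • b i) (∑ j, d j • b j) = (∑ i, c i * d i ^ q) * h0 := by
    intro c d
    have hl : ∀ (s : Finset (Fin 6)) (u : Fin 6 → F), hermForm 6 F q (∑ i ∈ s, c i • b i) u =
        ∑ i ∈ s, c i * hermForm 6 F q (b i) u := by
      intro s u
      induction s using Finset.induction_on with
      | empty => simp [hermForm]
      | insert a s ha ih => rw [Finset.sum_insert ha, Finset.sum_insert ha, hf_add_left, hf_smul_left, ih]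
    have hr : ∀ (s : Finset (Fin 6)) (u : Fin 6 → F), hermForm 6 F q u (∑ i ∈ s, d i • b i) =
        ∑ i ∈ s, (d i) ^ q * hermForm 6 F q u (b i) := by
      intro s u
      induction s using Finset.induction_on with
      | empty => simp only [hermForm, hp.out.ne_zero, _root_.Finset.sum_apply, _root_.Pi.smul_apply, _root_.smul_eq_mul, _root_.Finset.sum_empty, _root_.ne_eq, _root_.not_false_eq_true, _root_.zero_pow, _root_.MulZeroClass.mul_zero, _root_.Finset.sum_const_zero]
      | insert a s ha ih => rw [Finset.sum_insert ha, Finset.sum_insert ha, hf_add_right, hf_smul_right, ih]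
    rw [hl, Finset.sum_mul]
    refine Finset.sum_congr rfl fun i _ => ?_
    rw [hr, Finset.sum_eq_single i]
    · rw [hB, if_pos rfl]; ring
    · intro k _ hk
      rw [hB, if_neg (Ne.symm hk), mul_zero]
    · intro h; exact absurd (Finset.mem_univ _) h
  have hh0' : h0 ≠ 0 := by
    intro h
    have e1 : ∀ u : Fin 6 → F, hermForm 6 F q u u = 0 := by
      intro u
      rw [← b.sum_repr u, hsum, h, mul_zero]
    have e2 := e1 (Pi.single 0 1)
    rw [hermForm, Fin.sum_univ_six] at e2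
    simp [hp.out.ne_zero] at e2
  -- the elements
  obtain ⟨h, hh, σ, x, hx, hdet⟩ := exists_det hK S h3 W hmax hP.le hP.normal
    (fun y d y0 y1 y2 y3 y4 y5 => ⟨hf_basis b y (fun i j => by
      have hyb : ∀ i, ap y (b i) = b (cyc i) := by
        intro i
        fin_cases i
        · exact y0
        · exact y1
        · exact y2
        · exact y3
        · exact y4
        · exact y5
      rw [hyb, hyb, hB, hB]
      by_cases hij : i = j
      · rw [if_pos hij, if_pos (congrArg cyc hij)]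
      · rw [if_neg hij, if_neg (fun h => hij (cyc.injective h))]), (mem_specialLinear_iff y).2 d⟩)
    (fun y d y0 y1 y2 y3 y4 y5 => ⟨hf_basis b y (fun i j => by
      have z0 : ap y (b 0) = ∑ i, (![2⁻¹ * θ, -2⁻¹, 0, 0, 0, 0] : Fin 6 → F) i • b i := by
        rw [y0, Fin.sum_univ_six]; simp only [_root_.Fin.isValue, _root_.Matrix.cons_val_zero, _root_.Matrix.cons_val_one, _root_.neg_smul, _root_.Matrix.cons_val, _root_.zero_smul, _root_.add_zero]; module
      have z1 : ap y (b 1) = ∑ i, (![2⁻¹, -(2⁻¹ * θ), 0, 0, 0, 0] : Fin 6 → F) i • b i := by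
        rw [y1, Fin.sum_univ_six]; simp only [_root_.Fin.isValue, _root_.Matrix.cons_val_zero, _root_.Matrix.cons_val_one, _root_.neg_smul, _root_.Matrix.cons_val, _root_.zero_smul, _root_.add_zero]; module
      have z2 : ap y (b 2) = ∑ i, (![0, 0, 1, 0, 0, 0] : Fin 6 → F) i • b i := by
        rw [y2, Fin.sum_univ_six]; simp only [_root_.Fin.isValue, _root_.Matrix.cons_val_zero, _root_.zero_smul, _root_.Matrix.cons_val_one, _root_.add_zero, _root_.Matrix.cons_val, _root_.one_smul, _root_.zero_add]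
      have z3 : ap y (b 3) = ∑ i, (![0, 0, 0, 1, 0, 0] : Fin 6 → F) i • b i := by
        rw [y3, Fin.sum_univ_six]; simp
      have z4 : ap y (b 4) = ∑ i, (![0, 0, 0, 0, 1, 0] : Fin 6 → F) i • b i := by
        rw [y4, Fin.sum_univ_six]; simp
      have z5 : ap y (b 5) = ∑ i, (![0, 0, 0, 0, 0, 1] : Fin 6 → F) i • b i := by
        rw [y5, Fin.sum_univ_six]; simp
      have c0 : (2⁻¹ * θ) ^ q = -(2⁻¹ * θ) := by rw [mul_pow, fr2i, hθq]; ring
      have c1 : (-2⁻¹ : F) ^ q = -2⁻¹ := by rw [← neg_one_mul, mul_pow, frn, fr2i]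
      have c2 : (-(2⁻¹ * θ)) ^ q = 2⁻¹ * θ := by rw [← neg_one_mul, mul_pow, frn, c0]; ring
      have hq0 : q ≠ 0 := hp.out.ne_zero
      have i4 : (2 : F)⁻¹ * 2⁻¹ * 4 = 1 := by
        have : (4 : F) = 2 * 2 := by norm_num
        rw [this]; field_simp
      fin_cases i <;> fin_cases j
      all_goals
        simp only [Fin.mk_zero, Fin.mk_one, Fin.zero_eta, Fin.reduceFinMk]
        first
        | rw [z0] | rw [z1] | rw [z2] | rw [z3] | rw [z4] | rw [z5]
        try first
        | rw [z0] | rw [z1] | rw [z2] | rw [z3] | rw [z4] | rw [z5]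
        rw [hsum, Fin.sum_univ_six, hB]
        simp [c0, c1, c2, fr2i, hq0]
      · linear_combination (-(2 : F)⁻¹ * 2⁻¹ * h0) * hθ + h0 * i4
      · left; ring
      · left; ring
      · linear_combination (-(2 : F)⁻¹ * 2⁻¹ * h0) * hθ + h0 * i4), (mem_specialLinear_iff y).2 d⟩)
  have hd1 : (h : Matrix (Fin 6) (Fin 6) F).det = 1 := (mem_specialLinear_iff h).1 (hmax.1.le hh).2
  rw [hd1] at hdet
  have hfh : hermForm 6 F q (ap h (b 0)) (ap h (b 0)) = hermForm 6 F q (b 0) (b 0) :=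
    (mem_GU_iff h).1 (hmax.1.le hh).1 _ _
  have hgg : ∀ i, hermForm 6 F q (g i) (g i) = 8 * h0 := by
    intro i
    rw [cmb_sum' W.cmb i, hsum]
    (with_reducible congr 1)
    rw [Fin.sum_univ_six]
    (revert i; simp only [Gf, Cz, hθq, frn, _root_.Fin.forall_fin_succ, Fin.isValue, Int.reduceNeg, _root_.Matrix.cons_val', _root_.Matrix.cons_val_zero, _root_.Matrix.cons_val_fin_one, _root_.ite_pow, _root_.mul_ite, _root_.mul_neg, _root_.ite_mul, _root_.Matrix.cons_val_one, _root_.Matrix.cons_val, ↓reduceIte, _root_.zero_ne_one, _root_.Int.cast_one, _root_.one_pow, _root_.mul_one, Fin.reduceEq, _root_.Fin.succ_ne_zero, _root_.Matrix.cons_val_succ, _root_.Fin.succ_zero_eq_one, _root_.Int.cast_neg, _root_.neg_neg, _root_.Fin.succ_one_eq_two, Fin.reduceSucc, _root_.one_mul, _root_.neg_mul, _root_.Int.cast_zero, _root_.MulZeroClass.zero_mul, _root_.IsEmpty.forall_iff, _root_.and_true]) <;> (repeat' with_reducible apply And.intro) <;> linear_combination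 -hθ
  rw [(hx 0).2, hf_smul_left, hf_smul_right, hgg, hh0] at hfh
  have e1 : 8 * x 0 ^ (q + 1) = 1 := by
    apply mul_right_cancel₀ hh0'
    rw [one_mul]
    conv_rhs => rw [← hfh]
    ring
  by_contra hcon
  push Not at hcon
  have hq2 : q ≠ 2 := by rintro rfl; omega
  have hmod : q % 8 = 1 ∨ q % 8 = 3 := by (clear * - hodd hcon; omega)
  obtain ⟨s0, hs0⟩ := (ZMod.exists_sq_eq_neg_two_iff hq2).2 hmod
  obtain ⟨s, hs⟩ : ∃ s, s = ZMod.castHom (dvd_refl q) F s0 := ⟨_, rfl⟩
  have hs2 : s * s = -2 := by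
    rw [hs, ← map_mul, ← hs0, map_neg, map_ofNat]
  have hsq : s ^ q = s := by
    rw [hs, ← map_pow, ZMod.pow_card]
  have hu6 : (2 * x 0 * s) ^ 6 = 1 := by
    have e2 : s ^ 6 = -8 := by
      calc s ^ 6 = (s * s) * (s * s) * (s * s) := by ring
        _ = -8 := by rw [hs2]; norm_num
    calc (2 * x 0 * s) ^ 6 = 64 * x 0 ^ 6 * s ^ 6 := by ring
      _ = -512 * x 0 ^ 6 := by rw [e2]; ring
      _ = 1 := hdet.symm
  have hu : (2 * x 0 * s) ^ (q + 1) = 1 := by
    obtain ⟨k, hk⟩ : ∃ k, q + 1 = 6 * k := ⟨(q + 1) / 6, by omega⟩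
    rw [hk, pow_mul, hu6, one_pow]
  have e3 : (8 : F) = -8 := by
    calc (8 : F) = 8 * (2 * x 0 * s) ^ (q + 1) := by rw [hu, mul_one]
      _ = (2 ^ q * 2) * (8 * x 0 ^ (q + 1)) * (s ^ q * s) := by rw [mul_pow, mul_pow, pow_succ 2 q, pow_succ s q]; ring
      _ = -8 := by rw [fr2, e1, hsq, hs2]; norm_num
  have e4 : (2 : F) ^ 4 = 0 := by linear_combination e3
  exact h2 (pow_eq_zero_iff (by norm_num) |>.1 e4)

end SU

end Cfsg.Agent.H913.N6
end

-- part: H918/Six/Row
section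
/-!
# Dimension six: the rows S5800 and S5803, given the cross-characteristic list (helper918)
-/

set_option autoImplicit false
set_option linter.unusedSectionVars false

namespace Cfsg.Agent.H918.Six

open Cfsg Cfsg.Geo Matrix Cfsg.Agent.H915.LD

universe u

variable {F : Type u} [Field F] [Fintype F]

theorem exists_char' (F : Type u) [Field F] [Fintype F] : ∃ p : ℕ, p.Prime ∧ CharP F p := by
  obtain ⟨p, hp⟩ := CharP.exists F
  exact ⟨p, CharP.char_is_prime F p, hp⟩

/-- a scalar of order three -/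
theorem exists_sc_three {P : Subgroup (GL (Fin 6) F)} (h : 3 ∣ nsc P) :
    ∃ c : Fˣ, c ≠ 1 ∧ c ^ 3 = 1 ∧ (H913.N6.sc c : GL (Fin 6) F) ∈ P := by
  have : Fact (Nat.Prime 3) := ⟨by norm_num⟩
  obtain ⟨z, hz⟩ := exists_prime_orderOf_dvd_card' (G := (scalars (Fin 6) F).subgroupOf P) 3 h
  have h1 := z.2
  rw [Subgroup.mem_subgroupOf, H913.N6.mem_scalars] at h1
  obtain ⟨c, hc⟩ := h1
  refine ⟨c, ?_, ?_, by rw [← hc]; exact (z : P).2⟩
  · rintro rfl
    have h3 : z = 1 := by
      apply Subtype.ext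
      apply Subtype.ext
      rw [hc]
      apply Units.ext
      rw [H913.N6.coe_sc, Units.val_one, one_smul]
      rfl
    rw [h3, orderOf_one] at hz
    omega
  · have h2 : z ^ 3 = 1 := by rw [← hz, pow_orderOf_eq_one]
    have h3 : ((((z ^ 3 : (scalars (Fin 6) F).subgroupOf P) : P) : GL (Fin 6) F)) = 1 := by
      rw [h2]; rfl
    have h4 : (H913.N6.sc (c ^ 3) : GL (Fin 6) F) = H913.N6.sc 1 := by
      rw [H913.N6.sc_pow, ← hc]
      rw [Subgroup.coe_pow, Subgroup.coe_pow] at h3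
      rw [h3]
      apply Units.ext
      rw [H913.N6.coe_sc, Units.val_one, Units.val_one, one_smul]
    have h5 := congrArg (fun g : GL (Fin 6) F => (g : Matrix (Fin 6) (Fin 6) F) 0 0) h4
    simp only [H913.N6.coe_sc, Matrix.smul_apply, Matrix.one_apply_eq, smul_eq_mul, mul_one] at h5
    exact Units.ext h5

/-- three scalars: `-1 ∉ P` -/
theorem neg_notMem {P : Subgroup (GL (Fin 6) F)} (h : nsc P = 3) : (-1 : GL (Fin 6) F) ∉ P ∨ (2 : F) = 0 := by
  by_contra hcon
  push Not at hcon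
  obtain ⟨h1, h2⟩ := hcon
  have h3 : (-1 : GL (Fin 6) F) ∈ scalars (Fin 6) F := by
    rw [H913.N6.mem_scalars]
    refine ⟨-1, ?_⟩
    apply Units.ext
    rw [H913.N6.coe_sc, Units.val_neg, Units.val_one, Units.val_neg, Units.val_one, neg_smul, one_smul]
  let z : (scalars (Fin 6) F).subgroupOf P := ⟨⟨-1, h1⟩, Subgroup.mem_subgroupOf.2 h3⟩
  have h4 : z ^ 2 = 1 := by
    apply Subtype.ext
    apply Subtype.ext
    change (-1 : GL (Fin 6) F) ^ 2 = 1
    rw [neg_one_sq]
  have h5 : z ^ 3 = 1 := by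
    rw [← h]
    exact pow_card_eq_one'
  have h6 : z = 1 := by
    have : z ^ 3 = z ^ 2 * z := pow_succ z 2
    rw [h5, h4, one_mul] at this
    exact this.symm
  have h7 : (-1 : GL (Fin 6) F) = 1 := congrArg (fun t => ((t : P) : GL (Fin 6) F)) (congrArg Subtype.val h6)
  have h8 := congrArg (fun g : GL (Fin 6) F => (g : Matrix (Fin 6) (Fin 6) F) 0 0) h7
  simp only [Units.val_neg, Units.val_one, Matrix.neg_apply, Matrix.one_apply_eq] at h8
  apply h2
  have h9 : (1 : F) + 1 = 0 := by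
    nth_rw 1 [← h8]
    ring
  rw [← one_add_one_eq_two]
  exact h9

/-- The cores of degree six, cross characteristic; `A₆` and `A₇` without further facts. -/
def Out6x (p : ℕ) (P : Subgroup (GL (Fin 6) F)) : Prop :=
  Nonempty (Soc P ≃* alternatingGroup (Fin 7)) ∨ Nonempty (Soc P ≃* alternatingGroup (Fin 6)) ∨ Out6 p P

/-- the fields of `6.A₇`, linear case -/
theorem a7_sl {p : ℕ} [hp : Fact p.Prime] [CharP F p] {P : Subgroup (GL (Fin 6) F)} (hC : Core P)
    (hcj : ¬ Cj P p) (hw : ∃ w : F, w ^ 3 = 1 ∧ w ≠ 1) (h : H890.A7.Facts P p) :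
    (Fintype.card F = p ∧ (p % 24 = 1 ∨ p % 24 = 7)) ∨
      (Fintype.card F = p ^ 2 ∧ (p % 24 = 5 ∨ p % 24 = 11 ∨ p % 24 = 13 ∨ p % 24 = 19)) := by
  have hp2 := hp.out.two_le
  have hpm : ∀ r : ℕ, r.Prime → p ≠ r → p % r ≠ 0 := by
    intro r hr hne h
    exact hne ((Nat.prime_dvd_prime_iff_eq hr hp.out).1 (Nat.dvd_of_mod_eq_zero h)).symm
  obtain ⟨h2, h3, hfr2, hfr, hcj', g, hg, hg2, hgi⟩ := h
  obtain ⟨w, hw3, hw1⟩ := hw
  have h8 : p % 2 ≠ 0 := hpm 2 (by norm_num) h2
  have h9 : p % 3 ≠ 0 := hpm 3 (by norm_num) h3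
  by_cases h1 : p % 24 = 1 ∨ p % 24 = 7
  · exact Or.inl ⟨hC.card_eq p (hfr h1), h1⟩
  · right
    have h17 : ¬ (p % 24 = 17 ∨ p % 24 = 23) := fun h => hcj (hcj' h)
    have hne : Fintype.card F ≠ p := by
      intro hcard
      have h10 := mod_three_of_omega hcard hw3 hw1
      have h11 := mod_eight_of_sqrt_two h2 hg2 (by
        have := FiniteField.pow_card (tr g)
        rwa [hcard] at this)
      (clear * - h1 h10 h11; (solve | lia | omega))
    refine ⟨?_, by (clear * - h8 h9 h1 h17; (solve | lia | omega))⟩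
    have hle := hC.card_le p two_ne_zero hfr2
    obtain ⟨m, hm, hcard⟩ := FiniteField.card F p
    rw [hcard] at hle hne ⊢
    have h10 : (m : ℕ) ≤ 2 := (Nat.pow_le_pow_iff_right (by omega)).1 hle
    have h11 : (m : ℕ) ≠ 1 := by
      intro h
      rw [h, pow_one] at hne
      exact hne rfl
    have h12 := m.pos
    rw [show (m : ℕ) = 2 by omega]

/-- the fields of `6.A₇`, unitary case -/
theorem a7_su {q : ℕ} (hF : Fintype.card F = q ^ 2) {p : ℕ} [hp : Fact p.Prime] [CharP F p]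
    {P : Subgroup (GL (Fin 6) F)} (hC : Core P) (hcjq : Cj P q) (h : H890.A7.Facts P p) :
    q.Prime ∧ (q % 24 = 17 ∨ q % 24 = 23) := by
  have hpm : ∀ r : ℕ, r.Prime → p ≠ r → p % r ≠ 0 := by
    intro r hr hne h
    exact hne ((Nat.prime_dvd_prime_iff_eq hr hp.out).1 (Nat.dvd_of_mod_eq_zero h)).symm
  have hfrp : ¬ Fr P p := not_fr_of_card hC p hF
  obtain ⟨h2, h3, hfr2, hfr, hcj', g, hg, hg2, hgi⟩ := h
  have hq := q_eq_of_fr hC p hF hfr2
  subst hq
  have h8 : q % 2 ≠ 0 := hpm 2 (by norm_num) h2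
  have h9 : q % 3 ≠ 0 := hpm 3 (by norm_num) h3
  have h10 : q % 8 = 1 ∨ q % 8 = 7 := mod_eight_of_sqrt_two h2 hg2 (by rw [hcjq g hg, hgi])
  have h11 : ¬ (q % 24 = 1 ∨ q % 24 = 7) := fun h => hfrp (hfr h)
  exact ⟨hp.out, by omega⟩

/-- a cube root of unity -/
theorem omega_of_a7 {p : ℕ} [hp : Fact p.Prime] [CharP F p] {P : Subgroup (GL (Fin 6) F)} (hC : Core P)
    (e : Soc P ≃* alternatingGroup (Fin 7)) (hsd : ¬ SD P) : ∃ w : F, w ^ 3 = 1 ∧ w ≠ 1 := by
  obtain ⟨c, h1, h2, -⟩ := H890.A7.hz_of p hC e hsd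
  exact ⟨c, by rw [← Units.val_pow_eq_pow_val, h2, Units.val_one], fun h => h1 (Units.ext h)⟩

/-- **The linear row.** -/
theorem row5800 {H : Subgroup (GL (Fin 6) F)} (hmax : IsMaximalIn (specialLinear (Fin 6) F) H)
    (hS : InLinearResidualClass H)
    (hlist : ∀ (p : ℕ) (_ : Fact p.Prime) (_ : CharP F p) (P : Subgroup (GL (Fin 6) F)), Core P →
      ¬ IsLieTypeChar p (Soc P) → Out6x p P) :
    ∃ (P : Subgroup (GL (Fin 6) F)) (p : ℕ), IsResidualCore H P ∧ p.Prime ∧ CharP F p ∧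
    ((Nonempty (Soc P ≃* ProjectiveSpecialLinearGroup (Fin 2) (ZMod 11)) ∧ Fintype.card F = p ∧ p ≠ 3 ∧
        (p % 11 = 1 ∨ p % 11 = 3 ∨ p % 11 = 4 ∨ p % 11 = 5 ∨ p % 11 = 9)) ∨
     (Nonempty (Soc P ≃* alternatingGroup (Fin 7)) ∧ ((Fintype.card F = p ∧ (p % 24 = 1 ∨ p % 24 = 7)) ∨
        (Fintype.card F = p ^ 2 ∧ (p % 24 = 5 ∨ p % 24 = 11 ∨ p % 24 = 13 ∨ p % 24 = 19)))) ∨
     (IsL34 (Soc P) ∧ Fintype.card F = p ∧ (p % 24 = 1 ∨ p % 24 = 19)) ∨
     (Cfsg.Spor.IsoM12 (Soc P) ∧ Fintype.card F = 3) ∨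
     (IsU43 (Soc P) ∧ Fintype.card F = p ∧ (p % 12 = 1 ∨ p % 12 = 7)) ∨
     (Nonempty (Soc P ≃* Matrix.ProjectiveSpecialLinearGroup (Fin 3) F) ∧ Odd (Fintype.card F))) := by
  obtain ⟨P, hP, hC, hsd, hcj⟩ := linear_core hS
  obtain ⟨p, hp, hFp⟩ := exists_char' F
  have hpf := Fact.mk hp
  have hcj' := hcj p hpf hFp
  refine ⟨P, p, hP, hp, hFp, ?_⟩
  have hout : Out6x p P := by
    by_cases hL : IsLieTypeChar p (Soc P)
    · rcases own6_sl p hC hL with ⟨k, hk⟩ | h
      · exact absurd hk (hcj' k)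
      · exact Or.inr (Or.inr h)
    · exact hlist p hpf hFp P hC hL
  have hk6 : Nonempty (Soc P ≃* alternatingGroup (Fin 6)) → False := by
    rintro ⟨e⟩
    exact H830.A6.not_maximal_sl6 hmax hP e (H910.Six.sl6_a6_six hmax hP e hsd p).2
  rcases hout with ⟨⟨e⟩⟩ | h6 | hout
  · rcases H890.A7.six_SL p hmax hP e with h | h
    · exact absurd h hsd
    · right; left
      refine ⟨⟨e⟩, a7_sl hC ?_ (omega_of_a7 (p := p) hC e hsd) h⟩
      have := hcj' 1
      rwa [pow_one] at this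
  · exact (hk6 h6).elim
  refine sl6_concl hmax hP.le hC hsd hcj' hout ?_ (fun h _ => hk6 h) ?_ ?_
  · rintro - hF ⟨e⟩
    exact H830.L11.not_maximal hF hmax hP e
  · rintro ⟨e⟩ h3
    exact H890.A7.not_maximal_SL hmax hP e (neg_notMem h3) (exists_sc_three (by rw [h3]))
  · intro h1 h2 h3 h4
    exact H913.N6.sl_kill hmax hP h1 h2 h3 h4

/-- **The unitary row.** -/
theorem row5803 {q : ℕ} (hF : Fintype.card F = q ^ 2) {H : Subgroup (GL (Fin 6) F)}
    (hmax : IsMaximalIn (GU 6 F q ⊓ specialLinear (Fin 6) F) H) (hS : InUnitaryResidualClass H)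
    (hlist : ∀ (p : ℕ) (_ : Fact p.Prime) (_ : CharP F p) (P : Subgroup (GL (Fin 6) F)), Core P →
      ¬ IsLieTypeChar p (Soc P) → Out6x p P)
    (h45 : ∀ (p : ℕ) (_ : Fact p.Prime) (_ : CharP F p) (P : Subgroup (GL (Fin 6) F)), Core P →
      ∀ (K : Type) (_ : Field K) (_ : Fintype K) (_ : CharP K p) (N q : ℕ), Fintype.card K = q ^ 2 →
      (N = 4 ∨ N = 5) → (Soc P ≃* PSU N K q) → SD P) :
    ∃ P : Subgroup (GL (Fin 6) F), IsResidualCore H P ∧
    ((Nonempty (Soc P ≃* ProjectiveSpecialLinearGroup (Fin 2) (ZMod 11)) ∧ q.Prime ∧ q ≠ 2 ∧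
        (q % 11 = 2 ∨ q % 11 = 6 ∨ q % 11 = 7 ∨ q % 11 = 8 ∨ q % 11 = 10)) ∨
     (Nonempty (Soc P ≃* alternatingGroup (Fin 7)) ∧ q.Prime ∧ (q % 24 = 17 ∨ q % 24 = 23)) ∨
     (IsL34 (Soc P) ∧ q.Prime ∧ (q % 24 = 5 ∨ q % 24 = 23)) ∨
     (Cfsg.Spor.IsoM22 (Soc P) ∧ q = 2) ∨
     (IsU43 (Soc P) ∧ (q = 2 ∨ (q.Prime ∧ (q % 12 = 5 ∨ q % 12 = 11)))) ∨
     (Nonempty (Soc P ≃* Cfsg.PSU 3 F q) ∧ Odd q)) := by
  obtain ⟨P, hP, hC, hsd⟩ := unitary_core hS
  obtain ⟨p, hp, hFp⟩ := exists_char' F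
  have hpf := Fact.mk hp
  have hPU : P ≤ GU 6 F q := (hP.le.trans hmax.1.le).trans inf_le_left
  refine ⟨P, hP, ?_⟩
  have hout : Out6x p P := by
    by_cases hL : IsLieTypeChar p (Soc P)
    · exact Or.inr (Or.inr (own6_su p hC hL hF hPU (h45 p hpf hFp P hC)))
    · exact hlist p hpf hFp P hC hL
  have hk6 : Nonempty (Soc P ≃* alternatingGroup (Fin 6)) → False := by
    rintro ⟨e⟩
    exact H830.A6.not_maximal_su6 hF hmax hP e (H910.Six.su6_a6_six hF hmax hP e hsd p).2
  rcases hout with ⟨⟨e⟩⟩ | h6 | hout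
  · rcases H890.A7.six_SU hF p hmax hP e with h | h
    · exact absurd h hsd
    · right; left
      exact ⟨⟨e⟩, a7_su hF hC (cj_of_le_GU hF hPU) h⟩
  · exact (hk6 h6).elim
  refine su6_concl hF hmax hP.le hC hsd (cj_of_le_GU hF hPU) hout ?_ (fun h _ => hk6 h) ?_ ?_
  · rintro K i1 i2 k hK ⟨e⟩
    have : CharP K p := by
      obtain ⟨r, hr, hKr⟩ := exists_char' K
      have hrf := Fact.mk hr
      obtain ⟨m, hm, hcard⟩ := FiniteField.card K r
      have hk : k ≠ 0 := by
        rintro rfl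
        have := Fintype.one_lt_card (α := K)
        rw [hK] at this
        simp at this
      have h1 : p ∣ r ^ (m : ℕ) := by
        rw [← hcard, hK, ← pow_mul]
        exact dvd_pow_self p (by omega)
      have h2 := (Nat.prime_dvd_prime_iff_eq hp hr).1 (hp.dvd_of_dvd_pow h1)
      rw [h2]
      exact hKr
    exact (H48.NatSU.psu_eq hC p hF hPU hK (by norm_num) (by norm_num) e rfl).2
  · rintro ⟨e⟩ h3
    exact H890.A7.not_maximal_SU hF hmax hP e (neg_notMem h3) (exists_sc_three (by rw [h3]))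
  · intro h1 h2 h3 h4
    exact H913.N6.su_kill hF hmax hP h1 h2 h3 h4

end Cfsg.Agent.H918.Six
end

-- part: H918/Six/M12Six
section
/-!
# The Mathieu group of degree 12 has no faithful representation of degree 6, characteristic not 2 (helper918)

A four-group and an elementary abelian group of order 8 all of whose involutions are conjugate:
`not_six` : a core of dimension six is not isomorphic to the group, characteristic `≠ 2`.
-/

set_option autoImplicit false
set_option linter.unusedSectionVars false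

namespace Cfsg.Agent.H918.Six.M12

open Module Cfsg.Agent.H637.JW Cfsg.Agent.H882.Dim

section dims

variable {K : Type*} [Field K] {V : Type*} [AddCommGroup V] [Module K V] [FiniteDimensional K V]
  {G : Type*} [Group G] {σ : G →* Module.End K V}

/-- four-groups on an invariant subspace -/
theorem kleinU (h2 : (2 : K) ≠ 0) {a b : G} (ha : a * a = 1) (hb : b * b = 1) (hab : a * b = b * a)
    (U : Submodule K V) (hUa : ∀ v ∈ U, σ a v ∈ U) (hUb : ∀ v ∈ U, σ b v ∈ U) :
    finrank K (U ⊓ _root_.Cfsg.Agent.H637.JW.Fix σ a : Submodule K V) + finrank K (U ⊓ _root_.Cfsg.Agent.H637.JW.Fix σ b : Submodule K V) +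
      finrank K (U ⊓ _root_.Cfsg.Agent.H637.JW.Fix σ (a * b) : Submodule K V) =
    2 * finrank K (U ⊓ (_root_.Cfsg.Agent.H637.JW.Fix σ a ⊓ _root_.Cfsg.Agent.H637.JW.Fix σ b) : Submodule K V) + finrank K U := by
  have hc : ∀ v, σ a (σ b v) = σ b (σ a v) := fun v => by rw [← mul_apply', hab, mul_apply']
  have hbb : ∀ v, σ b (σ b v) = v := fun v => by rw [← mul_apply', hb, act_one]
  have s1 := split_two (σ := σ) h2 hb (U ⊓ _root_.Cfsg.Agent.H637.JW.Fix σ a) (fun v hv => ⟨hUb v hv.1, mem_Fix.2 (by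
    rw [hc, mem_Fix.1 hv.2])⟩)
  have s2 := split_two (σ := σ) h2 ha (U ⊓ _root_.Cfsg.Agent.H637.JW.Fix σ b) (fun v hv => ⟨hUa v hv.1, mem_Fix.2 (by
    rw [← hc, mem_Fix.1 hv.2])⟩)
  have s3 := split_two (σ := σ) h2 ha (U ⊓ _root_.Cfsg.Agent.H637.JW.Fix σ (a * b)) (fun v hv => ⟨hUa v hv.1, mem_Fix.2 (by
    have h3 := mem_Fix.1 hv.2
    rw [mul_apply'] at h3
    rw [mul_apply', ← hc, h3])⟩)
  have s4 := split_two (σ := σ) h2 hb (U ⊓ An σ a) (fun v hv => ⟨hUb v hv.1, mem_An.2 (by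
    rw [hc, mem_An.1 hv.2, map_neg])⟩)
  have s5 := split_two (σ := σ) h2 ha U hUa
  have e0 : U ⊓ _root_.Cfsg.Agent.H637.JW.Fix σ a ⊓ _root_.Cfsg.Agent.H637.JW.Fix σ b = U ⊓ (_root_.Cfsg.Agent.H637.JW.Fix σ a ⊓ _root_.Cfsg.Agent.H637.JW.Fix σ b) := inf_assoc _ _ _
  have e1 : U ⊓ _root_.Cfsg.Agent.H637.JW.Fix σ b ⊓ _root_.Cfsg.Agent.H637.JW.Fix σ a = U ⊓ (_root_.Cfsg.Agent.H637.JW.Fix σ a ⊓ _root_.Cfsg.Agent.H637.JW.Fix σ b) := by rw [inf_assoc, inf_comm (_root_.Cfsg.Agent.H637.JW.Fix σ b)]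
  have e2 : U ⊓ _root_.Cfsg.Agent.H637.JW.Fix σ (a * b) ⊓ _root_.Cfsg.Agent.H637.JW.Fix σ a = U ⊓ (_root_.Cfsg.Agent.H637.JW.Fix σ a ⊓ _root_.Cfsg.Agent.H637.JW.Fix σ b) := by
    ext v
    simp only [Submodule.mem_inf, mem_Fix, mul_apply']
    constructor
    · rintro ⟨⟨h0, h1⟩, h3⟩
      refine ⟨h0, h3, ?_⟩
      rw [hc, h3] at h1
      exact h1
    · rintro ⟨h0, h1, h3⟩
      exact ⟨⟨h0, by rw [h3, h1]⟩, h1⟩
  have e3 : U ⊓ _root_.Cfsg.Agent.H637.JW.Fix σ (a * b) ⊓ An σ a = U ⊓ An σ a ⊓ An σ b := by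
    ext v
    simp only [Submodule.mem_inf, mem_Fix, mem_An, mul_apply']
    constructor
    · rintro ⟨⟨h0, h1⟩, h3⟩
      refine ⟨⟨h0, h3⟩, ?_⟩
      rw [hc, h3, map_neg] at h1
      exact neg_eq_iff_eq_neg.1 h1
    · rintro ⟨⟨h0, h1⟩, h3⟩
      exact ⟨⟨h0, by rw [h3, map_neg, h1, neg_neg]⟩, h1⟩
  have e4 : U ⊓ _root_.Cfsg.Agent.H637.JW.Fix σ b ⊓ An σ a = U ⊓ An σ a ⊓ _root_.Cfsg.Agent.H637.JW.Fix σ b := by
    rw [inf_assoc, inf_assoc, inf_comm (_root_.Cfsg.Agent.H637.JW.Fix σ b)]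
  rw [e0] at s1
  rw [e1, e4] at s2
  rw [e2, e3] at s3
  omega

theorem klein_top (h2 : (2 : K) ≠ 0) {a b : G} (ha : a * a = 1) (hb : b * b = 1) (hab : a * b = b * a) :
    finrank K (Fix σ a) + finrank K (Fix σ b) + finrank K (Fix σ (a * b)) =
    2 * finrank K (_root_.Cfsg.Agent.H637.JW.Fix σ a ⊓ _root_.Cfsg.Agent.H637.JW.Fix σ b : Submodule K V) + finrank K V := by
  have h := kleinU (σ := σ) h2 ha hb hab ⊤ (fun _ _ => trivial) (fun _ _ => trivial)
  rwa [top_inf_eq, top_inf_eq, top_inf_eq, top_inf_eq, finrank_top] at h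

/-- an elementary abelian group of order eight with conjugate involutions -/
theorem eight (h2 : (2 : K) ≠ 0) {a b c : G} (ha : a * a = 1) (hb : b * b = 1) (hc : c * c = 1)
    (hab : a * b = b * a) (hac : a * c = c * a) (hbc : b * c = c * b) {f : ℕ}
    (fa : finrank K (Fix σ a) = f) (fb : finrank K (Fix σ b) = f) (fc : finrank K (Fix σ c) = f)
    (fab : finrank K (Fix σ (a * b)) = f) (fac : finrank K (Fix σ (a * c)) = f) (fbc : finrank K (Fix σ (b * c)) = f)
    (fabc : finrank K (Fix σ (a * (b * c))) = f) :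
    ∃ k, 4 * k + 3 * finrank K V = 7 * f := by
  have habc : a * (b * c) = b * c * a := by rw [← mul_assoc, hab, mul_assoc, hac, ← mul_assoc]
  have hbcc : b * c * (b * c) = 1 := by
    calc b * c * (b * c) = b * (c * b) * c := by group
      _ = b * b * (c * c) := by rw [← hbc]; group
      _ = 1 := by rw [hb, hc, one_mul]
  have k1 := klein_top (σ := σ) h2 ha hb hab
  have k2 := klein_top (σ := σ) h2 ha hc hac
  have k3 := klein_top (σ := σ) h2 ha hbcc habc
  have k4 := kleinU (σ := σ) h2 hb hc hbc (_root_.Cfsg.Agent.H637.JW.Fix σ a)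
    (fun v hv => by rw [mem_Fix, ← mul_apply', hab, mul_apply', mem_Fix.1 hv])
    (fun v hv => by rw [mem_Fix, ← mul_apply', hac, mul_apply', mem_Fix.1 hv])
  exact ⟨finrank K (_root_.Cfsg.Agent.H637.JW.Fix σ a ⊓ (_root_.Cfsg.Agent.H637.JW.Fix σ b ⊓ _root_.Cfsg.Agent.H637.JW.Fix σ c) : Submodule K V), by (clear * - fa fb fc fab fac fbc fabc k1 k2 k3 k4; solve | lia | omega)⟩

end dims

/-! ### the group of degree 12 -/

open Cfsg Cfsg.Agent.CoThreeStd.MTwelve

def wa : List ℕ := [3, 1]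
def wb : List ℕ := [5, 4, 2, 5]
def wc : List ℕ := [1, 0, 5, 4, 2, 5, 1, 0]

theorem one_of {l : List ℕ} (h : eqW l [] = true) : wd l = 1 := wd_eq h

theorem mul_of {l m : List ℕ} : wd l * wd m = wd (l ++ m) := (wd_append l m).symm

theorem conj_of {x m t : List ℕ} (h : eqW (m ++ t) (x ++ m) = true) : wd m * wd t * (wd m)⁻¹ = wd x := by
  have h1 := wd_eq h
  rw [wd_append, wd_append] at h1
  rw [h1, mul_inv_cancel_right]

section rep

variable {K : Type*} [Field K] {V : Type*} [AddCommGroup V] [Module K V] [FiniteDimensional K V]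
  {σ : Spor.M12 →* Module.End K V}

theorem fix_of {x m t : List ℕ} (h : eqW (m ++ t) (x ++ m) = true) :
    finrank K (Fix σ (wd t)) = finrank K (Fix σ (wd x)) := by
  rw [← conj_of h, finrank_Fix_conj]

theorem trivial_of_six (h2 : (2 : K) ≠ 0) (hV : finrank K V = 6) : σ (wd wa) = 1 := by
  have k1 := eight (σ := σ) (K := K) (V := V) h2 (a := wd wa) (b := wd wb) (c := wd wc)
    (by rw [mul_of]; exact one_of (by decide +kernel))
    (by rw [mul_of]; exact one_of (by decide +kernel))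
    (by rw [mul_of]; exact one_of (by decide +kernel))
    (by rw [mul_of, mul_of]; exact wd_eq (by decide +kernel))
    (by rw [mul_of, mul_of]; exact wd_eq (by decide +kernel))
    (by rw [mul_of, mul_of]; exact wd_eq (by decide +kernel)) rfl
    (fix_of (m := [4, 3, 2, 1, 5]) (by decide +kernel))
    (fix_of (m := [2, 5, 2, 0, 5, 0]) (by decide +kernel))
    (by rw [mul_of]; exact fix_of (m := [5, 1, 2, 3, 4, 1]) (by decide +kernel))
    (by rw [mul_of]; exact fix_of (m := [5, 1, 2, 3, 4, 0]) (by decide +kernel))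
    (by rw [mul_of]; exact fix_of (m := [5, 2, 0, 5, 0]) (by decide +kernel))
    (by rw [mul_of, mul_of]; exact fix_of (m := [5, 2, 0, 5]) (by decide +kernel))
  obtain ⟨k, hk⟩ := k1
  have h1 : finrank K (Fix σ (wd wa)) ≤ finrank K V := Submodule.finrank_le _
  have h3 : finrank K (Fix σ (wd wa)) = finrank K V := by (solve | lia | omega)
  have h4 : _root_.Cfsg.Agent.H637.JW.Fix σ (wd wa) = ⊤ := Submodule.eq_top_of_finrank_eq h3
  ext v
  have : v ∈ _root_.Cfsg.Agent.H637.JW.Fix σ (wd wa) := by rw [h4]; trivial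
  rw [mem_Fix] at this
  exact this

end rep

theorem wa_ne_one : wd wa ≠ 1 := by
  rw [← wd_nil]
  exact wd_ne 1 (by norm_num) (by decide +kernel)

open Matrix Cfsg.Geo Cfsg.Agent.H915.LD

universe u

variable {ι : Type} [Fintype ι] [DecidableEq ι] {F : Type u} [Field F] {P : Subgroup (GL ι F)}

/-- **No core of dimension six is isomorphic to the group of degree 12.** -/
theorem not_six (h2 : (2 : F) ≠ 0) (hn : Fintype.card ι = 6) (e : P ≃* Spor.M12) : False := by
  let σ : Spor.M12 →* Module.End F (ι → F) :=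
    ((Matrix.toLinAlgEquiv' (R := F) (n := ι)).toMonoidHom.comp
      ((Units.coeHom (Matrix ι ι F)).comp P.subtype)).comp e.symm.toMonoidHom
  have h1 := trivial_of_six (σ := σ) h2 (by rw [Module.finrank_fintype_fun_eq_card, hn])
  apply wa_ne_one
  have h3 : ((e.symm (wd wa) : P) : GL ι F) = 1 := by
    apply Units.ext
    exact (Matrix.toLinAlgEquiv' (R := F) (n := ι)).injective (h1.trans (map_one _).symm)
  have h4 : e.symm (wd wa) = 1 := Subtype.ext h3
  exact (MulEquiv.map_eq_one_iff e.symm).1 h4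

end Cfsg.Agent.H918.Six.M12
end

-- part: H918/Six/M12All
section
/-!
# Cores of degree six with socle the Mathieu group of degree 12 (helper918)
-/

set_option autoImplicit false
set_option linter.unusedSectionVars false

namespace Cfsg.Agent.H918.Six.M12

open Matrix Cfsg Cfsg.Geo Cfsg.Agent.H915.LD

universe u

variable {ι : Type} [Fintype ι] [DecidableEq ι] {F : Type u} [Field F] [Finite F] {P : Subgroup (GL ι F)}

/-- **Degree six: `SD P`, or `p = 3` and `Fr P 3`.** -/
theorem m12_six (hC : Core P) (p : ℕ) [hp : Fact p.Prime] [CharP F p] (h : Spor.IsoM12 (Soc P))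
    (hn : Fintype.card ι = 6) : SD P ∨ (p = 3 ∧ Fr P 3) := by
  by_cases h2 : p = 2
  · subst h2
    exact Or.inl (H6.M11.m12_odd hC 2 (by norm_num) h (by omega) (Or.inr rfl))
  · have h2F : (2 : F) ≠ 0 := by
      intro h0
      have h1 : ((2 : ℕ) : F) = 0 := by exact_mod_cast h0
      rw [CharP.cast_eq_zero_iff F p] at h1
      exact h2 ((Nat.prime_dvd_prime_iff_eq hp.out Nat.prime_two).1 h1)
    rcases H6.M11.m12_cases hC h with ⟨⟨e⟩⟩ | ⟨h3, -⟩
    · exact (not_six h2F hn e).elim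
    · right
      have hne : (scalars ι F).subgroupOf P ≠ ⊥ := by
        intro h4
        rw [h4, Subgroup.card_bot] at h3
        norm_num at h3
      rcases H24.M12.two_m12 hC h h2 hne (by omega) with ⟨h4, -, h5⟩ | ⟨-, h4, -⟩
      · exact ⟨h4, h5⟩
      · omega

end Cfsg.Agent.H918.Six.M12
end

-- part: H913/S6/Cross
section
/-!
# Dimension six: the simple groups that are not of Lie type in the characteristic (helper913)

`cross6` : `Core P`, `Soc P` known, not of Lie type in characteristic `p`: `OutX p P`.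
-/

set_option autoImplicit false
set_option linter.unusedSectionVars false
set_option linter.style.haveILetI false

namespace Cfsg.Agent.H913.S6

open Cfsg Cfsg.Geo Matrix
open H915.LD (Core Soc tr SD Fr Cj)
open H918.Six (Out6 IsL34 IsU43 nsc)
open H912.Bd (IsL IsU IsS IsOP)

universe u

variable {F : Type u} [Field F] [Fintype F] {P : Subgroup (GL (Fin 6) F)}

/-- The cores of degree six, cross characteristic; `A₆` and `A₇` without further facts. -/
def OutX (p : ℕ) (P : Subgroup (GL (Fin 6) F)) : Prop :=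
  Nonempty (Soc P ≃* alternatingGroup (Fin 7)) ∨ Nonempty (Soc P ≃* alternatingGroup (Fin 6)) ∨ Out6 p P

section

variable (p : ℕ) [hp : Fact p.Prime] [hFp : CharP F p]

include hFp hp in
theorem cast_ne0 {r : ℕ} (hr : r.Prime) (h : p ≠ r) : (r : F) ≠ 0 := by
  intro h0
  rw [CharP.cast_eq_zero_iff F p] at h0
  exact h ((Nat.prime_dvd_prime_iff_eq hp.out hr).1 h0)

include hFp hp in
theorem two_ne0 (h : p ≠ 2) : (2 : F) ≠ 0 := by exact_mod_cast cast_ne0 (F := F) p Nat.prime_two h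

theorem zero_or_one {K : Type*} [Field K] [Fintype K] (hK : Fintype.card K = 2) (x : K) : x = 0 ∨ x = 1 := by
  by_cases hx : x = 0
  · exact Or.inl hx
  · right
    have h3 := FiniteField.pow_card_sub_one_eq_one x hx
    rwa [hK, pow_one] at h3

/-- `L_2(q)`, `q = 7, 11, 13` -/
theorem l2_row (hC : Core P) {q : ℕ} (hq : q ∈ ({7, 8, 11, 13, 17, 19, 23, 25} : Finset ℕ)) (hpq : ¬ p ∣ q)
    (h : IsL 2 q (Soc P)) : Out6 p P := by
  obtain ⟨K, iF, iT, hK, ⟨e⟩⟩ := h
  have h5 : 5 ≤ Fintype.card K := by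
    rw [hK]; simp only [Finset.mem_insert, Finset.mem_singleton] at hq; omega
  have h9 : Fintype.card K ≠ 9 := by
    rw [hK]; simp only [Finset.mem_insert, Finset.mem_singleton] at hq; omega
  have hpK : ¬ p ∣ Fintype.card K := by rwa [hK]
  rcases H464.Sl2.l2_stage1_le p hC h5 h9 hpK e (by simp) with h | ⟨h, h3, h4⟩
  · exact Or.inl h
  · rw [Fintype.card_fin] at h
    have h11 : Fintype.card K = 11 := by omega
    rw [h11] at h3 h4
    have hp2 := ((H464.Sl2.l2_half p hC h5 h9 hpK e (Or.inr (by rw [Fintype.card_fin, h11]))).1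
      (by rw [Fintype.card_fin, h11])).1
    have hp11 : p ≠ 11 := by
      rintro rfl
      rw [h11] at hpK
      exact hpK (dvd_refl 11)
    exact Or.inr (Or.inl ⟨H912.Five.psl_zmod (by norm_num) ⟨K, iF, iT, h11, ⟨e⟩⟩, hp2, hp11, h3, h4⟩)

/-- `L_3(4)` -/
theorem l34_row (hC : Core P) (hp2 : p ≠ 2) (h : IsL 3 4 (Soc P)) : Out6 p P := by
  obtain ⟨K, iF, iT, hK, ⟨e⟩⟩ := h
  obtain ⟨h1, h2, h3⟩ := H906.T14.l34_six p hC hp2 hK (by simp) e
  by_cases hp3 : p = 3
  · exact Or.inl (h3 hp3).1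
  · have h6 := (H906.T14.six_center p hC hp2 hK (by simp) e).1 hp3
    exact Or.inr (Or.inr (Or.inr (Or.inr (Or.inr (Or.inl ⟨⟨K, iF, iT, hK, ⟨e⟩⟩, h6, hp2, hp3, h1, h2⟩)))))

/-- `U_4(3)` -/
theorem u43_row (hC : Core P) (hp3 : p ≠ 3) (h : IsU 4 3 (Soc P)) : Out6 p P := by
  obtain ⟨K, iF, iT, hK, ⟨e⟩⟩ := h
  have hK9 : Fintype.card K = 9 := by rw [hK]; norm_num
  obtain ⟨-, h1, h2⟩ := H918.U43.u43_core hC p hp3 hK9 e (by simp)
  exact Or.inr (Or.inr (Or.inr (Or.inr (Or.inr (Or.inr (Or.inr (Or.inr (Or.inl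
    ⟨⟨K, iF, iT, hK9, ⟨e⟩⟩, hp3, h1, h2⟩))))))))

/-- `U_4(2)` -/
theorem u42_row (hC : Core P) (hp2 : p ≠ 2) (hp3 : p ≠ 3) (h : IsU 4 2 (Soc P)) : SD P := by
  obtain ⟨K, iF, iT, hK, ⟨e⟩⟩ := h
  rcases H659.Sp4.u42_stage' hC p hp2 hp3 (by simp) (by rw [hK]; norm_num) e with h | ⟨h, -⟩ | ⟨-, -, h, -⟩
  · simp at h
  · simp at h
  · exact h

/-- `U_3(3)` -/
theorem u33_row (hC : Core P) (hp3 : p ≠ 3) (h : IsU 3 3 (Soc P)) : SD P := by
  obtain ⟨K, iF, iT, hK, ⟨e⟩⟩ := h
  have hK9 : Fintype.card K = 9 := by rw [hK]; norm_num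
  by_cases hp2 : p = 2
  · subst hp2
    exact (H936.U33Two.u33_two hC hK9 ⟨e⟩ (by simp)).2.1
  · rcases (H659.U3.u33_stage hC p hp2 hp3 (by simp) hK9 e).2 with ⟨-, h, -⟩ | ⟨h, -⟩
    · exact h
    · simp at h

/-- `Sp_6(2)`, `Ω_8^+(2)` -/
theorem s62_row (hC : Core P) (hp2 : p ≠ 2) (h : IsS 3 2 (Soc P) ∨ IsOP 4 2 (Soc P)) : False := by
  rcases h with ⟨K, iF, iT, hK, ⟨e⟩⟩ | ⟨K, iF, iT, hK, ⟨e⟩⟩
  · have := H916.SpSix.spSix_dim (zero_or_one hK) hC e (two_ne0 p hp2) (by simp)
    simp at this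
  · have := H916.Om.omega_dim (zero_or_one hK) hC e (two_ne0 p hp2) (by simp)
    simp at this

include hFp hp in
/-- `J_3` -/
theorem j3_row (hC : Core P) (h : Cfsg.Spor.IsoJ3 (Soc P)) : False := by
  obtain ⟨K, _, _, ω, hF, hω, ⟨e⟩⟩ := h
  have H := Cfsg.Agent.J3.Core.good_of_card hF hω
  by_cases h19 : p = 19
  · have h17 : Nat.Prime 17 := by norm_num
    have := (((H921.Spor.J3.J3_seventeen hF H).orb h17).bd h17 (cast_ne0 (F := F) p h17 (by omega))) 6
      (H912.Bd.PR.of_perfect P hC.perfect h17 (by norm_num) e)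
    omega
  · have hp19 : Nat.Prime 19 := by norm_num
    have := (((H921.Spor.J3.J3_nineteen hF H).orb hp19).bd hp19 (cast_ne0 (F := F) p hp19 h19)) 6
      (H912.Bd.PR.of_perfect P hC.perfect hp19 (by norm_num) e)
    omega

include hFp hp in
/-- `Suz` -/
theorem suz_row (hC : Core P) (h : Cfsg.Spor.IsoSuz (Soc P)) : False := by
  obtain ⟨e⟩ := h
  by_cases hp3 : p = 3
  · have h11 : Nat.Prime 11 := by norm_num
    have := ((H921.Spor.Suz.Suz_eleven.orb h11).bd h11 (cast_ne0 (F := F) p h11 (by omega))) 6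
      (H912.Bd.PR.of_perfect P hC.perfect h11 (by norm_num) e)
    omega
  · have := (H878.Sz.core_Suz hC e (by simp) p hp3).1
    simp at this

/-- the sporadic groups -/
theorem spor_row (hC : Core P) (h : H936.List12.SporC (Soc P)) : Out6 p P := by
  rcases h with h | h | h | h | h | h | h | h | h
  · rcases H6.M11.m11 hC p h (by simp) with h1 | ⟨h1, -⟩ | ⟨h1, -⟩
    · exact Or.inl h1
    · simp at h1
    · simp at h1
  · rcases H918.Six.M12.m12_six hC p h (by simp) with h1 | ⟨h1, h2⟩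
    · exact Or.inl h1
    · exact Or.inr (Or.inr (Or.inr (Or.inr (Or.inr (Or.inr (Or.inl ⟨h, h1, h2⟩))))))
  · have h' := h
    obtain ⟨e⟩ := h
    by_cases hp2 : p = 2
    · subst hp2
      rcases H921.M22.two e hC (by simp) with ⟨-, h1⟩ | ⟨h1, -⟩ | ⟨h1, -⟩
      · exact Or.inr (Or.inr (Or.inr (Or.inr (Or.inr (Or.inr (Or.inr (Or.inl ⟨h', rfl, h1⟩)))))))
      · simp at h1
      · simp at h1
    · have := m22_ge hC e (two_ne0 p hp2) (by simp)
      simp at this
  · obtain ⟨e⟩ := h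
    have := (H4.LDM.Stage.m23_low hC e p (by simp)).2.1
    simp at this
  · obtain ⟨e⟩ := h
    have := (H4.LDM.Stage.m24_low hC e p (by simp)).2.1
    simp at this
  · exact Or.inl (H1.TJ1.sd_iso hC h)
  · exact Or.inl (H1.TJ2.sd_iso hC h (by simp))
  · exact (j3_row p hC h).elim
  · exact (suz_row p hC h).elim

include hFp hp in
/-- **Cross characteristic.** -/
theorem cross6 (hC : Core P) (hk : IsKnownSimple' (Soc P)) (hL : ¬ IsLieTypeChar p (Soc P)) : OutX p P := by
  rcases H936.List12.list₂ (p := p) (n := 6) (by norm_num) hC hk hL with h | h | h | h | h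
  · obtain ⟨m, h5, h14, -, -, -, ⟨e⟩⟩ := h
    have hm : m = 5 ∨ m = 6 ∨ m = 7 ∨ 8 ≤ m := by omega
    rcases hm with rfl | rfl | rfl | hm
    · exact Or.inr (Or.inr (Or.inl (H937.T2.a5_sd hC e)))
    · exact Or.inr (Or.inl ⟨e⟩)
    · exact Or.inl ⟨e⟩
    · right; right; left
      refine (H614.AMod.Main.alt_sd_fr hC p e hm (by simp) ?_).1
      rintro ⟨rfl, rfl⟩
      exact hL (H219.HerSmall.lie_alt8 e)
  · right; right
    rcases h with ⟨q, hq, hpq, -, h⟩ | ⟨-, h1, -⟩ | ⟨h1, -, h⟩ | ⟨-, h1, -⟩ | ⟨h1, h2, -, h⟩ | ⟨-, h1, -⟩ |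
      ⟨-, h1, -⟩ | ⟨-, h1, -⟩ | ⟨-, h1, -⟩
    · exact l2_row p hC hq hpq h
    · omega
    · exact Or.inl (u33_row p hC h1 h)
    · omega
    · exact Or.inl (u42_row p hC h1 h2 h)
    · omega
    · omega
    · omega
    · omega
  · right; right
    rcases h with ⟨h1, -, h | h | ⟨h3, h⟩ | h | h | h⟩ | ⟨h1, -, h⟩
    · have hp7 : ¬ p ∣ 7 := by
        intro h7
        have := (Nat.prime_dvd_prime_iff_eq hp.out (by norm_num)).1 h7
        subst this
        exact hL (H936.List12.lie_of_isL hp.out (dvd_refl 7) le_rfl (by norm_num) h)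
      exact l2_row p hC (by decide) hp7 h
    · exact l34_row p hC h1 h
    · exact Or.inl (u42_row p hC h1 h3 h)
    · exact (s62_row p hC h1 (Or.inl h)).elim
    · exact (s62_row p hC h1 (Or.inr h)).elim
    · obtain ⟨K, i1, i2, hK, ⟨e⟩⟩ := h
      have := H937.G24.core_ge hK (two_ne0 p h1) e
      simp at this
    · exact u43_row p hC h1 h
  · omega
  · exact Or.inr (Or.inr (spor_row p hC h))

end

end Cfsg.Agent.H913.S6
end

-- part: H913/S6/Final
section
/-!
# Dimension six: the two rows, given the classification as a hypothesis (helper913)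
-/

set_option autoImplicit false
set_option linter.unusedSectionVars false
set_option linter.style.haveILetI false

namespace Cfsg.Agent.H913.S6

open Cfsg Cfsg.Geo Matrix
open H915.LD (Core Soc tr SD Fr Cj)
open H918.Six (Out6 Out6x IsL34 IsU43 nsc)

universe u

variable {F : Type u} [Field F] [Fintype F]

/-- the list in cross characteristic -/
theorem list6 (hk : ∀ (T : Type u) [Group T] [Finite T] [IsSimpleGroup T], IsKnownSimple' T) (p : ℕ)
    (hp : Fact p.Prime) (hFp : CharP F p) (P : Subgroup (GL (Fin 6) F)) (hC : Core P)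
    (hL : ¬ IsLieTypeChar p (Soc P)) : Out6x p P := by
  have := hC.simple
  exact cross6 p hC (hk _) hL

/-- `PSU_4`, `PSU_5` in their own characteristic -/
theorem psu45 (p : ℕ) (hp : Fact p.Prime) (hFp : CharP F p) (P : Subgroup (GL (Fin 6) F)) (hC : Core P)
    (K : Type) (i1 : Field K) (i2 : Fintype K) (i3 : CharP K p) (N q : ℕ) (hK : Fintype.card K = q ^ 2)
    (hN : N = 4 ∨ N = 5) (e : Soc P ≃* PSU N K q) : SD P := by
  rcases H876.D3.core_psu p K (by omega) (by simp) hK hC e with h | ⟨-, -, h⟩ | ⟨-, h, -⟩ | ⟨-, h⟩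
  · rw [Fintype.card_fin] at h
    omega
  · exact h
  · rw [Fintype.card_fin] at h
    omega
  · rw [Fintype.card_fin] at h
    omega

/-- **The linear row**, `S5800`. -/
theorem final5800 (hk : ∀ (T : Type u) [Group T] [Finite T] [IsSimpleGroup T], IsKnownSimple' T)
    (H : Subgroup (GL (Fin 6) F)) (hH : IsMaximalIn (specialLinear (Fin 6) F) H) (hS : InLinearResidualClass H) :
    ∃ (P : Subgroup (GL (Fin 6) F)) (p : ℕ), IsResidualCore H P ∧ p.Prime ∧ CharP F p ∧
    ((Nonempty (Soc P ≃* ProjectiveSpecialLinearGroup (Fin 2) (ZMod 11)) ∧ Fintype.card F = p ∧ p ≠ 3 ∧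
        (p % 11 = 1 ∨ p % 11 = 3 ∨ p % 11 = 4 ∨ p % 11 = 5 ∨ p % 11 = 9)) ∨
     (Nonempty (Soc P ≃* alternatingGroup (Fin 7)) ∧ ((Fintype.card F = p ∧ (p % 24 = 1 ∨ p % 24 = 7)) ∨
        (Fintype.card F = p ^ 2 ∧ (p % 24 = 5 ∨ p % 24 = 11 ∨ p % 24 = 13 ∨ p % 24 = 19)))) ∨
     (IsL34 (Soc P) ∧ Fintype.card F = p ∧ (p % 24 = 1 ∨ p % 24 = 19)) ∨
     (Cfsg.Spor.IsoM12 (Soc P) ∧ Fintype.card F = 3) ∨
     (IsU43 (Soc P) ∧ Fintype.card F = p ∧ (p % 12 = 1 ∨ p % 12 = 7)) ∨
     (Nonempty (Soc P ≃* Matrix.ProjectiveSpecialLinearGroup (Fin 3) F) ∧ Odd (Fintype.card F))) :=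
  H918.Six.row5800 hH hS (list6 hk)

/-- **The unitary row**, `S5803`. -/
theorem final5803 (hk : ∀ (T : Type u) [Group T] [Finite T] [IsSimpleGroup T], IsKnownSimple' T)
    (q : ℕ) (hF : Fintype.card F = q ^ 2) (H : Subgroup (GL (Fin 6) F))
    (hH : IsMaximalIn (GU 6 F q ⊓ specialLinear (Fin 6) F) H) (hS : InUnitaryResidualClass H) :
    ∃ P : Subgroup (GL (Fin 6) F), IsResidualCore H P ∧
    ((Nonempty (Soc P ≃* ProjectiveSpecialLinearGroup (Fin 2) (ZMod 11)) ∧ q.Prime ∧ q ≠ 2 ∧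
        (q % 11 = 2 ∨ q % 11 = 6 ∨ q % 11 = 7 ∨ q % 11 = 8 ∨ q % 11 = 10)) ∨
     (Nonempty (Soc P ≃* alternatingGroup (Fin 7)) ∧ q.Prime ∧ (q % 24 = 17 ∨ q % 24 = 23)) ∨
     (IsL34 (Soc P) ∧ q.Prime ∧ (q % 24 = 5 ∨ q % 24 = 23)) ∨
     (Cfsg.Spor.IsoM22 (Soc P) ∧ q = 2) ∨
     (IsU43 (Soc P) ∧ (q = 2 ∨ (q.Prime ∧ (q % 12 = 5 ∨ q % 12 = 11)))) ∨
     (Nonempty (Soc P ≃* Cfsg.PSU 3 F q) ∧ Odd q)) :=
  H918.Six.row5803 hF hH hS (list6 hk) (fun p hp hFp P hC => psu45 p hp hFp P hC)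

end Cfsg.Agent.H913.S6
end
end
end
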